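import Mathlib

/-! Geometric sums modulo odd prime powers and the symplectic plane over `ZMod q`. -/

set_option autoImplicit false

namespace Cfsg.Agent.H80

/-- `1 + x + ... + x^(m-1)` -/
def geo (x m : ℕ) : ℕ := ∑ t ∈ Finset.range m, x ^ t

theorem geo_zero (x : ℕ) : geo x 0 = 0 := by simp [geo]

theorem geo_one (x : ℕ) : geo x 1 = 1 := by simp [geo]

theorem geo_succ (x m : ℕ) : geo x (m + 1) = geo x m + x ^ m := by
  simp [geo, Finset.sum_range_succ]

theorem geo_add (x m k : ℕ) : geo x (m + k) = geo x m + x ^ m * geo x k := by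
  induction k with
  | zero => simp [geo_zero]
  | succ k ih => rw [← add_assoc, geo_succ, ih, geo_succ]; ring

theorem pow_eq_geo (s m : ℕ) : (1 + s) ^ m = 1 + s * geo (1 + s) m := by
  induction m with
  | zero => simp [geo_zero]
  | succ m ih => rw [geo_succ, pow_succ, mul_add s, ← add_assoc, ← ih]; ring

theorem geo_mul (x j m : ℕ) : geo x (j * m) = geo (x ^ j) m * geo x j := by
  induction m with
  | zero => simp [geo_zero]
  | succ m ih => rw [Nat.mul_succ, geo_add, ih, geo_succ, ← pow_mul]; ring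

theorem emultiplicity_geo {p : ℕ} (hp : p.Prime) (hp2 : p ≠ 2) {s : ℕ} (hs : p ∣ s) (m : ℕ) :
    emultiplicity p (geo (1 + s) m) = emultiplicity p m := by
  rcases Nat.eq_zero_or_pos s with rfl | hpos
  · simp [geo]
  have hx : ¬ p ∣ 1 + s := fun h => hp.one_lt.ne' (Nat.dvd_one.1 ((Nat.dvd_add_left hs).1 h))
  have h1 := Nat.emultiplicity_pow_sub_pow hp (hp.odd_of_ne_two hp2) (x := 1 + s) (y := 1)
    (by simpa using hs) hx m
  rw [one_pow, pow_eq_geo, Nat.add_sub_cancel_left, Nat.add_sub_cancel_left,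
    emultiplicity_mul hp.prime] at h1
  have hfin : emultiplicity p s ≠ ⊤ :=
    (Nat.finiteMultiplicity_iff.2 ⟨hp.ne_one, hpos⟩).emultiplicity_eq_multiplicity ▸ ENat.coe_ne_top _
  exact (WithTop.add_left_inj hfin).1 h1

theorem pow_dvd_geo_iff {p : ℕ} (hp : p.Prime) (hp2 : p ≠ 2) {s : ℕ} (hs : p ∣ s) (k m : ℕ) :
    p ^ k ∣ geo (1 + s) m ↔ p ^ k ∣ m := by
  rw [pow_dvd_iff_le_emultiplicity, pow_dvd_iff_le_emultiplicity, emultiplicity_geo hp hp2 hs]

theorem pow_dvd_mul_geo_iff {p : ℕ} (hp : p.Prime) (hp2 : p ≠ 2) {s : ℕ} (hs : p ∣ s) (k t m : ℕ) :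
    p ^ k ∣ t * geo (1 + s) m ↔ p ^ k ∣ t * m := by
  rw [pow_dvd_iff_le_emultiplicity, pow_dvd_iff_le_emultiplicity, emultiplicity_mul hp.prime,
    emultiplicity_mul hp.prime, emultiplicity_geo hp hp2 hs]

theorem exists_geo_modEq {p : ℕ} (hp : p.Prime) (hp2 : p ≠ 2) {s : ℕ} (hs : p ∣ s) (n t : ℕ) :
    ∃ m : ℕ, geo (1 + s) m ≡ t [MOD p ^ n] := by
  haveI : NeZero (p ^ n) := ⟨pow_ne_zero _ hp.ne_zero⟩
  have hx : ¬ p ∣ 1 + s := fun h => hp.one_lt.ne' (Nat.dvd_one.1 ((Nat.dvd_add_left hs).1 h))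
  let f : ZMod (p ^ n) → ZMod (p ^ n) := fun x => (geo (1 + s) x.val : ZMod (p ^ n))
  have key : ∀ u v : ℕ, u ≤ v → v < p ^ n → geo (1 + s) u ≡ geo (1 + s) v [MOD p ^ n] → u = v := by
    intro u v huv hv h
    obtain ⟨d, rfl⟩ := Nat.exists_eq_add_of_le huv
    rw [geo_add] at h
    have h2 : p ^ n ∣ (1 + s) ^ u * geo (1 + s) d := by
      have := (Nat.modEq_iff_dvd' (Nat.le_add_right _ _)).1 h
      rwa [Nat.add_sub_cancel_left] at this
    have hc : Nat.Coprime (p ^ n) ((1 + s) ^ u) :=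
      Nat.Coprime.pow _ _ ((Nat.Prime.coprime_iff_not_dvd hp).2 hx)
    have h3 := (pow_dvd_geo_iff hp hp2 hs _ _).1 (hc.dvd_of_dvd_mul_left h2)
    have : d = 0 := Nat.eq_zero_of_dvd_of_lt h3 (by omega)
    omega
  have hinj : Function.Injective f := by
    intro x y hxy
    have h := (ZMod.natCast_eq_natCast_iff _ _ _).1 hxy
    apply ZMod.val_injective
    rcases le_total x.val y.val with h1 | h1
    · exact key _ _ h1 (ZMod.val_lt y) h
    · exact (key _ _ h1 (ZMod.val_lt x) h.symm).symm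
  obtain ⟨x, hx⟩ := Finite.surjective_of_injective hinj (t : ZMod (p ^ n))
  exact ⟨x.val, (ZMod.natCast_eq_natCast_iff _ _ _).1 hx⟩

/-- the determinant form on `ZMod q × ZMod q` -/
def det2 {q : ℕ} (v w : ZMod q × ZMod q) : ZMod q := v.1 * w.2 - v.2 * w.1

/-- the annihilator of a subgroup under `det2` -/
def perp {q : ℕ} (W : AddSubgroup (ZMod q × ZMod q)) : AddSubgroup (ZMod q × ZMod q) where
  carrier := {u | ∀ w ∈ W, det2 w u = 0}
  zero_mem' := by intro w _; simp [det2]
  add_mem' := by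
    intro a b ha hb w hw
    have h1 := ha w hw
    have h2 := hb w hw
    simp only [det2, Prod.fst_add, Prod.snd_add] at *
    linear_combination h1 + h2
  neg_mem' := by
    intro a ha w hw
    have h1 := ha w hw
    simp only [det2, Prod.fst_neg, Prod.snd_neg] at *
    linear_combination -h1

theorem mem_perp {q : ℕ} {W : AddSubgroup (ZMod q × ZMod q)} {u : ZMod q × ZMod q} :
    u ∈ perp W ↔ ∀ w ∈ W, det2 w u = 0 := Iff.rfl

theorem card_mul_card_perp {q : ℕ} [NeZero q] (W : AddSubgroup (ZMod q × ZMod q)) :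
    Nat.card W * Nat.card (perp W) = q ^ 2 := by
  classical
  haveI : Fintype W := Fintype.ofFinite _
  let ψ : AddChar (ZMod q) ℂ := ZMod.stdAddChar
  have hψ : ∀ t : ZMod q, ψ t = 1 → t = 0 := by
    intro t ht
    apply ZMod.injective_stdAddChar
    rw [AddChar.map_zero_eq_one]; exact ht
  -- characters of `V`
  let χ : (ZMod q × ZMod q) → AddChar (ZMod q × ZMod q) ℂ := fun w =>
    { toFun := fun u => ψ (det2 w u)
      map_zero_eq_one' := by simp [det2]
      map_add_eq_mul' := by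
        intro a b
        rw [← AddChar.map_add_eq_mul]
        congr 1
        simp only [det2, Prod.fst_add, Prod.snd_add]; ring }
  let θ : (ZMod q × ZMod q) → AddChar W ℂ := fun u =>
    { toFun := fun w => ψ (det2 (w : ZMod q × ZMod q) u)
      map_zero_eq_one' := by simp [det2]
      map_add_eq_mul' := by
        intro a b
        rw [← AddChar.map_add_eq_mul]
        congr 1
        simp only [det2, AddSubgroup.coe_add, Prod.fst_add, Prod.snd_add]; ring }
  have h1 : ∀ w : W, ∑ u, ψ (det2 (w : ZMod q × ZMod q) u) = if w = 0 then ((q ^ 2 : ℕ) : ℂ) else 0 := by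
    intro w
    have := AddChar.sum_eq_ite (χ w)
    change ∑ u, ψ (det2 (w : ZMod q × ZMod q) u) = _ at this
    rw [this]
    have hiff : χ w = 0 ↔ w = 0 := by
      constructor
      · intro h
        have e1 : ψ (det2 (w : ZMod q × ZMod q) (0, 1)) = 1 := by
          change χ w (0, 1) = 1
          rw [h]; rfl
        have e2 : ψ (det2 (w : ZMod q × ZMod q) (1, 0)) = 1 := by
          change χ w (1, 0) = 1
          rw [h]; rfl
        have f1 := hψ _ e1
        have f2 := hψ _ e2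
        simp only [det2, mul_one, mul_zero, sub_zero, zero_sub, neg_eq_zero] at f1 f2
        exact Subtype.ext (Prod.ext f1 f2)
      · rintro rfl
        ext u
        change ψ (det2 _ u) = 1
        simp [det2]
    simp only [hiff, Fintype.card_prod, ZMod.card, sq]
  have h2 : ∀ u : ZMod q × ZMod q, ∑ w : W, ψ (det2 (w : ZMod q × ZMod q) u) =
      if u ∈ perp W then ((Fintype.card W : ℕ) : ℂ) else 0 := by
    intro u
    have := AddChar.sum_eq_ite (θ u)
    change ∑ w : W, ψ (det2 (w : ZMod q × ZMod q) u) = _ at this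
    rw [this]
    have hiff : θ u = 0 ↔ u ∈ perp W := by
      constructor
      · intro h w hw
        apply hψ
        change θ u ⟨w, hw⟩ = 1
        rw [h]; rfl
      · intro h
        ext w
        change ψ (det2 _ u) = 1
        rw [h _ w.2, AddChar.map_zero_eq_one]
    simp only [hiff]
  have h3 : ∑ w : W, ∑ u, ψ (det2 (w : ZMod q × ZMod q) u) =
      ∑ u, ∑ w : W, ψ (det2 (w : ZMod q × ZMod q) u) := Finset.sum_comm
  simp only [h1, h2, Finset.sum_ite_eq', Finset.mem_univ, if_true] at h3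
  rw [← Finset.sum_filter, Finset.sum_const, nsmul_eq_mul] at h3
  have h4 : (Finset.univ.filter fun u => u ∈ perp W).card = Nat.card (perp W) := by
    rw [Nat.card_eq_fintype_card, Fintype.card_subtype]
  rw [h4] at h3
  rw [Nat.card_eq_fintype_card, mul_comm]
  exact_mod_cast h3.symm

theorem le_perp_perp {q : ℕ} (W : AddSubgroup (ZMod q × ZMod q)) : W ≤ perp (perp W) := by
  intro w hw u hu
  have := hu w hw
  simp only [det2] at *
  linear_combination -this

theorem perp_perp {q : ℕ} [NeZero q] (W : AddSubgroup (ZMod q × ZMod q)) : perp (perp W) = W := by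
  symm
  apply AddSubgroup.eq_of_le_of_card_ge (le_perp_perp W)
  have h1 := card_mul_card_perp W
  have h2 := card_mul_card_perp (perp W)
  rw [← h1, mul_comm] at h2
  exact (Nat.eq_of_mul_eq_mul_right Nat.card_pos h2).le

theorem card_nsmul_eq_zero {p : ℕ} (hp : p.Prime) {n i : ℕ} (hi : i ≤ n) :
    Nat.card {v : ZMod (p ^ n) × ZMod (p ^ n) // p ^ i • v = 0} = p ^ (2 * i) := by
  haveI : NeZero (p ^ n) := ⟨pow_ne_zero _ hp.ne_zero⟩
  have h1 : Nat.card {x : ZMod (p ^ n) // p ^ i • x = 0} = p ^ i := by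
    have := IsAddCyclic.card_nsmulAddMonoidHom_ker (G := ZMod (p ^ n)) (p ^ i)
    rw [Nat.card_zmod, Nat.gcd_eq_right (pow_dvd_pow p hi)] at this
    exact this
  have e : {v : ZMod (p ^ n) × ZMod (p ^ n) // p ^ i • v = 0} ≃
      {x : ZMod (p ^ n) // p ^ i • x = 0} × {x : ZMod (p ^ n) // p ^ i • x = 0} :=
    { toFun := fun v => (⟨v.1.1, congrArg Prod.fst v.2⟩, ⟨v.1.2, congrArg Prod.snd v.2⟩)
      invFun := fun x => ⟨(x.1.1, x.2.1), Prod.ext x.1.2 x.2.2⟩
      left_inv := fun v => rfl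
      right_inv := fun v => rfl }
  rw [Nat.card_congr e, Nat.card_prod, h1, ← pow_add, two_mul]

end Cfsg.Agent.H80
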