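import Mathlib
import Cfsg.Prelude.Def_OddOrderLocal
import Cfsg.Agent.H80.Geom

/-! Coordinates on a metacyclic `p`-group, `p` odd. -/

set_option autoImplicit false

namespace Cfsg.Agent.H80

open Subgroup
open scoped commutatorElement

/-- A presentation datum `G = ⟨a⟩⟨b⟩`, `b a b⁻¹ = a ^ (1 + s)`, `p ∣ s`. -/
structure MC (p : ℕ) (G : Type*) [Group G] where
  a : G
  b : G
  s : ℕ
  conj : b * a * b⁻¹ = a ^ (1 + s)
  dvd : p ∣ s
  gen : ∀ g : G, ∃ i j : ℕ, g = a ^ i * b ^ j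

variable {G : Type*} [Group G] {p : ℕ}

theorem exists_MC [Finite G] [hp : Fact p.Prime] (hG : IsPGroup p G) (h : Cfsg.IsMetacyclic G) :
    Nonempty (MC p G) := by
  obtain ⟨N, hN, hc, hq⟩ := h
  obtain ⟨⟨a, haN⟩, ha⟩ := IsCyclic.exists_monoid_generator (α := N)
  obtain ⟨β, hβ⟩ := IsCyclic.exists_monoid_generator (α := G ⧸ N)
  obtain ⟨b, rfl⟩ := QuotientGroup.mk_surjective β
  have hNa : ∀ x ∈ N, ∃ i : ℕ, x = a ^ i := by
    intro x hx
    obtain ⟨i, hi⟩ := ha ⟨x, hx⟩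
    exact ⟨i, by simpa using (congrArg Subtype.val hi).symm⟩
  have gen : ∀ g : G, ∃ i j : ℕ, g = a ^ i * b ^ j := by
    intro g
    obtain ⟨j, hj⟩ := hβ (g : G ⧸ N)
    have : g * (b ^ j)⁻¹ ∈ N := by
      rw [← QuotientGroup.eq_one_iff]
      simp only at hj
      simp [← hj]
    obtain ⟨i, hi⟩ := hNa _ this
    exact ⟨i, j, by rw [← hi]; simp⟩
  obtain ⟨r, hr⟩ := hNa _ (hN.conj_mem a haN b)
  by_cases h1 : a = 1
  · exact ⟨⟨a, b, 0, by simp [h1], dvd_zero _, gen⟩⟩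
  have hpow : ∀ j : ℕ, b ^ j * a * (b ^ j)⁻¹ = a ^ (r ^ j) := by
    intro j
    induction j with
    | zero => simp
    | succ j ih =>
      rw [pow_succ' b, mul_inv_rev, show b * b ^ j * a * ((b ^ j)⁻¹ * b⁻¹) =
        b * (b ^ j * a * (b ^ j)⁻¹) * b⁻¹ by group, ih, ← conj_pow, hr, ← pow_mul, ← pow_succ']
  obtain ⟨k, hk⟩ := hG b
  have h2 := hpow (p ^ k)
  rw [hk, one_mul, inv_one, mul_one] at h2
  have h3 : 1 ≡ r ^ p ^ k [MOD orderOf a] := by
    rw [← pow_eq_pow_iff_modEq, pow_one]; exact h2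
  have hpa : p ∣ orderOf a := by
    obtain ⟨m, hm⟩ := (IsPGroup.iff_orderOf.1 hG) a
    rcases m with _ | m
    · exact absurd (orderOf_eq_one_iff.1 (by simpa using hm)) h1
    · rw [hm]; exact dvd_pow_self _ (Nat.succ_ne_zero _)
  have h4 : 1 ≡ r [MOD p] := by
    have h5 := h3.of_dvd hpa
    rw [← ZMod.natCast_eq_natCast_iff] at h5 ⊢
    push_cast at h5 ⊢
    rwa [ZMod.pow_card_pow] at h5
  have hr0 : 1 ≤ r := by
    rcases Nat.eq_zero_or_pos r with rfl | h
    · exact absurd (Nat.dvd_one.1 ((Nat.modEq_zero_iff_dvd).1 h4)) hp.out.ne_one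
    · exact h
  refine ⟨⟨a, b, r - 1, ?_, (Nat.modEq_iff_dvd' hr0).1 h4, gen⟩⟩
  rw [hr]; congr 1; omega

namespace MC

variable (M : MC p G)

/-- the generator of the derived subgroup -/
def c : G := M.a ^ M.s

/-- `[j] = 1 + r + ... + r^(j-1)` -/
def br (j : ℕ) : ℕ := geo (1 + M.s) j

theorem conj_pow (j k : ℕ) : M.b ^ j * M.a ^ k = M.a ^ (k * (1 + M.s) ^ j) * M.b ^ j := by
  induction j generalizing k with
  | zero => simp
  | succ j ih =>
    have h : M.b * M.a ^ k = M.a ^ (k * (1 + M.s)) * M.b := by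
      rw [mul_comm k, pow_mul, ← M.conj, _root_.conj_pow]; simp
    rw [pow_succ M.b, mul_assoc, h, ← mul_assoc, ih, mul_assoc, mul_assoc k, ← pow_succ']

theorem mul_eq (i j k l : ℕ) : (M.a ^ i * M.b ^ j) * (M.a ^ k * M.b ^ l) =
    M.a ^ (i + k * (1 + M.s) ^ j) * M.b ^ (j + l) := by
  rw [mul_assoc, ← mul_assoc (M.b ^ j), M.conj_pow, pow_add, pow_add]; group

theorem pow_eq (i j m : ℕ) : (M.a ^ i * M.b ^ j) ^ m =
    M.a ^ (i * geo ((1 + M.s) ^ j) m) * M.b ^ (j * m) := by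
  induction m with
  | zero => simp [geo_zero]
  | succ m ih => rw [pow_succ, ih, M.mul_eq, geo_succ, mul_add, ← pow_mul, Nat.mul_succ]

theorem r_pow (j : ℕ) : (1 + M.s) ^ j = 1 + M.s * M.br j := pow_eq_geo _ _

theorem dvd_mul_br (j : ℕ) : p ∣ M.s * M.br j := Dvd.dvd.mul_right M.dvd _

theorem mul_eq_c (i j k l : ℕ) : (M.a ^ i * M.b ^ j) * (M.a ^ k * M.b ^ l) =
    M.c ^ (k * M.br j) * (M.a ^ (i + k) * M.b ^ (j + l)) := by
  rw [M.mul_eq, M.r_pow, c, ← pow_mul, ← mul_assoc, ← pow_add]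
  congr 2; ring

theorem commute_iff (i j k l : ℕ) : (M.a ^ i * M.b ^ j) * (M.a ^ k * M.b ^ l) =
    (M.a ^ k * M.b ^ l) * (M.a ^ i * M.b ^ j) ↔ k * M.br j ≡ i * M.br l [MOD orderOf M.c] := by
  rw [M.mul_eq_c, M.mul_eq_c, add_comm k i, add_comm l j, mul_left_inj, pow_eq_pow_iff_modEq]

theorem br_zero : M.br 0 = 0 := geo_zero _
theorem br_one : M.br 1 = 1 := geo_one _

theorem zpowers_a_normal [Finite G] : (zpowers M.a).Normal := by
  constructor
  intro x hx g
  obtain ⟨k, rfl⟩ := (mem_powers_iff_mem_zpowers).2 hx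
  obtain ⟨i, j, rfl⟩ := M.gen g
  have : M.a ^ i * M.b ^ j * M.a ^ k * (M.a ^ i * M.b ^ j)⁻¹ = M.a ^ (k * (1 + M.s) ^ j) := by
    rw [mul_assoc (M.a ^ i), M.conj_pow, mul_inv_eq_iff_eq_mul, ← mul_assoc, ← mul_assoc,
      ← pow_add, ← pow_add, add_comm]
  simp only
  rw [this]
  exact pow_mem (mem_zpowers _) _

theorem commutator_eq [Finite G] : commutator G = zpowers M.c := by
  apply le_antisymm
  · rw [commutator_def, commutator_le]
    intro g _ h _
    obtain ⟨i, j, rfl⟩ := M.gen g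
    obtain ⟨k, l, rfl⟩ := M.gen h
    have : ⁅M.a ^ i * M.b ^ j, M.a ^ k * M.b ^ l⁆ =
        ((M.a ^ i * M.b ^ j) * (M.a ^ k * M.b ^ l)) * ((M.a ^ k * M.b ^ l) * (M.a ^ i * M.b ^ j))⁻¹ := by
      rw [commutatorElement_def]; group
    rw [this, M.mul_eq_c, M.mul_eq_c, add_comm k i, add_comm l j, mul_inv_rev, mul_assoc,
      mul_inv_cancel_left]
    exact mul_mem (pow_mem (mem_zpowers _) _) (inv_mem (pow_mem (mem_zpowers _) _))
  · rw [zpowers_le]
    have : M.c = ⁅M.b, M.a⁆ := by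
      rw [commutatorElement_def, M.conj, c, add_comm, pow_succ]; simp
    rw [this]
    exact commutator_mem_commutator (mem_top _) (mem_top _)

theorem card_commutator [Finite G] : Nat.card (commutator G) = orderOf M.c := by
  rw [M.commutator_eq, Nat.card_zpowers]

/-- the coordinate map -/
noncomputable def phi (q : ℕ) (g : G) : ZMod q × ZMod q :=
  (((M.gen g).choose : ℕ), (M.br (M.gen g).choose_spec.choose : ℕ))

theorem coord_unique {i j k l : ℕ} (h : M.a ^ i * M.b ^ j = M.a ^ k * M.b ^ l) :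
    i ≡ k [MOD orderOf M.c] ∧ M.br j ≡ M.br l [MOD orderOf M.c] := by
  constructor
  · have h1 := M.mul_eq_c 0 1 i j
    have h2 := M.mul_eq_c 0 1 k l
    rw [h, h2, M.br_one, mul_one, mul_one, zero_add, zero_add, add_comm 1, add_comm 1,
      pow_succ, pow_succ, ← mul_assoc (M.a ^ k), ← mul_assoc (M.a ^ i), h, mul_left_inj,
      pow_eq_pow_iff_modEq] at h1
    exact h1.symm
  · have h1 := M.mul_eq_c i j 1 0
    have h2 := M.mul_eq_c k l 1 0
    rw [h, h2, one_mul, one_mul, add_zero, add_zero, pow_succ', pow_succ', mul_assoc M.a,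
      mul_assoc M.a, h, mul_left_inj, pow_eq_pow_iff_modEq] at h1
    exact h1.symm

variable {q : ℕ}

theorem phi_eq (hq : orderOf M.c = q) (i j : ℕ) :
    M.phi q (M.a ^ i * M.b ^ j) = ((i : ZMod q), (M.br j : ZMod q)) := by
  have h := (M.gen (M.a ^ i * M.b ^ j)).choose_spec.choose_spec
  obtain ⟨h1, h2⟩ := M.coord_unique h
  rw [hq] at h1 h2
  exact Prod.ext ((ZMod.natCast_eq_natCast_iff _ _ _).2 h1.symm)
    ((ZMod.natCast_eq_natCast_iff _ _ _).2 h2.symm)

theorem commute_iff_det (hq : orderOf M.c = q) (g h : G) :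
    g * h = h * g ↔ det2 (M.phi q g) (M.phi q h) = 0 := by
  obtain ⟨i, j, rfl⟩ := M.gen g
  obtain ⟨k, l, rfl⟩ := M.gen h
  rw [M.commute_iff, M.phi_eq hq, M.phi_eq hq, hq, ← ZMod.natCast_eq_natCast_iff, det2,
    sub_eq_zero]
  push_cast
  rw [mul_comm (k : ZMod q)]
  exact eq_comm

theorem phi_mul (hq : orderOf M.c = q) (i j : ℕ) (h : G) :
    M.phi q (M.a ^ i * M.b ^ j * h) = M.phi q (M.a ^ i * M.b ^ j) + (1 + M.s) ^ j • M.phi q h := by
  obtain ⟨k, l, rfl⟩ := M.gen h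
  rw [M.mul_eq, M.phi_eq hq, M.phi_eq hq, M.phi_eq hq, br, geo_add]
  ext
  · simp [mul_comm]
  · simp [br]

theorem phi_pow (hq : orderOf M.c = q) (i j m : ℕ) :
    M.phi q ((M.a ^ i * M.b ^ j) ^ m) = geo ((1 + M.s) ^ j) m • M.phi q (M.a ^ i * M.b ^ j) := by
  rw [M.pow_eq, M.phi_eq hq, M.phi_eq hq, br, geo_mul]
  ext
  · simp [mul_comm]
  · simp [br]

theorem phi_one (hq : orderOf M.c = q) : M.phi q 1 = 0 := by
  have := M.phi_eq hq 0 0
  simp only [pow_zero, mul_one, br_zero, Nat.cast_zero] at this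
  exact this

theorem phi_a (hq : orderOf M.c = q) : M.phi q M.a = (1, 0) := by
  have := M.phi_eq hq 1 0
  simpa [br_zero] using this

theorem phi_b (hq : orderOf M.c = q) : M.phi q M.b = (0, 1) := by
  have := M.phi_eq hq 0 1
  simpa [br_one] using this

theorem mem_center_iff (hq : orderOf M.c = q) (g : G) : g ∈ center G ↔ M.phi q g = 0 := by
  rw [Subgroup.mem_center_iff]
  constructor
  · intro h
    have h1 := (M.commute_iff_det hq _ _).1 (h M.a)
    have h2 := (M.commute_iff_det hq _ _).1 (h M.b)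
    rw [M.phi_a hq, det2] at h1
    rw [M.phi_b hq, det2] at h2
    ext
    · simpa using h2
    · simpa using h1
  · intro h x
    rw [M.commute_iff_det hq, h]; simp [det2]

theorem phi_eq_phi_iff (hq : orderOf M.c = q) (g h : G) :
    M.phi q g = M.phi q h ↔ g⁻¹ * h ∈ center G := by
  rw [M.mem_center_iff hq]
  obtain ⟨i, j, rfl⟩ := M.gen g
  have h1 := M.phi_mul hq i j ((M.a ^ i * M.b ^ j)⁻¹ * h)
  rw [mul_inv_cancel_left] at h1
  constructor
  · intro h2
    rw [← M.mem_center_iff hq, Subgroup.mem_center_iff]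
    set g := M.a ^ i * M.b ^ j
    obtain ⟨k, l, hkl⟩ := M.gen h
    have hb : M.b * (g⁻¹ * h) = (g⁻¹ * h) * M.b ∧ M.a * (g⁻¹ * h) = (g⁻¹ * h) * M.a := by
      rw [hkl, M.phi_eq hq, M.phi_eq hq, Prod.mk.injEq, ZMod.natCast_eq_natCast_iff,
        ZMod.natCast_eq_natCast_iff, ← hq, ← pow_eq_pow_iff_modEq, ← pow_eq_pow_iff_modEq] at h2
      have e1 : M.b * g = M.c ^ i * (g * M.b) := by
        have := M.mul_eq_c 0 1 i j
        simp only [pow_zero, pow_one, one_mul, M.br_one, mul_one, zero_add] at this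
        rw [this, add_comm, pow_succ, ← mul_assoc (M.a ^ i)]
      have e2 : M.b * h = M.c ^ k * (h * M.b) := by
        have := M.mul_eq_c 0 1 k l
        simp only [pow_zero, pow_one, one_mul, M.br_one, mul_one, zero_add] at this
        rw [hkl, this, add_comm, pow_succ, ← mul_assoc (M.a ^ k)]
      have e3 : g * M.a = M.c ^ M.br j * (M.a * g) := by
        have := M.mul_eq_c i j 1 0
        simp only [pow_zero, pow_one, one_mul, mul_one, add_zero] at this
        rw [this, pow_succ', mul_assoc M.a]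
      have e4 : h * M.a = M.c ^ M.br l * (M.a * h) := by
        have := M.mul_eq_c k l 1 0
        simp only [pow_zero, pow_one, one_mul, mul_one, add_zero] at this
        rw [hkl, this, pow_succ', mul_assoc M.a]
      rw [← h2.1] at e2
      rw [← h2.2] at e4
      constructor
      · have f1 : M.c ^ i = M.b * g * (g * M.b)⁻¹ := by rw [e1]; group
        rw [f1] at e2
        calc M.b * (g⁻¹ * h) = g * (g⁻¹ * M.b * g⁻¹) * h := by group
          _ = _ := by
            have : h * M.b = (g * M.b) * g⁻¹ * h := by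
              calc h * M.b = (M.b * g * (g * M.b)⁻¹)⁻¹ * (M.b * h) := by rw [e2]; group
                _ = _ := by group
            rw [mul_assoc g⁻¹ h, this]; group
      · have f1 : M.c ^ M.br j = g * M.a * (M.a * g)⁻¹ := by rw [e3]; group
        rw [f1] at e4
        rw [mul_assoc g⁻¹ h, e4]; group
    intro x
    obtain ⟨u, v, rfl⟩ := M.gen x
    exact ((Commute.pow_left hb.2 u).mul_left (Commute.pow_left hb.1 v)).eq
  · intro h2
    rw [h1, h2]; simp

variable [Finite G] [hp : Fact p.Prime] {n : ℕ}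

omit [Finite G] in
theorem exists_pow_phi (hp2 : p ≠ 2) (hq : orderOf M.c = p ^ n) (g : G) (t : ℕ) :
    ∃ m : ℕ, M.phi (p ^ n) (g ^ m) = t • M.phi (p ^ n) g := by
  obtain ⟨i, j, rfl⟩ := M.gen g
  obtain ⟨m, hm⟩ := exists_geo_modEq hp.out hp2 (M.dvd_mul_br j) n t
  refine ⟨m, ?_⟩
  rw [M.phi_pow hq, M.r_pow, ← Nat.cast_smul_eq_nsmul (ZMod (p ^ n)),
    (ZMod.natCast_eq_natCast_iff _ _ _).2 hm, Nat.cast_smul_eq_nsmul]

omit [Finite G] in
theorem phi_surjective (hp2 : p ≠ 2) (hq : orderOf M.c = p ^ n) :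
    Function.Surjective (M.phi (p ^ n)) := by
  have : NeZero (p ^ n) := ⟨pow_ne_zero _ hp.out.ne_zero⟩
  rintro ⟨x, y⟩
  obtain ⟨m, hm⟩ := exists_geo_modEq hp.out hp2 M.dvd n y.val
  refine ⟨M.a ^ x.val * M.b ^ m, ?_⟩
  rw [M.phi_eq hq, br, (ZMod.natCast_eq_natCast_iff _ _ _).2 hm]
  simp

/-- preimage of a subgroup of the plane -/
def pre (hq : orderOf M.c = q) (W : AddSubgroup (ZMod q × ZMod q)) : Subgroup G where
  carrier := {g | M.phi q g ∈ W}
  one_mem' := by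
    change M.phi q 1 ∈ W
    rw [M.phi_one hq]; exact zero_mem _
  mul_mem' := by
    intro g h hg hh
    obtain ⟨i, j, rfl⟩ := M.gen g
    change M.phi q _ ∈ W
    rw [M.phi_mul hq]
    exact add_mem hg (nsmul_mem hh _)
  inv_mem' := by
    intro g hg
    obtain ⟨i, j, rfl⟩ := M.gen g
    change M.phi q _ ∈ W
    have : (M.a ^ i * M.b ^ j)⁻¹ = (M.a ^ i * M.b ^ j) ^ (orderOf (M.a ^ i * M.b ^ j) - 1) := by
      rw [inv_eq_iff_mul_eq_one, ← pow_succ', Nat.sub_add_cancel (orderOf_pos _), pow_orderOf_eq_one]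
    rw [this, M.phi_pow hq]
    exact nsmul_mem hg _

omit hp in
theorem mem_pre (hq : orderOf M.c = q) {W : AddSubgroup (ZMod q × ZMod q)} {g : G} :
    g ∈ M.pre hq W ↔ M.phi q g ∈ W := Iff.rfl

/-- image of a subgroup in the plane -/
def img (hp2 : p ≠ 2) (hq : orderOf M.c = p ^ n) (L : Subgroup G) :
    AddSubgroup (ZMod (p ^ n) × ZMod (p ^ n)) where
  carrier := M.phi (p ^ n) '' L
  zero_mem' := ⟨1, one_mem _, M.phi_one hq⟩
  add_mem' := by
    have : NeZero (p ^ n) := ⟨pow_ne_zero _ hp.out.ne_zero⟩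
    rintro _ _ ⟨g, hg, rfl⟩ ⟨h, hh, rfl⟩
    obtain ⟨i, j, rfl⟩ := M.gen g
    have hu : IsUnit (((1 + M.s) ^ j : ℕ) : ZMod (p ^ n)) := by
      rw [ZMod.isUnit_iff_coprime]
      apply Nat.Coprime.pow
      exact ((Nat.Prime.coprime_iff_not_dvd hp.out).2 fun h =>
        hp.out.one_lt.ne' (Nat.dvd_one.1 ((Nat.dvd_add_left M.dvd).1 h))).symm
    obtain ⟨t, ht⟩ := hu.exists_right_inv
    obtain ⟨m, hm⟩ := M.exists_pow_phi hp2 hq h t.val
    refine ⟨M.a ^ i * M.b ^ j * h ^ m, mul_mem hg (pow_mem hh _), ?_⟩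
    rw [M.phi_mul hq, hm, ← Nat.cast_smul_eq_nsmul (ZMod (p ^ n)),
      ← Nat.cast_smul_eq_nsmul (ZMod (p ^ n)), smul_smul, ZMod.natCast_zmod_val, ht, one_smul]
  neg_mem' := by
    have : NeZero (p ^ n) := ⟨pow_ne_zero _ hp.out.ne_zero⟩
    rintro _ ⟨g, hg, rfl⟩
    obtain ⟨m, hm⟩ := M.exists_pow_phi hp2 hq g (-1 : ZMod (p ^ n)).val
    refine ⟨g ^ m, pow_mem hg _, ?_⟩
    rw [hm, ← Nat.cast_smul_eq_nsmul (ZMod (p ^ n)), ZMod.natCast_zmod_val, neg_one_smul]

omit [Finite G] in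
theorem mem_img (hp2 : p ≠ 2) (hq : orderOf M.c = p ^ n) {L : Subgroup G}
    {v : ZMod (p ^ n) × ZMod (p ^ n)} : v ∈ M.img hp2 hq L ↔ ∃ g ∈ L, M.phi (p ^ n) g = v := Iff.rfl

omit hp in
/-- counting through the fibres of `phi` -/
theorem card_fibres (hq : orderOf M.c = q) (L : Subgroup G) (S : Set (ZMod q × ZMod q))
    (hS : S ⊆ M.phi q '' L) :
    Nat.card {g : G // g ∈ L ∧ M.phi q g ∈ S} = Nat.card ↥(center G ⊓ L) * Nat.card S := by
  classical
  choose f hfL hf using hS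
  let e : {g : G // g ∈ L ∧ M.phi q g ∈ S} ≃ ↥(center G ⊓ L) × S :=
    { toFun := fun g => (⟨(f g.2.2)⁻¹ * g, mem_inf.2 ⟨(M.phi_eq_phi_iff hq _ _).1 (hf _),
        L.mul_mem (L.inv_mem (hfL _)) g.2.1⟩⟩, ⟨M.phi q g, g.2.2⟩)
      invFun := fun x => ⟨f x.2.2 * x.1, L.mul_mem (hfL _) (mem_inf.1 x.1.2).2, by
        have : M.phi q (f x.2.2) = M.phi q (f x.2.2 * x.1) :=
          (M.phi_eq_phi_iff hq _ _).2 (by rw [inv_mul_cancel_left]; exact (mem_inf.1 x.1.2).1)
        rw [← this, hf]; exact x.2.2⟩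
      left_inv := fun g => by simp
      right_inv := fun x => by
        have h1 : M.phi q (f x.2.2 * x.1) = x.2 := by
          have : M.phi q (f x.2.2) = M.phi q (f x.2.2 * x.1) :=
            (M.phi_eq_phi_iff hq _ _).2 (by rw [inv_mul_cancel_left]; exact (mem_inf.1 x.1.2).1)
          rw [← this, hf]
        refine Prod.ext (Subtype.ext ?_) (Subtype.ext h1)
        have h2 : ∀ (u v : ZMod q × ZMod q) (hu : u ∈ S) (hv : v ∈ S), u = v → f hu = f hv := by
          intro u v hu hv h; subst h; rfl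
        simp only
        rw [h2 _ _ _ x.2.2 h1]; simp }
  rw [Nat.card_congr e, Nat.card_prod]

theorem card_eq_img (hp2 : p ≠ 2) (hq : orderOf M.c = p ^ n) (L : Subgroup G) :
    Nat.card L = Nat.card ↥(center G ⊓ L) * Nat.card (M.img hp2 hq L) := by
  rw [← SetLike.coe_sort_coe (M.img hp2 hq L),
    ← M.card_fibres hq L (M.img hp2 hq L : Set _) (fun _ h => h)]
  exact Nat.card_congr (Equiv.subtypeEquivRight fun g =>
    ⟨fun h => ⟨h, g, h, rfl⟩, fun h => h.1⟩)

theorem card_preimage (hp2 : p ≠ 2) (hq : orderOf M.c = p ^ n)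
    (S : Set (ZMod (p ^ n) × ZMod (p ^ n))) :
    Nat.card {g : G // M.phi (p ^ n) g ∈ S} = Nat.card (center G) * Nat.card S := by
  have := M.card_fibres hq ⊤ S (fun v _ => by
    obtain ⟨g, hg⟩ := M.phi_surjective hp2 hq v
    exact ⟨g, mem_top _, hg⟩)
  rw [inf_top_eq] at this
  rw [← this]
  exact Nat.card_congr (Equiv.subtypeEquivRight fun g => by simp)

theorem card_pre (hp2 : p ≠ 2) (hq : orderOf M.c = p ^ n)
    (W : AddSubgroup (ZMod (p ^ n) × ZMod (p ^ n))) :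
    Nat.card (M.pre hq W) = Nat.card (center G) * Nat.card W :=
  M.card_preimage hp2 hq W

theorem card_eq (hp2 : p ≠ 2) (hq : orderOf M.c = p ^ n) :
    Nat.card G = Nat.card (center G) * (p ^ n) ^ 2 := by
  have := M.card_preimage hp2 hq Set.univ
  simpa [sq] using this

theorem centralizer_eq (hp2 : p ≠ 2) (hq : orderOf M.c = p ^ n) (L : Subgroup G) :
    centralizer (L : Set G) = M.pre hq (perp (M.img hp2 hq L)) := by
  ext g
  rw [mem_centralizer_iff, mem_pre, mem_perp]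
  constructor
  · rintro h _ ⟨x, hx, rfl⟩
    exact (M.commute_iff_det hq _ _).1 (h x hx)
  · intro h x hx
    exact (M.commute_iff_det hq _ _).2 (h _ ⟨x, hx, rfl⟩)

theorem img_pre (hp2 : p ≠ 2) (hq : orderOf M.c = p ^ n)
    (W : AddSubgroup (ZMod (p ^ n) × ZMod (p ^ n))) : M.img hp2 hq (M.pre hq W) = W := by
  ext v
  constructor
  · rintro ⟨g, hg, rfl⟩; exact hg
  · intro h
    obtain ⟨g, rfl⟩ := M.phi_surjective hp2 hq v
    exact ⟨g, h, rfl⟩

theorem pre_img (hp2 : p ≠ 2) (hq : orderOf M.c = p ^ n) {L : Subgroup G} (hL : center G ≤ L) :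
    M.pre hq (M.img hp2 hq L) = L := by
  ext g
  constructor
  · rintro ⟨x, hx, h⟩
    have := mul_mem hx (hL ((M.phi_eq_phi_iff hq _ _).1 h))
    simpa using this
  · intro h; exact ⟨g, h, rfl⟩

theorem card_mul_card_centralizer (hp2 : p ≠ 2) (hq : orderOf M.c = p ^ n) (L : Subgroup G) :
    Nat.card L * Nat.card (centralizer (L : Set G)) = Nat.card ↥(center G ⊓ L) * Nat.card G := by
  have : NeZero (p ^ n) := ⟨pow_ne_zero _ hp.out.ne_zero⟩
  rw [M.card_eq_img hp2 hq L, M.centralizer_eq hp2 hq, M.card_pre hp2 hq, M.card_eq hp2 hq,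
    ← card_mul_card_perp (M.img hp2 hq L)]
  ring

theorem index_centralizer (hp2 : p ≠ 2) (hq : orderOf M.c = p ^ n) (g : G) :
    (centralizer ({g} : Set G)).index = addOrderOf (M.phi (p ^ n) g) := by
  have : NeZero (p ^ n) := ⟨pow_ne_zero _ hp.out.ne_zero⟩
  have h1 : centralizer ({g} : Set G) =
      M.pre hq (perp (AddSubgroup.zmultiples (M.phi (p ^ n) g))) := by
    ext x
    rw [mem_centralizer_singleton_iff, mem_pre, mem_perp, eq_comm, M.commute_iff_det hq]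
    constructor
    · rintro h _ ⟨k, rfl⟩
      simp only [det2, Prod.smul_fst, Prod.smul_snd] at *
      rw [zsmul_eq_mul, zsmul_eq_mul]
      linear_combination k * h
    · intro h; exact h _ (AddSubgroup.mem_zmultiples _)
  have h2 := (centralizer ({g} : Set G)).card_mul_index
  rw [M.card_eq hp2 hq, ← card_mul_card_perp (AddSubgroup.zmultiples (M.phi (p ^ n) g)),
    Nat.card_zmultiples] at h2
  nth_rewrite 1 [h1] at h2
  rw [M.card_pre hp2 hq, mul_comm (addOrderOf _), ← mul_assoc] at h2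
  exact Nat.eq_of_mul_eq_mul_left (Nat.mul_pos Nat.card_pos Nat.card_pos) h2

end MC

theorem MC.exists_orderOf_c [Finite G] [Fact p.Prime] (M : MC p G) (hG : IsPGroup p G) :
    ∃ n : ℕ, orderOf M.c = p ^ n := (IsPGroup.iff_orderOf.1 hG) _

end Cfsg.Agent.H80
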