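import Mathlib
import Cfsg.Agent.H80.MC

/-! Subgroups of metacyclic `p`-groups, `p` odd. -/

set_option autoImplicit false

namespace Cfsg.Agent.H80

open Subgroup

variable {G : Type*} [Group G] {p : ℕ}

/-- a subgroup of a cyclic `p`-group `⟨a⟩` is `⟨a ^ p ^ α⟩`, of index `p ^ α` -/
theorem exists_eq_zpowers_pow_prime_pow [Finite G] [hp : Fact p.Prime] {a : G} {m : ℕ}
    (ha : orderOf a = p ^ m) {H : Subgroup G} (hH : H ≤ zpowers a) :
    ∃ α : ℕ, H = zpowers (a ^ p ^ α) ∧ Nat.card H * p ^ α = orderOf a := by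
  obtain ⟨k, rfl⟩ := (le_zpowers_iff a H).1 hH
  obtain ⟨α, -, hα⟩ := (Nat.dvd_prime_pow hp.out).1 (ha ▸ Nat.gcd_dvd_left (orderOf a) k)
  rw [← ha] at hα
  have hc : Nat.card (zpowers (a ^ k)) * p ^ α = orderOf a := by
    rw [Nat.card_zpowers, orderOf_pow, hα, Nat.div_mul_cancel (hα ▸ Nat.gcd_dvd_left _ _)]
  refine ⟨α, ?_, hc⟩
  apply eq_of_le_of_card_ge
  · rw [zpowers_le]
    obtain ⟨t, ht⟩ : p ^ α ∣ k := hα ▸ Nat.gcd_dvd_right _ _
    rw [ht, pow_mul]
    exact pow_mem (mem_zpowers _) _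
  · rw [Nat.card_zpowers, Nat.card_zpowers, orderOf_pow, orderOf_pow, hα,
      Nat.gcd_eq_right (hα ▸ Nat.gcd_dvd_left _ _)]

namespace MC

variable (M : MC p G) [Finite G] [hp : Fact p.Prime] {n : ℕ}

theorem exists_sub (hp2 : p ≠ 2) (hG : IsPGroup p G) (hq : orderOf M.c = p ^ n) (L : Subgroup G) :
    ∃ (M' : MC p L) (e : ℕ), Nat.card L * p ^ e = Nat.card G ∧ orderOf M'.c = p ^ (n - e) := by
  have hN := M.zpowers_a_normal
  let π := QuotientGroup.mk' (zpowers M.a)
  have hπa : π M.a = 1 := (QuotientGroup.eq_one_iff _).2 (mem_zpowers _)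
  have htop : ∀ x : G ⧸ zpowers M.a, x ∈ zpowers (π M.b) := by
    intro x
    obtain ⟨g, rfl⟩ := QuotientGroup.mk'_surjective _ x
    obtain ⟨i, j, rfl⟩ := M.gen g
    change π _ ∈ _
    rw [map_mul, map_pow, map_pow, hπa, one_pow, one_mul]
    exact pow_mem (mem_zpowers _) _
  obtain ⟨ma, hma⟩ := (IsPGroup.iff_orderOf.1 hG) M.a
  obtain ⟨mb, hmb⟩ := (IsPGroup.iff_orderOf.1 (hG.to_quotient (zpowers M.a))) (π M.b)
  obtain ⟨α, h1, h2⟩ := exists_eq_zpowers_pow_prime_pow hma (H := zpowers M.a ⊓ L) inf_le_left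
  obtain ⟨β, h3, h4⟩ := exists_eq_zpowers_pow_prime_pow hmb (H := L.map π) (fun x _ => htop x)
  have hx : M.a ^ p ^ α ∈ L := (mem_inf.1 (h1 ▸ mem_zpowers _ : _ ∈ zpowers M.a ⊓ L)).2
  obtain ⟨y, hyL, hy⟩ : π M.b ^ p ^ β ∈ L.map π := h3 ▸ mem_zpowers _
  obtain ⟨i, hi⟩ : ∃ i : ℕ, y = M.a ^ i * M.b ^ p ^ β := by
    have : y * (M.b ^ p ^ β)⁻¹ ∈ zpowers M.a := by
      rw [← QuotientGroup.eq_one_iff]
      change π _ = 1
      rw [map_mul, hy, map_inv, map_pow, mul_inv_cancel]
    obtain ⟨i, hi⟩ := mem_powers_iff_mem_zpowers.2 this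
    exact ⟨i, by simp only at hi; rw [hi]; simp⟩
  let M' : MC p L :=
    { a := ⟨M.a ^ p ^ α, hx⟩
      b := ⟨y, hyL⟩
      s := M.s * M.br (p ^ β)
      conj := by
        apply Subtype.ext
        simp only [coe_mul, coe_inv, SubmonoidClass.coe_pow]
        rw [mul_inv_eq_iff_eq_mul, hi, mul_assoc, M.conj_pow, ← pow_mul, ← M.r_pow, ← mul_assoc,
          ← mul_assoc, ← pow_add, ← pow_add, add_comm]
      dvd := M.dvd_mul_br _
      gen := by
        rintro ⟨g, hg⟩
        have : π g ∈ zpowers (π M.b ^ p ^ β) := h3 ▸ mem_map_of_mem _ hg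
        obtain ⟨v, hv⟩ := mem_powers_iff_mem_zpowers.2 this
        simp only at hv
        have h5 : g * (y ^ v)⁻¹ ∈ zpowers M.a ⊓ L := by
          refine mem_inf.2 ⟨?_, mul_mem hg (inv_mem (pow_mem hyL _))⟩
          rw [← QuotientGroup.eq_one_iff]
          change π _ = 1
          rw [map_mul, map_inv, map_pow, hy, hv, mul_inv_cancel]
        rw [h1] at h5
        obtain ⟨u, hu⟩ := mem_powers_iff_mem_zpowers.2 h5
        refine ⟨u, v, Subtype.ext ?_⟩
        simp only [coe_mul, SubmonoidClass.coe_pow] at hu ⊢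
        rw [hu]; simp }
  refine ⟨M', α + β, ?_, ?_⟩
  · have e1 : Nat.card L = Nat.card (L.map π) * Nat.card ↥(zpowers M.a ⊓ L) := by
      rw [← relIndex_ker, QuotientGroup.ker_mk', mul_comm, relIndex,
        ← (card_mul_index ((zpowers M.a).subgroupOf L))]
      congr 1
      rw [← inf_subgroupOf_right]
      exact Nat.card_congr (subgroupOfEquivOfLe inf_le_right).toEquiv
    have e2 : Nat.card G = orderOf (π M.b) * orderOf M.a := by
      rw [card_eq_card_quotient_mul_card_subgroup (zpowers M.a), Nat.card_zpowers,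
        orderOf_eq_card_of_forall_mem_zpowers htop]
    rw [e1, e2, ← h2, ← h4]; ring
  · have : orderOf M'.c = orderOf (M.c ^ (p ^ α * M.br (p ^ β))) := by
      rw [← orderOf_injective L.subtype L.subtype_injective]
      congr 1
      simp only [c, M', coe_subtype, SubmonoidClass.coe_pow]
      rw [← pow_mul, ← pow_mul]; congr 1; ring
    rw [this]
    obtain ⟨k, hk⟩ := (IsPGroup.iff_orderOf.1 hG) (M.c ^ (p ^ α * M.br (p ^ β)))
    have key : ∀ t : ℕ, k ≤ t ↔ n - (α + β) ≤ t := by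
      intro t
      rw [← pow_dvd_pow_iff hp.out.ne_zero (by simpa using hp.out.ne_one), ← hk,
        orderOf_dvd_iff_pow_eq_one, ← pow_mul, ← orderOf_dvd_iff_pow_eq_one, hq,
        show p ^ α * M.br (p ^ β) * p ^ t = (p ^ α * p ^ t) * M.br (p ^ β) by ring, br,
        pow_dvd_mul_geo_iff hp.out hp2 M.dvd, ← pow_add, ← pow_add,
        pow_dvd_pow_iff hp.out.ne_zero (by simpa using hp.out.ne_one)]
      omega
    rw [hk]
    congr 1
    exact le_antisymm ((key _).2 le_rfl) ((key _).1 le_rfl)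

omit [Finite G] hp in
theorem comm_iff : IsMulCommutative G ↔ orderOf M.c = 1 := by
  constructor
  · intro h
    rw [orderOf_eq_one_iff]
    have h1 := M.conj
    rw [h.is_comm.comm M.b M.a, mul_inv_cancel_right, pow_add, pow_one] at h1
    exact (mul_eq_left.1 h1.symm)
  · intro h
    refine ⟨⟨fun x y => ?_⟩⟩
    obtain ⟨i, j, rfl⟩ := M.gen x
    obtain ⟨k, l, rfl⟩ := M.gen y
    rw [M.commute_iff, h]
    exact Nat.modEq_one

omit hp in
theorem index_commutator (hq : orderOf M.c = p ^ n) :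
    (commutator G).index * p ^ n = Nat.card G := by
  rw [← hq, ← M.card_commutator, mul_comm, card_mul_index]

include M in
theorem comm_iff_card_le (hp2 : p ≠ 2) (hG : IsPGroup p G) (L : Subgroup G) :
    IsMulCommutative L ↔ Nat.card L ≤ (commutator G).index := by
  obtain ⟨n, hq⟩ := M.exists_orderOf_c hG
  obtain ⟨M', e, h1, h2⟩ := M.exists_sub hp2 hG hq L
  have h3 := M.index_commutator hq
  rw [M'.comm_iff, h2, Nat.pow_eq_one, Nat.sub_eq_zero_iff_le]
  simp only [hp.out.ne_one, false_or]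
  rw [← h1] at h3
  constructor
  · intro h
    by_contra h4
    push Not at h4
    have := Nat.mul_lt_mul_of_lt_of_le h4 (Nat.pow_le_pow_right hp.out.pos h)
      (pow_pos hp.out.pos _)
    omega
  · intro h
    by_contra h4
    push Not at h4
    have := Nat.mul_lt_mul_of_le_of_lt h (Nat.pow_lt_pow_right hp.out.one_lt h4)
      (Nat.pos_of_ne_zero index_ne_zero_of_finite)
    omega

include M in
theorem maximal_comm_iff (hp2 : p ≠ 2) (hG : IsPGroup p G) (L : Subgroup G) :
    Maximal (fun K : Subgroup G => IsMulCommutative K) L ↔ Nat.card L = (commutator G).index := by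
  constructor
  · intro h
    have h1 := (M.comm_iff_card_le hp2 hG L).1 h.prop
    by_contra h2
    obtain ⟨u, hu⟩ := IsPGroup.iff_card.1 (hG.to_subgroup L)
    obtain ⟨w, hw⟩ := IsPGroup.iff_card.1 hG
    obtain ⟨v, -, hv⟩ := (Nat.dvd_prime_pow hp.out).1 (hw ▸ (commutator G).index_dvd_card)
    have huv : u + 1 ≤ v := by
      have := lt_of_le_of_ne h1 h2
      rw [hu, hv] at this
      exact (Nat.pow_lt_pow_iff_right hp.out.one_lt).1 this
    obtain ⟨K, hK, hLK⟩ := Sylow.exists_subgroup_card_pow_succ (G := G) (p := p) (n := u)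
      ((pow_dvd_pow p huv).trans (hv ▸ (commutator G).index_dvd_card)) hu
    have h3 : IsMulCommutative K := (M.comm_iff_card_le hp2 hG K).2 (by
      rw [hK, hv]; exact Nat.pow_le_pow_right hp.out.pos huv)
    have h4 := h.eq_of_le h3 hLK
    rw [h4, hK] at hu
    exact absurd (Nat.pow_right_injective hp.out.two_le hu) (by omega)
  · intro h
    refine ⟨(M.comm_iff_card_le hp2 hG L).2 h.le, fun K hK hLK => ?_⟩
    exact (eq_of_le_of_card_ge hLK (h ▸ (M.comm_iff_card_le hp2 hG K).1 hK)).ge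

end MC

end Cfsg.Agent.H80
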