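import Cfsg.Agent.H80.PCentral
import Cfsg.Agent.H80.MCSub
import Cfsg.Agent.H4.MaxClass
import Cfsg.Agent.H4.SCN
import Cfsg.Agent.H4.ClassThree
import Cfsg.Agent.H2.FpfCyclic
import Cfsg.Agent.S0016

/-! `p`-groups with a non-central normal `C_p × C_p` containing all elements of order `p` of its
centraliser (Blackburn's analysis of `p`-groups of rank two). -/

set_option autoImplicit false

namespace Cfsg.Agent.H80

open Subgroup
open scoped commutatorElement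

variable {G : Type*} [Group G] {p : ℕ}

/-- `T s h = h⁻¹ h^s`. -/
def T (s h : G) : G := h⁻¹ * (s⁻¹ * h * s)

theorem conj_eq_T (s h : G) : s⁻¹ * h * s = h * T s h := by simp [T]

theorem T_eq_one {s h : G} : T s h = 1 ↔ h * s = s * h := by
  rw [T, inv_mul_eq_one, mul_assoc, eq_inv_mul_iff_mul_eq, eq_comm]

theorem T_mul (s h k : G) : T s (h * k) = k⁻¹ * T s h * k * T s k := by simp [T, mul_assoc]

theorem conj_pow_formula {s d e f g : G} (h1 : s⁻¹ * d * s = d * e) (h2 : s⁻¹ * e * s = e * f)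
    (h3 : s⁻¹ * f * s = f * g) (h4 : s⁻¹ * g * s = g) (hef : Commute e f)
    (hfg : Commute f g) (k : ℕ) :
    (s ^ k)⁻¹ * d * s ^ k = d * e ^ k * f ^ k.choose 2 * g ^ k.choose 3 := by
  induction k with
  | zero => simp
  | succ k ih =>
    have h5 : ∀ (x : G) (n : ℕ), s⁻¹ * x ^ n * s = (s⁻¹ * x * s) ^ n := fun x n => by
      simpa using (conj_pow (a := s⁻¹) (b := x) (i := n)).symm
    calc (s ^ (k + 1))⁻¹ * d * s ^ (k + 1) = s⁻¹ * ((s ^ k)⁻¹ * d * s ^ k) * s := by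
          rw [pow_succ]; group
      _ = (s⁻¹ * d * s) * (s⁻¹ * e ^ k * s) * (s⁻¹ * f ^ k.choose 2 * s) *
          (s⁻¹ * g ^ k.choose 3 * s) := by rw [ih]; group
      _ = _ := by
          rw [h5, h5, h5, h1, h2, h3, h4, hef.mul_pow, hfg.mul_pow, Nat.choose_succ_succ' k 1,
            Nat.choose_succ_succ' k 2, Nat.choose_one_right, pow_add f, pow_add g, pow_succ' e]
          simp only [mul_assoc]

theorem pow_eq_one_of_conj_cyclic [hp : Fact p.Prime] (hp2 : p ≠ 2) {s z a t : G} {k m : ℕ}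
    (hz : orderOf z = p ^ m) (hk : p ∣ k) (h1 : s⁻¹ * z * s = z ^ (1 + k) * a)
    (h2 : s⁻¹ * a * s = a * t) (h3 : s⁻¹ * t * s = t) (ha : a ^ p = 1) (ht : t ^ p = 1)
    (hza : Commute z a) (hat : Commute a t) (hs : Commute (s ^ p) z) : (z ^ k) ^ p = 1 := by
  have h5 : ∀ (x : G) (n : ℕ), s⁻¹ * x ^ n * s = (s⁻¹ * x * s) ^ n := fun x n => by
    simpa using (conj_pow (a := s⁻¹) (b := x) (i := n)).symm
  have key : ∀ j : ℕ, (s ^ j)⁻¹ * z * s ^ j = z ^ (1 + k) ^ j * a ^ j * t ^ j.choose 2 := by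
    intro j
    induction j with
    | zero => simp
    | succ j ih =>
      have h6 : a ^ (1 + k) ^ j = a := by
        rw [pow_eq_geo, pow_add, pow_one, pow_mul, H4.pow_eq_one_of_dvd ha hk, one_pow, mul_one]
      calc (s ^ (j + 1))⁻¹ * z * s ^ (j + 1) = s⁻¹ * ((s ^ j)⁻¹ * z * s ^ j) * s := by
            rw [pow_succ]; group
        _ = (s⁻¹ * z ^ (1 + k) ^ j * s) * (s⁻¹ * a ^ j * s) * (s⁻¹ * t ^ j.choose 2 * s) := by
            rw [ih]; group
        _ = _ := by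
            rw [h5, h5, h5, h1, h2, h3, (hza.pow_left _).mul_pow, hat.mul_pow, h6, ← pow_mul,
              ← pow_succ', Nat.choose_succ_succ' j 1, Nat.choose_one_right, pow_add t, pow_succ' a]
            simp only [mul_assoc]
  have h7 := key p
  rw [ha, H4.pow_eq_one_of_dvd ht (H4.prime_dvd_choose_two hp.out hp2), mul_assoc, ← hs.eq,
    inv_mul_cancel_left, mul_one, mul_one, pow_eq_geo, pow_add, pow_one, left_eq_mul,
    ← orderOf_dvd_iff_pow_eq_one, hz, pow_dvd_mul_geo_iff hp.out hp2 hk] at h7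
  rwa [← pow_mul, ← orderOf_dvd_iff_pow_eq_one, hz]

theorem exists_eq_one_add [Finite G] [hp : Fact p.Prime] (hG : IsPGroup p G) {s z : G} {r : ℕ}
    (h : s⁻¹ * z * s = z ^ r) (hz : z ≠ 1) : ∃ k, p ∣ k ∧ r = 1 + k := by
  have key : ∀ j : ℕ, (s ^ j)⁻¹ * z * s ^ j = z ^ r ^ j := by
    intro j
    induction j with
    | zero => simp
    | succ j ih =>
      have h5 : s⁻¹ * z ^ r ^ j * s = (s⁻¹ * z * s) ^ r ^ j := by
        simpa using (conj_pow (a := s⁻¹) (b := z) (i := r ^ j)).symm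
      rw [pow_succ' r, pow_mul, ← h, ← h5, ← ih, pow_succ]
      group
  obtain ⟨m, hm⟩ := hG s
  have h1 := key (p ^ m)
  rw [hm, inv_one, one_mul, mul_one, ← pow_one z, ← pow_mul, one_mul, pow_eq_pow_iff_modEq] at h1
  have h2 := (ZMod.natCast_eq_natCast_iff _ _ _).2 (h1.of_dvd (hG.dvd_orderOf hz))
  rw [Nat.cast_pow, ZMod.pow_card_pow] at h2
  rcases r with _ | r
  · simp at h2
  · exact ⟨r, (ZMod.natCast_eq_zero_iff r p).1 (by simpa using h2), add_comm _ _⟩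

theorem isCyclic_of_unique [Finite G] [hp : Fact p.Prime] (hp2 : p ≠ 2) (hG : IsPGroup p G)
    (h : ∀ x y : G, orderOf x = p → orderOf y = p → y ∈ zpowers x) : IsCyclic G := by
  refine (S0016.result p hG fun H K hH hK => ?_).resolve_right fun h => hp2 h.1
  have key : ∀ H : Subgroup G, Nat.card H = p → ∃ x, orderOf x = p ∧ zpowers x = H := fun H hH => by
    obtain ⟨x, hx⟩ := exists_prime_orderOf_dvd_card' (G := H) p hH.symm.dvd
    rw [← orderOf_coe] at hx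
    exact ⟨x, hx, eq_of_le_of_card_ge (zpowers_le.2 x.2) (by rw [Nat.card_zpowers, hx, hH])⟩
  obtain ⟨x, hx, rfl⟩ := key H hH
  obtain ⟨y, hy, rfl⟩ := key K hK
  exact le_antisymm (zpowers_le.2 (h y x hy hx)) (zpowers_le.2 (h x y hx hy))

/-- The setting: a non-central normal subgroup `A ≅ C_p × C_p` with `Ω₁(C(A)) = A`. -/
structure R2 (p : ℕ) (G : Type*) [Group G] where
  A : Subgroup G
  normal : A.Normal
  card : Nat.card A = p ^ 2
  le : A ≤ centralizer (A : Set G)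
  mem_iff : ∀ h ∈ centralizer (A : Set G), h ∈ A ↔ h ^ p = 1
  ne : centralizer (A : Set G) ≠ ⊤

namespace R2

variable (R : R2 p G)

/-- The centraliser of `A`. -/
def H : Subgroup G := centralizer (R.A : Set G)

/-- The central part of `A`. -/
def Z : Subgroup G := R.A ⊓ center G

instance : R.A.Normal := R.normal
instance : R.H.Normal := normal_centralizer

theorem pow_eq {a : G} (ha : a ∈ R.A) : a ^ p = 1 := (R.mem_iff a (R.le ha)).1 ha

theorem comm {a h : G} (ha : a ∈ R.A) (hh : h ∈ R.H) : Commute a h := hh a ha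

theorem commZ {a : G} (ha : a ∈ R.Z) (g : G) : Commute g a := mem_center_iff.1 ha.2 g

theorem T_mem_H (s : G) {h : G} (hh : h ∈ R.H) : T s h ∈ R.H :=
  mul_mem (inv_mem hh) (Normal.conj_mem' inferInstance h hh s)

theorem pc (a : R.H) (ha : a ^ p = 1) : a ∈ center R.H :=
  mem_center_iff.2 fun b => Subtype.ext
    (R.comm ((R.mem_iff a a.2).2 (congrArg Subtype.val ha)) b.2).symm

theorem le_H : R.A ≤ R.H := R.le

variable [Finite G] [hp : Fact p.Prime] (hG : IsPGroup p G)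
include hG

theorem card_Z : Nat.card R.Z = p := by
  refine H4.card_eq_prime_of_lt_sq (hG.to_subgroup _) ?_ ?_
  · obtain ⟨z, hz, hz1, hz2⟩ := H3.exists_mem_center_orderOf_eq hG R.A (by
      intro e
      have := R.card
      rw [e, card_bot, eq_comm, Nat.pow_eq_one] at this
      exact hp.out.ne_one (by omega))
    intro e
    have : z ∈ R.Z := ⟨hz, hz1⟩
    rw [e, mem_bot] at this
    rw [this, orderOf_one] at hz2
    exact hp.out.ne_one hz2.symm
  · rw [← R.card]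
    refine H2.card_lt_of_lt (lt_of_le_of_ne inf_le_left fun e => R.ne ?_)
    rw [eq_top_iff]
    exact fun g _ a ha => (R.commZ (e.ge ha) g).symm

theorem index_H : R.H.index = p := by
  have h1 := H4.index_centralizer_le hG 2 R.A R.card
  obtain ⟨k, hk⟩ := (hG.to_quotient R.H).exists_card_eq
  change R.H.index = _ at hk
  change R.H.index ≤ p ^ 1 at h1
  rw [hk, Nat.pow_le_pow_iff_right hp.out.one_lt] at h1
  rcases k with _ | k
  · exact absurd (index_eq_one.1 hk) R.ne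
  · rw [hk, show k = 0 by omega, zero_add, pow_one]

theorem T_mem_Z (s : G) {a : G} (ha : a ∈ R.A) : T s a ∈ R.Z := by
  refine mem_inf.2 ⟨mul_mem (inv_mem ha) (R.normal.conj_mem' a ha s), ?_⟩
  have := Subgroup.mem_upperCentralSeries_succ_iff.mp
    (H22.le_upperCentralSeries_of_normal hG 2 R.A R.card (R.A.inv_mem ha)) s⁻¹
  rw [Subgroup.upperCentralSeries_one] at this
  rwa [show T s a = ⁅a⁻¹, s⁻¹⁆ by simp [T, mul_assoc, commutatorElement_def]]

theorem zpowers_eq {t : G} (ht : t ∈ R.Z) (h1 : t ≠ 1) : zpowers t = R.Z :=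
  eq_of_le_of_card_ge (zpowers_le.2 ht) (by
    rw [R.card_Z hG, Nat.card_zpowers, orderOf_eq_prime (R.pow_eq ht.1) h1])

theorem exists_pow_eq {t u : G} (ht : t ∈ R.Z) (h1 : t ≠ 1) (hu : u ∈ R.Z) : ∃ i : ℕ, u = t ^ i := by
  rw [← R.zpowers_eq hG ht h1, ← mem_powers_iff_mem_zpowers] at hu
  obtain ⟨i, rfl⟩ := hu
  exact ⟨i, rfl⟩

theorem A_le {K : Subgroup G} (hK : R.Z ≤ K) {a : G} (ha : a ∈ R.A) (haZ : a ∉ R.Z) (haK : a ∈ K) :
    R.A ≤ K := by
  have h1 := H4.mul_card_le_of_lt (H := R.Z) (K := K ⊓ R.A) (hG.to_subgroup _)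
    (lt_of_le_of_ne (le_inf hK inf_le_left) fun e => haZ (e.ge ⟨haK, ha⟩))
  rw [R.card_Z hG, ← sq, ← R.card] at h1
  exact inf_eq_right.1 (eq_of_le_of_card_ge inf_le_right h1)

theorem mem_Z {s a : G} (hs : s ∉ R.H) (ha : a ∈ R.A) (h : a * s = s * a) : a ∈ R.Z := by
  by_contra h1
  exact hs fun b hb => mem_centralizer_singleton_iff.1 (R.A_le hG (K := centralizer {s})
    (fun z hz => mem_centralizer_singleton_iff.2 (R.commZ hz s).symm) ha h1
    (mem_centralizer_singleton_iff.2 h) hb)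

theorem pow_mem_H (s : G) : s ^ p ∈ R.H := by
  have := pow_index_mem (H := R.H) s
  rwa [R.index_H hG] at this

variable (hp2 : p ≠ 2)
include hp2

theorem comm_mem {d h : G} (hd : d ∈ R.H) (hdp : d ^ p ∈ R.A) (hh : h ∈ R.H) : ⁅d, h⁆ ∈ R.A :=
  (R.mem_iff _ (mul_mem (mul_mem (mul_mem hd hh) (inv_mem hd)) (inv_mem hh))).2
    (congrArg Subtype.val (pcentral_comm hp2 R.H (hG.to_subgroup _) R.pc ⟨d, hd⟩
      (Subtype.ext (R.pow_eq hdp)) ⟨h, hh⟩))

theorem mul_pow {d h : G} (hd : d ∈ R.H) (hdp : d ^ p ∈ R.A) (hh : h ∈ R.H) :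
    (h * d) ^ p = h ^ p * d ^ p :=
  congrArg Subtype.val (pcentral_mul_pow hp2 (hG.to_subgroup R.H) R.pc ⟨d, hd⟩
    (Subtype.ext (R.pow_eq hdp)) ⟨h, hh⟩)

theorem T_pow (s : G) {d : G} (hd : d ∈ R.H) (hdp : d ^ p ∈ R.A) : T s d ^ p = T s (d ^ p) := by
  have h1 : (s⁻¹ * d * s) ^ p = s⁻¹ * d ^ p * s := by
    simpa using (conj_pow (a := s⁻¹) (b := d) (i := p))
  rw [T, R.mul_pow hG hp2 (Normal.conj_mem' inferInstance d hd s)
    (h1 ▸ R.normal.conj_mem' _ hdp s) (inv_mem hd), h1, inv_pow, T]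

theorem metacyclic {W : Subgroup G} (hW : ∀ h ∈ R.H, h ^ p ∈ W) {s : G} (hs : s ^ p ∉ W) :
    IsMetacyclic G := by
  refine huppert hp2 hG fun U hU => ?_
  have h1 := pcentral_powIndexLE hp2 R.H (hG.to_subgroup _) R.pc (R.A.subgroupOf R.H)
    (fun a => by rw [mem_subgroupOf, R.mem_iff a a.2, Subtype.ext_iff]; rfl)
    ((W ⊓ U).subgroupOf R.H) fun x => ⟨hW x x.2, hU x⟩
  rw [H2.card_subgroupOf_of_le R.le_H, R.card] at h1
  have h2 := H4.mul_card_le_of_lt (H := W ⊓ U ⊓ R.H) (K := U ⊓ R.H) (hG.to_subgroup _)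
    (lt_of_le_of_ne (inf_le_inf_right _ inf_le_right) fun e => hs (e.ge ⟨hU s, R.pow_mem_H hG s⟩).1.1)
  have h3 := H2.card_inf_mul_relIndex (W ⊓ U) R.H
  have h4 := R.H.card_mul_index
  rw [R.index_H hG, ← h3, ← U.card_mul_index] at h4
  have h5 : Nat.card U * U.index ≤ Nat.card U * p ^ 2 := by
    rw [← h4, mul_comm _ p, ← mul_assoc]
    exact Nat.mul_le_mul (h2.trans (card_le_of_le inf_le_left)) h1
  exact Nat.le_of_mul_le_mul_left h5 Nat.card_pos

omit hp2 in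
theorem maxClass_or {s : G} (hs : s ∉ R.H) : Nat.card (centralizer {s}) ≤ p ^ 2 ∨
    ∃ c ∈ R.H, c * s = s * c ∧ c ^ p ∈ R.Z ∧ c ^ p ≠ 1 := by
  by_cases h : R.H ⊓ centralizer {s} ≤ R.Z
  · left
    rw [← H2.card_inf_mul_relIndex R.H, sq]
    refine Nat.mul_le_mul ((card_le_of_le h).trans (R.card_Z hG).le) ?_
    exact Nat.le_of_dvd hp.out.pos ((relIndex_dvd_index_of_normal R.H _).trans (R.index_H hG).dvd)
  · right
    obtain ⟨c, hc, hcZ⟩ := SetLike.not_le_iff_exists.1 h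
    obtain ⟨k, hk⟩ := hG c
    have h1 : ∃ k, c ^ p ^ k ∈ R.Z := ⟨k, hk ▸ one_mem _⟩
    classical
    have h2 := Nat.find_spec h1
    rcases h3 : Nat.find h1 with _ | j
    · rw [h3, pow_zero, pow_one] at h2
      exact absurd h2 hcZ
    have h4 := Nat.find_min h1 (m := j) (by omega)
    have h5 := mem_centralizer_singleton_iff.1 (pow_mem hc.2 (p ^ j))
    rw [h3, pow_succ, pow_mul] at h2
    exact ⟨c ^ p ^ j, pow_mem hc.1 _, h5, h2, fun e =>
      h4 (R.mem_Z hG hs ((R.mem_iff _ (pow_mem hc.1 _)).2 e) h5)⟩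

theorem exists_eq_mul {c e : G} (hc : c ∈ R.H) (hcZ : c ^ p ∈ R.Z) (hc1 : c ^ p ≠ 1) (he : e ∈ R.H)
    (heZ : e ^ p ∈ R.Z) : ∃ a ∈ R.A, ∃ i : ℕ, e = a * c ^ i := by
  obtain ⟨i, hi⟩ := R.exists_pow_eq hG hcZ hc1 heZ
  refine ⟨e * (c ^ i)⁻¹, (R.mem_iff _ (mul_mem he (inv_mem (pow_mem hc i)))).2 ?_, i, by simp⟩
  rw [R.mul_pow hG hp2 (inv_mem (pow_mem hc i)) (by
    rw [inv_pow, ← pow_mul, mul_comm, pow_mul]; exact inv_mem (pow_mem hcZ.1 i)) he, hi, inv_pow,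
    ← pow_mul, ← pow_mul, mul_comm, mul_inv_cancel]

/-- The case where `Ω₂(H)` has order `p⁴`. -/
theorem case_one {s d : G} (hs : s ∉ R.H) (hd : d ∈ R.H) (hdA : d ^ p ∈ R.A) (hdZ : d ^ p ∉ R.Z) :
    ¬ Commute (s ^ p) d ∨ (p = 3 ∧ Nat.card (centralizer {s}) ≤ p ^ 2) := by
  have he := R.T_mem_H s hd
  have hep := R.T_pow hG hp2 s hd hdA
  have heZ : T s d ^ p ∈ R.Z := hep ▸ R.T_mem_Z hG s hdA
  have he1 : T s d ^ p ≠ 1 := fun e => hdZ (R.mem_Z hG hs hdA (T_eq_one.1 (hep ▸ e)))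
  have hf : T s (T s d) ∈ R.A := (R.mem_iff _ (R.T_mem_H s he)).2 (by
    rw [R.T_pow hG hp2 s he heZ.1, T_eq_one]
    exact (R.commZ heZ s).symm)
  have hg := R.T_mem_Z hG s hf
  have h1 := conj_pow_formula (conj_eq_T s d) (conj_eq_T s _) (conj_eq_T s _)
    (by rw [mul_assoc, ← (R.commZ hg s).eq, inv_mul_cancel_left]) (R.comm hf he).symm
    (R.commZ hg _) p
  rw [H4.pow_eq_one_of_dvd (R.pow_eq hf) (H4.prime_dvd_choose_two hp.out hp2), mul_one] at h1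
  refine (em _).symm.imp_right fun hc => ?_
  rw [mul_assoc, ← hc.eq, inv_mul_cancel_left, mul_assoc, left_eq_mul] at h1
  have h2 : T s (T s (T s d)) ^ p.choose 3 ≠ 1 := fun e => he1 (by rwa [e, mul_one] at h1)
  refine ⟨?_, (R.maxClass_or hG hs).resolve_right ?_⟩
  · by_contra h3
    have := hp.out.two_le
    exact h2 (H4.pow_eq_one_of_dvd (R.pow_eq hg.1) (H4.prime_dvd_choose_three hp.out (by omega)))
  · rintro ⟨c, hc, hcs, hcZ, hc1⟩
    obtain ⟨a, ha, i, hi⟩ := R.exists_eq_mul hG hp2 hc hcZ hc1 he heZ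
    have h3 : T s (T s d) ∈ R.Z := by
      rw [hi, T_mul, T_eq_one.2 (Commute.pow_left hcs i), mul_one]
      exact Normal.conj_mem' (normal_inf_normal _ _) _ (R.T_mem_Z hG s ha) _
    exact h2 (by rw [T_eq_one.2 (R.commZ h3 s).symm, one_pow])

theorem metacyclic_of_not_commute {s d : G} (hd : d ∈ R.H) (hdA : d ^ p ∈ R.A)
    (h : ¬ Commute (s ^ p) d) : IsMetacyclic G := by
  refine R.metacyclic hG hp2 (W := centralizer {d}) (fun h hh => ?_)
    (mt mem_centralizer_singleton_iff.1 h)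
  have h1 := R.comm_mem hG hp2 hd hdA hh
  rw [mem_centralizer_singleton_iff, eq_comm, ← commutatorElement_eq_one_iff_mul_comm,
    H3.commutator_pow_right_of_commute (R.comm h1 hh).symm, R.pow_eq h1]

/-- The case where `Ω₂(H)` has order at most `p³`. -/
theorem case_two (h : ∀ d ∈ R.H, d ^ p ∈ R.A → d ^ p ∈ R.Z) :
    ∃ z ∈ R.H, ∀ h ∈ R.H, ∃ a ∈ R.A, ∃ i : ℕ, h = a * z ^ i := by
  have h1 : IsCyclic (R.H ⧸ R.A.subgroupOf R.H) := by
    refine isCyclic_of_unique hp2 ((hG.to_subgroup _).to_quotient _) fun x y hx hy => ?_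
    obtain ⟨x, rfl⟩ := QuotientGroup.mk_surjective x
    obtain ⟨y, rfl⟩ := QuotientGroup.mk_surjective y
    have key : ∀ x : R.H, orderOf (x : R.H ⧸ R.A.subgroupOf R.H) = p → (x : G) ^ p ∈ R.Z :=
      fun x hx => h x x.2 ((QuotientGroup.eq_one_iff (N := R.A.subgroupOf R.H) (x ^ p)).1
        (by rw [QuotientGroup.mk_pow, ← orderOf_dvd_iff_pow_eq_one, hx]))
    obtain ⟨a, ha, i, hi⟩ := R.exists_eq_mul hG hp2 x.2 (key x hx) (fun e => by
      rw [(QuotientGroup.eq_one_iff x).2 ((R.mem_iff _ x.2).2 e), orderOf_one] at hx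
      exact hp.out.ne_one hx.symm) y.2 (key y hy)
    rw [show y = ⟨a, R.le ha⟩ * x ^ i from Subtype.ext hi, QuotientGroup.mk_mul,
      (QuotientGroup.eq_one_iff (⟨a, R.le ha⟩ : R.H)).2 ha, one_mul, QuotientGroup.mk_pow]
    exact pow_mem (mem_zpowers _) i
  obtain ⟨z, hz⟩ := h1.exists_monoid_generator
  obtain ⟨z, rfl⟩ := QuotientGroup.mk_surjective z
  refine ⟨z, z.2, fun h hh => ?_⟩
  obtain ⟨i, hi⟩ := hz ((⟨h, hh⟩ : R.H) : R.H ⧸ R.A.subgroupOf R.H)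
  refine ⟨h * ((z : G) ^ i)⁻¹, ?_, i, by simp⟩
  refine (QuotientGroup.eq_one_iff (N := R.A.subgroupOf R.H) (⟨h, hh⟩ * (z ^ i)⁻¹)).1 ?_
  simp only at hi
  simp [← hi]

omit hp2 in
theorem exists_not_mem_Z : ∃ a ∈ R.A, a ∉ R.Z := by
  by_contra h
  push Not at h
  have := card_le_of_le (show R.A ≤ R.Z from h)
  rw [R.card, R.card_Z hG] at this
  exact this.not_gt (by simpa using Nat.pow_lt_pow_right hp.out.one_lt (one_lt_two))

omit hp2 in
theorem eq_top {K : Subgroup G} (hK : R.H ≤ K) {x : G} (hx : x ∉ R.H) (hxK : x ∈ K) : K = ⊤ :=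
  eq_top_iff.2 ((H4.sup_zpowers_eq_top_of_index_prime ((R.index_H hG).symm ▸ hp.out) hx).ge.trans
    (sup_le hK (zpowers_le.2 hxK)))

omit hp2 in
theorem orderOf_eq {n : ℕ} (hn : Nat.card G = p ^ n) {u : G} (h1 : R.A ⊔ zpowers u = R.H)
    (h2 : R.A ⊓ zpowers u = R.Z) : 3 ≤ n ∧ orderOf u = p ^ (n - 2) := by
  have h3 := H2.card_sup_mul_card_inf_of_normal (zpowers u) R.A
  have h5 := R.H.card_mul_index
  rw [R.index_H hG] at h5
  rw [sup_comm, inf_comm, h1, h2, R.card_Z hG, R.card, Nat.card_zpowers, h5, hn] at h3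
  obtain ⟨m, hm⟩ := IsPGroup.iff_orderOf.1 hG u
  rw [hm, ← pow_add, Nat.pow_right_inj hp.out.one_lt] at h3
  have h4 := card_dvd_of_le (h2.ge.trans inf_le_right)
  rw [R.card_Z hG, Nat.card_zpowers, hm] at h4
  rcases m with _ | m
  · exact absurd (Nat.dvd_one.1 h4) hp.out.ne_one
  · exact ⟨by omega, by rw [hm, h3]; rfl⟩

omit hp2 in
theorem pow_mem_Z {n : ℕ} (hn : 3 ≤ n) {u : G} (hu : orderOf u = p ^ (n - 2))
    (h2 : R.Z ≤ zpowers u) : u ^ p ^ (n - 3) ∈ R.Z ∧ u ^ p ^ (n - 3) ≠ 1 := by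
  obtain ⟨k, h3, h4⟩ := exists_eq_zpowers_pow_prime_pow hu h2
  rw [R.card_Z hG, hu, ← pow_succ', Nat.pow_right_inj hp.out.one_lt] at h4
  obtain rfl : k = n - 3 := by omega
  refine ⟨h3 ▸ mem_zpowers _, fun e => ?_⟩
  have h5 := R.card_Z hG
  rw [h3, e, zpowers_one_eq_bot, card_bot] at h5
  exact hp.out.ne_one h5.symm

section Abelian

variable {z : G} (hz : z ∈ R.H) (hgen : ∀ h ∈ R.H, ∃ a ∈ R.A, ∃ i : ℕ, h = a * z ^ i)
include hz hgen

omit [Finite G] hp hG hp2 in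
theorem commH {h k : G} (hh : h ∈ R.H) (hk : k ∈ R.H) : Commute h k := by
  obtain ⟨a, ha, i, rfl⟩ := hgen h hh
  refine (R.comm ha hk).mul_left ?_
  obtain ⟨b, hb, j, rfl⟩ := hgen k hk
  exact (R.comm hb (pow_mem hz i)).symm.mul_right (Commute.pow_pow_self z i j)

omit [Finite G] hp hG hp2 in
theorem T_pow' (s : G) {h : G} (hh : h ∈ R.H) (i : ℕ) : T s (h ^ i) = T s h ^ i := by
  have h1 : (s⁻¹ * h * s) ^ i = s⁻¹ * h ^ i * s := by
    simpa using (conj_pow (a := s⁻¹) (b := h) (i := i))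
  rw [T, T, (R.commH hz hgen (inv_mem hh) (Normal.conj_mem' inferInstance h hh s)).mul_pow, h1,
    inv_pow]

omit [Finite G] hp hG hp2 in
theorem T_mul' (s : G) {h k : G} (hh : h ∈ R.H) (hk : k ∈ R.H) : T s (h * k) = T s h * T s k := by
  rw [T_mul, mul_assoc k⁻¹, (R.commH hz hgen (R.T_mem_H s hh) hk).eq, inv_mul_cancel_left]

theorem T_mem_A (s : G) {h : G} (hh : h ∈ R.H) : T s h ∈ R.A := by
  obtain ⟨a, ha, i, rfl⟩ := hgen h hh
  rw [R.T_mul' hz hgen s (R.le ha) (pow_mem hz i), R.T_pow' hz hgen s hz]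
  refine mul_mem (R.T_mem_Z hG s ha).1 (pow_mem ?_ i)
  by_cases hzA : z ∈ R.A
  · exact (R.T_mem_Z hG s hzA).1
  obtain ⟨b, hb, r, h1⟩ := hgen _ (Normal.conj_mem' inferInstance z hz s)
  obtain ⟨k, hk, rfl⟩ := exists_eq_one_add (hG.to_quotient R.A) (s := (s : G ⧸ R.A)) (z := z) (r := r)
    (by rw [← QuotientGroup.mk_inv, ← QuotientGroup.mk_mul, ← QuotientGroup.mk_mul, h1]
        simp [(QuotientGroup.eq_one_iff b).2 hb]) (mt (QuotientGroup.eq_one_iff z).1 hzA)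
  obtain ⟨m, hm⟩ := IsPGroup.iff_orderOf.1 hG z
  rw [(R.comm hb (pow_mem hz _)).eq] at h1
  have hb2 := R.T_mem_Z hG s hb
  have h2 := pow_eq_one_of_conj_cyclic hp2 hm hk h1 (conj_eq_T s b)
    (by rw [mul_assoc, ← (R.commZ hb2 s).eq, inv_mul_cancel_left]) (R.pow_eq hb) (R.pow_eq hb2.1)
    (R.comm hb hz).symm (R.commZ hb2 b) (R.commH hz hgen (R.pow_mem_H hG s) hz)
  rw [T, h1, pow_add, pow_one, mul_assoc, inv_mul_cancel_left]
  exact mul_mem ((R.mem_iff _ (pow_mem hz k)).2 h2) hb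

theorem mul_pow_H (s : G) {h : G} (hh : h ∈ R.H) :
    (s * h) ^ p = s ^ p * h ^ p * T s (T s h) ^ p.choose 3 := by
  have h1 := R.T_mem_A hG hp2 hz hgen s hh
  have h2 := R.T_mem_Z hG s h1
  rw [H4.mul_pow_of_rel_three (x := s) (y := h) (c := T s h) (d := T s (T s h)) (e := 1)
    (by rw [mul_assoc, ← conj_eq_T]; group) (by rw [mul_assoc, ← conj_eq_T]; group)
    (by rw [mul_one, (R.comm h1 hh).eq]) (R.commZ h2 _) (R.commZ h2 _) (R.commZ h2 _)
    (Commute.one_right _) (Commute.one_right _) (Commute.one_right _) (Commute.one_right _),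
    H4.pow_eq_one_of_dvd (R.pow_eq h1) (H4.prime_dvd_choose_two hp.out hp2), one_pow, mul_one, mul_one]

theorem exists_orderOf {s : G} (hs : s ∉ R.H) : IsMetacyclic G ∨
    (p = 3 ∧ Nat.card (centralizer {s}) ≤ p ^ 2) ∨ ∃ x ∉ R.H, x ^ p = 1 := by
  by_cases h1 : s ^ p ∈ zpowers (z ^ p)
  swap
  · refine Or.inl (R.metacyclic hG hp2 (fun h hh => ?_) h1)
    obtain ⟨a, ha, i, rfl⟩ := hgen h hh
    rw [(R.comm ha (pow_mem hz i)).mul_pow, R.pow_eq ha, one_mul, ← pow_mul, mul_comm, pow_mul]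
    exact npow_mem_zpowers _ i
  right
  obtain ⟨k, hk⟩ := h1
  have hh := inv_mem (zpow_mem hz k)
  have h2 := R.mul_pow_H hG hp2 hz hgen s hh
  have h3 := R.T_mem_Z hG s (R.T_mem_A hG hp2 hz hgen s hh)
  simp only at hk
  rw [← hk, inv_pow, ← zpow_natCast (z ^ k), ← zpow_natCast z, zpow_comm, mul_inv_cancel,
    one_mul] at h2
  have h4 : s * (z ^ k)⁻¹ ∉ R.H := by rwa [mul_mem_cancel_right hh]
  by_cases h5 : (s * (z ^ k)⁻¹) ^ p = 1
  · exact Or.inr ⟨_, h4, h5⟩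
  refine (R.maxClass_or hG hs).imp (fun h => ⟨?_, h⟩) ?_
  · by_contra h6
    have := hp.out.two_le
    exact h5 (h2 ▸ H4.pow_eq_one_of_dvd (R.pow_eq h3.1) (H4.prime_dvd_choose_three hp.out (by omega)))
  · rintro ⟨c, hc, hcs, hcZ, hc1⟩
    obtain ⟨i, hi⟩ := R.exists_pow_eq hG hcZ hc1 (h2 ▸ pow_mem h3 _)
    refine ⟨s * (z ^ k)⁻¹ * (c ^ i)⁻¹, by rwa [mul_mem_cancel_right (inv_mem (pow_mem hc i))], ?_⟩
    rw [(((show Commute c s from hcs).symm.mul_left (R.commH hz hgen hh hc)).pow_right i).inv_right.mul_pow,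
      hi, inv_pow, ← pow_mul, ← pow_mul, mul_comm, mul_inv_cancel]

omit [Finite G] hp hG hp2 hz in
theorem sup_eq {u : G} (hu : u ∈ R.H) (h : z ∈ R.A ⊔ zpowers u) : R.A ⊔ zpowers u = R.H := by
  refine le_antisymm (sup_le R.le (zpowers_le.2 hu)) fun h hh => ?_
  obtain ⟨a, ha, i, rfl⟩ := hgen h hh
  exact mul_mem (mem_sup_left ha) (pow_mem h i)

theorem central_product {n : ℕ} (hn : Nat.card G = p ^ n) {x : G} (hx : x ∉ R.H) (hxp : x ^ p = 1)
    (hw : T x z ∈ R.Z) : 3 ≤ n ∧ ∃ x y z : G, closure ({x, y, z} : Set G) = ⊤ ∧ x ^ p = 1 ∧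
      y ^ p = 1 ∧ z ^ p ^ (n - 2) = 1 ∧ x * z = z * x ∧ y * z = z * y ∧
      x⁻¹ * y * x = y * z ^ p ^ (n - 3) := by
  obtain ⟨y, hy, hyZ⟩ := R.exists_not_mem_Z hG
  have ht := R.T_mem_Z hG x hy
  have ht1 : T x y ≠ 1 := fun e => hyZ (R.mem_Z hG hx hy (T_eq_one.1 e))
  have hC : IsCyclic ↥(R.H ⊓ centralizer {x}) := by
    refine isCyclic_of_unique hp2 (hG.to_subgroup _) fun a b ha hb => ?_
    have key : ∀ a : ↥(R.H ⊓ centralizer {x}), orderOf a = p → (a : G) ∈ R.Z := fun a ha =>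
      R.mem_Z hG hx ((R.mem_iff _ a.2.1).2 (by
        rw [← orderOf_dvd_iff_pow_eq_one, orderOf_coe, ha])) (mem_centralizer_singleton_iff.1 a.2.2)
    obtain ⟨i, hi⟩ := R.exists_pow_eq hG (key a ha) (fun e => by
      rw [← orderOf_coe, e, orderOf_one] at ha
      exact hp.out.ne_one ha.symm) (key b hb)
    rw [show b = a ^ i from Subtype.ext hi]
    exact npow_mem_zpowers a i
  obtain ⟨u, hu⟩ := (Subgroup.isCyclic_iff_exists_zpowers_eq_top _).1 hC
  have huH : u ∈ R.H ⊓ centralizer {x} := hu ▸ mem_zpowers u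
  have hZu : R.Z ≤ zpowers u := fun a ha =>
    hu ▸ ⟨R.le ha.1, mem_centralizer_singleton_iff.2 (R.commZ ha x).symm⟩
  have h1 : R.A ⊔ zpowers u = R.H := by
    refine R.sup_eq hgen huH.1 ?_
    obtain ⟨j, hj⟩ := R.exists_pow_eq hG ht ht1 (inv_mem hw)
    have h2 : z * y ^ j ∈ zpowers u := hu ▸ ⟨R.H.mul_mem hz (R.le (pow_mem hy j)),
      mem_centralizer_singleton_iff.2 (T_eq_one.1 (by
        rw [R.T_mul' hz hgen x hz (R.le (pow_mem hy j)), R.T_pow' hz hgen x (R.le hy), ← hj,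
          mul_inv_cancel]))⟩
    exact (mul_mem_cancel_right (mem_sup_left (pow_mem hy j))).1 (mem_sup_right h2)
  obtain ⟨h3, h4⟩ := R.orderOf_eq hG hn h1 (le_antisymm
    (fun a ha => R.mem_Z hG hx ha.1 (mem_centralizer_singleton_iff.1 (hu.le ha.2).2))
    (le_inf inf_le_left hZu))
  obtain ⟨h5, h6⟩ := R.pow_mem_Z hG h3 h4 hZu
  obtain ⟨i, hi⟩ := R.exists_pow_eq hG ht ht1 h5
  rw [← R.T_pow' hz hgen x (R.le hy)] at hi
  have h7 : zpowers u ≤ closure ({x, y ^ i, u} : Set G) := zpowers_le.2 (subset_closure (by simp))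
  refine ⟨h3, x, y ^ i, u, R.eq_top hG (h1.ge.trans (sup_le (R.A_le hG (hZu.trans h7) (pow_mem hy i)
    (fun h => h6 (hi ▸ T_eq_one.2 (R.commZ h x).symm)) (subset_closure (by simp))) h7)) hx
    (subset_closure (by simp)), hxp, R.pow_eq (pow_mem hy i), h4 ▸ pow_orderOf_eq_one u,
    (mem_centralizer_singleton_iff.1 huH.2).symm, R.comm (pow_mem hy i) huH.1, by rw [hi, ← conj_eq_T]⟩

theorem exists_rel {n : ℕ} (hn : Nat.card G = p ^ n) {x : G} (hx : x ∉ R.H) (hxp : x ^ p = 1)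
    (hw : T x z ∉ R.Z) : 4 ≤ n ∧ ∃ (s : ℕ) (x y z : G), (s = 1 ∨ ¬ IsSquare (s : ZMod p)) ∧
      closure ({x, y, z} : Set G) = ⊤ ∧ x ^ p = 1 ∧ y ^ p = 1 ∧ z ^ p ^ (n - 2) = 1 ∧ y * z = z * y ∧
      x⁻¹ * y * x = y * z ^ (s * p ^ (n - 3)) ∧ x⁻¹ * z * x = y * z := by
  have hzA : z ∉ R.A := fun h => hw (R.T_mem_Z hG x h)
  have hwA := R.T_mem_A hG hp2 hz hgen x hz
  obtain ⟨m, hm⟩ := IsPGroup.iff_orderOf.1 hG z
  have h0 : R.A ⊓ zpowers z ≤ R.Z := by
    rintro _ ⟨ha, k, rfl⟩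
    by_cases hk : (p : ℤ) ∣ k
    · obtain ⟨l, rfl⟩ := hk
      refine R.mem_Z hG hx ha (Commute.eq ?_)
      simp only
      rw [zpow_mul, zpow_natCast]
      refine Commute.zpow_left (T_eq_one.1 ?_) l
      rw [R.T_pow' hz hgen x hz, R.pow_eq hwA]
    · refine absurd ((QuotientGroup.eq_one_iff z).1 ?_) hzA
      have h1 := (QuotientGroup.eq_one_iff (N := R.A) _).2 ha
      obtain ⟨l, hl⟩ := IsPGroup.iff_orderOf.1 (hG.to_quotient R.A) (z : G ⧸ R.A)
      simp only [QuotientGroup.mk_zpow] at h1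
      rw [← orderOf_dvd_iff_zpow_eq_one, hl] at h1
      rcases l with _ | l
      · exact orderOf_eq_one_iff.1 hl
      · exact absurd ((Int.natCast_dvd_natCast.2 (dvd_pow_self p l.succ_ne_zero)).trans h1) hk
  have hZz : R.Z ≤ zpowers z := by
    obtain ⟨b, hb⟩ := exists_prime_orderOf_dvd_card' (G := zpowers z) p (by
      rw [Nat.card_zpowers]; exact hG.dvd_orderOf fun e => hzA (e ▸ one_mem _))
    rw [← orderOf_coe] at hb
    rw [← R.zpowers_eq hG (h0 ⟨(R.mem_iff _ (zpowers_le.2 hz b.2)).2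
      (orderOf_dvd_iff_pow_eq_one.1 hb.dvd), b.2⟩) (fun e => by
        rw [e, orderOf_one] at hb; exact hp.out.ne_one hb.symm), zpowers_le]
    exact b.2
  have h1 := R.sup_eq hgen hz (mem_sup_right (mem_zpowers z))
  obtain ⟨h3, h4⟩ := R.orderOf_eq hG hn h1 (le_antisymm h0 (le_inf inf_le_left hZz))
  obtain ⟨h5, h6⟩ := R.pow_mem_Z hG h3 h4 hZz
  refine ⟨?_, ?_⟩
  · by_contra h
    obtain rfl : n = 3 := by omega
    exact hzA (by simpa using h5.1)
  have key : ∀ (s : ℕ) (x : G), x ∉ R.H → x ^ p = 1 → T x z ∉ R.Z →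
      T x (T x z) = (z ^ p ^ (n - 3)) ^ s → ∃ y : G,
      closure ({x, y, z} : Set G) = ⊤ ∧ x ^ p = 1 ∧ y ^ p = 1 ∧ z ^ p ^ (n - 2) = 1 ∧ y * z = z * y ∧
      x⁻¹ * y * x = y * z ^ (s * p ^ (n - 3)) ∧ x⁻¹ * z * x = y * z := by
    intro s x hx hxp hw hs
    have hwA := R.T_mem_A hG hp2 hz hgen x hz
    have h7 : zpowers z ≤ closure ({x, T x z, z} : Set G) := zpowers_le.2 (subset_closure (by simp))
    exact ⟨T x z, R.eq_top hG (h1.ge.trans (sup_le (R.A_le hG (hZz.trans h7) hwA hw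
      (subset_closure (by simp))) h7)) hx (subset_closure (by simp)), hxp, R.pow_eq hwA,
      h4 ▸ pow_orderOf_eq_one z, R.comm hwA hz, by rw [mul_comm s, pow_mul, ← hs, ← conj_eq_T],
      by rw [(R.comm hwA hz).eq, ← conj_eq_T]⟩
  have ht := R.T_mem_Z hG x hwA
  obtain ⟨k, hk⟩ := R.exists_pow_eq hG h5 h6 ht
  by_cases hsq : IsSquare (k : ZMod p)
  swap
  · obtain ⟨y, hy⟩ := key k x hx hxp hw hk
    exact ⟨k, x, y, z, Or.inr hsq, hy⟩
  have hord : orderOf (z ^ p ^ (n - 3)) = p := orderOf_eq_prime (R.pow_eq h5.1) h6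
  have hk0 : (k : ZMod p) ≠ 0 := fun e => hw (R.mem_Z hG hx hwA (T_eq_one.1 (by
    rw [hk, ← orderOf_dvd_iff_pow_eq_one, hord]
    exact (ZMod.natCast_eq_zero_iff k p).1 e)))
  obtain ⟨i, hi⟩ := hsq
  have hi0 : i ≠ 0 := fun e => hk0 (by rw [hi, e, mul_zero])
  obtain ⟨j, hj⟩ := ZMod.natCast_zmod_surjective i⁻¹
  have hfix : x⁻¹ * T x (T x z) * x = T x (T x z) := by
    rw [mul_assoc, ← (R.commZ ht x).eq, inv_mul_cancel_left]
  have h7 : T (x ^ j) z = T x z ^ j * T x (T x z) ^ j.choose 2 := by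
    rw [T, conj_pow_formula (conj_eq_T x z) (conj_eq_T x _) (hfix.trans (mul_one _).symm) (by simp)
      (R.commZ ht _) (Commute.one_right _)]
    simp [mul_assoc]
  have h8 : T (x ^ j) (T x z) = T x (T x z) ^ j := by
    rw [T, conj_pow_formula (conj_eq_T x _) (hfix.trans (mul_one _).symm) (g := 1) (by simp) (by simp)
      (Commute.one_right _) (Commute.one_right _)]
    simp
  have h9 : T (x ^ j) (T (x ^ j) z) = (z ^ p ^ (n - 3)) ^ 1 := by
    rw [h7, R.T_mul' hz hgen _ (R.le (pow_mem hwA _)) (R.le (pow_mem ht.1 _)),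
      T_eq_one.2 (R.commZ (pow_mem ht _) _).symm, R.T_pow' hz hgen _ (R.le hwA), h8, hk, mul_one,
      ← pow_mul, ← pow_mul, pow_eq_pow_iff_modEq, hord, ← ZMod.natCast_eq_natCast_iff]
    push_cast
    rw [hj, hi]
    field_simp
  have h10 : T (x ^ j) z ∉ R.Z := fun h => h6 (by
    rw [← pow_one (z ^ _), ← h9]; exact T_eq_one.2 (R.commZ h _).symm)
  obtain ⟨y, hy⟩ := key 1 (x ^ j) (fun h => h10 (by
    rw [T_eq_one.2 (R.commH hz hgen hz h)]; exact one_mem _))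
    (by rw [← pow_mul, mul_comm, pow_mul, hxp, one_pow]) h10 h9
  exact ⟨1, x ^ j, y, z, Or.inl rfl, hy⟩

end Abelian

end R2

theorem lcs_ne_bot_of_card_centralizer [Finite G] [Fact p.Prime] {n : ℕ} (hn : Nat.card G = p ^ n)
    (h2 : 2 ≤ n) {s : G} (h : Nat.card (centralizer {s}) ≤ p ^ 2) :
    (⊤ : Subgroup G).lowerCentralSeries (n - 2) ≠ ⊥ := by
  have := (IsPGroup.of_card hn).isNilpotent
  rw [Ne, Subgroup.lowerCentralSeries_eq_bot_iff_nilpotencyClass_le,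
    H4.nilpotencyClass_eq_of_card_centralizer_le n h2 G hn s h]
  omega

end Cfsg.Agent.H80
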