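import Mathlib
import Cfsg.Agent.H4.Basic

/-! Small general facts. -/

set_option autoImplicit false

namespace Cfsg.Agent.H80

open Subgroup

variable {G : Type*} [Group G]

theorem exists_conj_sylow_le [Finite G] {p : ℕ} [Fact p.Prime] (P : Sylow p G) {M : Subgroup G}
    (h : ¬ p ∣ M.index) : ∃ g : G, (P : Subgroup G) ≤ M.map (MulAut.conj g).toMonoidHom := by
  obtain ⟨Q⟩ : Nonempty (Sylow p M) := inferInstance
  let Q' : Sylow p G := (Q.isPGroup'.map M.subtype).toSylow (by
    rw [index_map_subtype]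
    exact (Fact.out : p.Prime).prime.not_dvd_mul Q.not_dvd_index h)
  obtain ⟨g, hg⟩ := MulAction.exists_smul_eq G Q' P
  refine ⟨g, ?_⟩
  rw [← hg, H4.coe_sylow_smul]
  exact map_mono (map_subtype_le _)

theorem isCoatom_map_conj {M : Subgroup G} (h : IsCoatom M) (g : G) :
    IsCoatom (M.map (MulAut.conj g).toMonoidHom) :=
  ((MulAut.conj g).mapSubgroup.isCoatom_iff M).2 h

theorem index_map_conj (M : Subgroup G) (g : G) :
    (M.map (MulAut.conj g).toMonoidHom).index = M.index :=
  index_map_equiv M (MulAut.conj g)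

theorem not_dvd_index_of_sylow_le [Finite G] {p : ℕ} [Fact p.Prime] (P : Sylow p G) {M : Subgroup G}
    (h : (P : Subgroup G) ≤ M) : ¬ p ∣ M.index :=
  fun h1 => P.not_dvd_index (h1.trans (index_dvd_of_le h))

/-- a simple `p`-group is abelian -/
theorem comm_of_isSimpleGroup_of_isPGroup [Finite G] {p : ℕ} [Fact p.Prime] [IsSimpleGroup G]
    (h : IsPGroup p G) : IsMulCommutative G := by
  have := h.center_nontrivial
  rcases (inferInstance : (center G).Normal).eq_bot_or_eq_top with h1 | h1
  · rw [h1] at this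
    exact absurd this (not_nontrivial _)
  · exact ⟨⟨fun x y => (mem_center_iff.1 (h1 ▸ mem_top y) x)⟩⟩

end Cfsg.Agent.H80
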