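import Mathlib
import Cfsg.Agent.H80.Misc
import Cfsg.Agent.H4.SCN
import Cfsg.Agent.H22.PGroupMisc
import Cfsg.Agent.H23.Basic
import Cfsg.Agent.H46.NormalFour

/-! Groups in which abelian subgroups of the same order are conjugate. -/

set_option autoImplicit false

namespace Cfsg.Agent.H80

open Subgroup

variable {G : Type*} [Group G]

/-- abelian subgroups of equal order are conjugate -/
def BG (G : Type*) [Group G] : Prop :=
  ∀ A B : Subgroup G, IsMulCommutative ↥A → IsMulCommutative ↥B → Nat.card ↥A = Nat.card ↥B →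
    ∃ g : G, B = A.map (MulAut.conj g).toMonoidHom

theorem map_conj_of_normal (A : Subgroup G) [A.Normal] (g : G) :
    A.map (MulAut.conj g).toMonoidHom = A :=
  H4.map_conj_eq_iff.2 (by rw [normalizer_eq_top]; trivial)

theorem isCyclic_of_BG_of_isPGroup [Finite G] {p : ℕ} [hp : Fact p.Prime] (hG : IsPGroup p G)
    (hB : BG G) : IsCyclic G := by
  obtain ⟨A, hAn, hAc, -, hmax⟩ := H4.exists_maximal_abelian (⊥ : Subgroup G)
  have hC := H4.centralizer_le_of_maximal_abelian hG A hmax
  have key : ∀ B : Subgroup G, IsMulCommutative B → Nat.card B ≤ Nat.card A →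
      B ≤ A ∧ B.Normal := by
    intro B hBc hle
    obtain ⟨k, hk⟩ := IsPGroup.iff_card.1 (hG.to_subgroup B)
    obtain ⟨K, hK, hKA, hKc⟩ := H3.exists_normal_le_card_eq hG A k (hk ▸ hle)
    obtain ⟨g, hg⟩ := hB K B (H23.isMulCommutative_of_le hAc hKA) hBc (hKc.trans hk.symm)
    rw [map_conj_of_normal] at hg
    rw [hg]; exact ⟨hKA, hK⟩
  have htop : A = ⊤ := by
    rw [eq_top_iff]
    intro x _
    rcases le_total (Nat.card (zpowers x)) (Nat.card A) with h | h
    · exact (key _ inferInstance h).1 (mem_zpowers x)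
    · obtain ⟨k, hk⟩ := IsPGroup.iff_card.1 (hG.to_subgroup A)
      obtain ⟨K, hK, hKc⟩ := H22.exists_le_card_eq_pow (hG.to_subgroup _) (hk ▸ h)
      have h1 := (key K (H23.isMulCommutative_of_le inferInstance hK) (hKc.trans hk.symm).le).1
      have h2 : K = A := eq_of_le_of_card_ge h1 (hk.trans hKc.symm).le
      apply hC
      rw [mem_centralizer_iff]
      intro y hy
      exact H23.comm_of_mem inferInstance (hK (h2 ▸ hy)) (mem_zpowers x)
  have hcomm : IsMulCommutative G :=
    ⟨⟨fun a b => H23.comm_of_mem hAc (htop ▸ mem_top a) (htop ▸ mem_top b)⟩⟩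
  apply H46.isCyclic_of_comm_of_unique hG
  intro x y hx hy
  by_cases h1 : y = 1
  · rw [h1]; exact one_mem _
  have hy' : orderOf y = p := orderOf_eq_prime hy h1
  obtain ⟨g, hg⟩ := hB (zpowers x) (zpowers y) inferInstance inferInstance
    (by rw [Nat.card_zpowers, Nat.card_zpowers, hx, hy'])
  have : (zpowers x).Normal := ⟨fun n hn g => by rwa [hcomm.is_comm.comm g n, mul_inv_cancel_right]⟩
  rw [map_conj_of_normal] at hg
  exact hg ▸ mem_zpowers y

/-- `BG` passes to a subgroup `P` with `G = P C(P)`. -/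
theorem BG.of_sup_centralizer (hB : BG G) {P : Subgroup G}
    (h : ∀ g : G, ∃ x ∈ P, ∃ c ∈ centralizer (P : Set G), g = x * c) : BG P := by
  intro A B hA hB' hAB
  obtain ⟨g, hg⟩ := hB (A.map P.subtype) (B.map P.subtype) inferInstance inferInstance
    (by rw [card_map_of_injective P.subtype_injective, card_map_of_injective P.subtype_injective, hAB])
  obtain ⟨x, hx, c, hc, rfl⟩ := h g
  refine ⟨⟨x, hx⟩, ?_⟩
  apply map_injective P.subtype_injective
  rw [hg, ← H4.map_conj_map_conj, H4.map_conj_eq_iff.2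
    (centralizer_le_normalizer _ (centralizer_le (map_subtype_le A) hc)), map_map, map_map]
  rfl

end Cfsg.Agent.H80
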