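import Mathlib
import Cfsg.Agent.H80.BGroup
import Cfsg.Agent.H80.MCSub
import Cfsg.Agent.H22.Core
import Cfsg.Agent.H4.CoprimeAut
import Cfsg.Agent.H3.PComplement
import Cfsg.Agent.H3.PGroup
import Cfsg.Agent.H2.Basic
import Cfsg.Agent.S0016
import Cfsg.Agent.S0029
import Cfsg.Agent.S0081
import Cfsg.Agent.S3909

/-! Quotients of groups in which abelian subgroups of the same order are conjugate. -/

set_option autoImplicit false

namespace Cfsg.Agent.H80

open Subgroup
open scoped commutatorElement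

universe u

variable {G : Type*} [Group G]

theorem exists_compl_rel [Finite G] {N L : Subgroup G} (hNL : N ≤ L) (hn : L ≤ normalizer (N : Set G))
    (hc : (Nat.card N).Coprime (N.relIndex L)) :
    ∃ T : Subgroup G, T ≤ L ∧ N ⊔ T = L ∧ Nat.card T = N.relIndex L := by
  have := normal_subgroupOf_of_le_normalizer hn
  obtain ⟨T, hT⟩ := exists_right_complement'_of_coprime (N := N.subgroupOf L)
    (by rw [H2.card_subgroupOf_of_le hNL]; exact hc)
  refine ⟨T.map L.subtype, map_subtype_le _, ?_, ?_⟩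
  · have h1 := congrArg (Subgroup.map L.subtype) hT.sup_eq_top
    rwa [Subgroup.map_sup, map_subgroupOf_eq_of_le hNL, ← MonoidHom.range_eq_map, range_subtype] at h1
  · rw [card_map_of_injective L.subtype_injective, ← hT.symm.index_eq_card]; rfl

theorem le_frattini_of_isCyclic [Finite G] {p : ℕ} [hp : Fact p.Prime] {S M : Subgroup G}
    (hS : IsPGroup p S) (hc : IsCyclic S) (h : M < S) : M ≤ (frattini S).map S.subtype := by
  obtain ⟨⟨a, ha⟩, hgen⟩ := IsCyclic.exists_generator (α := S)
  have h1 : S = zpowers a := by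
    refine le_antisymm (fun x hx => ?_) (zpowers_le.2 ha)
    obtain ⟨k, hk⟩ := hgen ⟨x, hx⟩
    exact ⟨k, congrArg Subtype.val hk⟩
  obtain ⟨m, hm⟩ := IsPGroup.iff_orderOf.1 hS ⟨a, ha⟩
  rw [orderOf_mk] at hm
  obtain ⟨α, h2, -⟩ := exists_eq_zpowers_pow_prime_pow hm (h1 ▸ h.le)
  rcases α with _ | α
  · rw [pow_zero, pow_one, ← h1] at h2
    exact absurd h2 h.ne
  · rw [h2, zpowers_le, pow_succ, pow_mul]
    exact ((H3.map_frattini_le_iff hS).1 le_rfl).2 _ (pow_mem ha _)

theorem BG.mem_of_orderOf [Finite G] (hB : BG G) (M : Subgroup G) [M.Normal] {a m : G} (hm : m ∈ M)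
    (h : orderOf m = orderOf a) : a ∈ M := (S3909.result hB M).1 a ⟨m, hm, h⟩

theorem BG.sylow_cases [Finite G] (hB : BG G) {p : ℕ} [hp : Fact p.Prime] {P : Subgroup G}
    (hP : IsPGroup p P) :
    (∀ x ∈ P, x ^ p = 1) ∨ ∀ H K : Subgroup P, Nat.card H = p → Nat.card K = p → H = K := by
  by_cases h : ∀ x ∈ P, x ^ p = 1
  · exact Or.inl h
  right
  push Not at h
  obtain ⟨x, hx, hxp⟩ := h
  obtain ⟨k, hk⟩ := IsPGroup.iff_orderOf.1 hP ⟨x, hx⟩
  rw [orderOf_mk] at hk
  obtain ⟨k, rfl⟩ : ∃ j, k = j + 2 := by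
    refine ⟨k - 2, ?_⟩
    by_contra h1
    apply hxp
    rw [← orderOf_dvd_iff_pow_eq_one, hk]
    exact (pow_dvd_pow p (show k ≤ 1 by omega)).trans (pow_one p).dvd
  have hy : orderOf (x ^ p ^ k) = p ^ 2 := by
    rw [orderOf_pow, hk, Nat.gcd_eq_right (pow_dvd_pow p (by omega)), Nat.pow_div (by omega) hp.out.pos]
    congr 1; omega
  have hnt : (⊤ : Subgroup P) ≠ ⊥ := fun h => hxp (by
    have h1 : (⟨x, hx⟩ : P) = 1 := mem_bot.1 (h ▸ mem_top (⟨x, hx⟩ : P))
    have : x = 1 := congrArg Subtype.val h1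
    rw [this, one_pow])
  obtain ⟨z, -, hz, hzo⟩ := H3.exists_mem_center_orderOf_eq hP ⊤ hnt
  have key : ∀ H : Subgroup P, Nat.card H = p → H = zpowers z := by
    intro H hH
    by_contra hne
    have hzn : (zpowers z).Normal := ⟨fun n hn g => by
      rw [mem_center_iff.1 (zpowers_le.2 hz hn) g, mul_inv_cancel_right]; exact hn⟩
    have h1 : H ⊓ zpowers z = ⊥ := by
      have h2 := card_dvd_of_le (inf_le_left : H ⊓ zpowers z ≤ H)
      rw [hH] at h2
      rcases (Nat.dvd_prime hp.out).1 h2 with h3 | h3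
      · exact card_eq_one.1 h3
      · exfalso
        apply hne
        rw [← eq_of_le_of_card_ge inf_le_left (hH.trans h3.symm).le]
        exact eq_of_le_of_card_ge inf_le_right (by rw [h3, Nat.card_zpowers, hzo])
    have h2 := H2.card_sup_mul_card_inf_of_normal H (zpowers z)
    rw [h1, card_bot, mul_one, hH, Nat.card_zpowers, hzo, ← sq] at h2
    have h3 : ∀ w ∈ H ⊔ zpowers z, w ^ p = 1 := by
      intro w hw
      obtain ⟨a, ha, b, hb, rfl⟩ := mem_sup_of_normal_right.1 hw
      have hc : Commute a b := mem_center_iff.1 (zpowers_le.2 hz hb) a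
      have ha' : a ^ p = 1 := by
        rw [← orderOf_dvd_iff_pow_eq_one, ← hH]; exact H.orderOf_dvd_natCard ha
      have hb' : b ^ p = 1 := by
        rw [← orderOf_dvd_iff_pow_eq_one, ← hzo, ← Nat.card_zpowers z]; exact (zpowers z).orderOf_dvd_natCard hb
      rw [hc.mul_pow, ha', hb', one_mul]
    have h4 := IsPGroup.isMulCommutative_of_card_eq_prime_sq h2
    obtain ⟨g, hg⟩ := hB ((H ⊔ zpowers z).map P.subtype) (zpowers (x ^ p ^ k)) inferInstance inferInstance
      (by rw [Nat.card_zpowers, hy, card_map_of_injective P.subtype_injective, h2])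
    have h5 := mem_zpowers (x ^ p ^ k)
    rw [hg] at h5
    obtain ⟨_, ⟨w, hw, rfl⟩, e⟩ := h5
    have h6 : (x ^ p ^ k) ^ p = 1 := by rw [← e, ← map_pow, ← map_pow, h3 w hw, map_one, map_one]
    have h7 := Nat.le_of_dvd hp.out.pos (hy ▸ orderOf_dvd_of_pow_eq_one h6)
    nlinarith [hp.out.two_le]
  intro H K hH hK
  rw [key H hH, key K hK]

variable {H : Type*} [Group H]

theorem map_conj_map (f : G →* H) (A : Subgroup G) (g : G) :
    (A.map (MulAut.conj g).toMonoidHom).map f = (A.map f).map (MulAut.conj (f g)).toMonoidHom := by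
  rw [map_map, map_map]
  congr 1
  ext x
  simp

theorem card_comap_of_surjective [Finite G] (f : G →* H) (hf : Function.Surjective f) (A : Subgroup H) :
    Nat.card (A.comap f) = Nat.card f.ker * Nat.card A := by
  have h1 := relIndex_ker (A.comap f) f
  rw [map_comap_eq_self_of_surjective hf] at h1
  rw [← h1, H23.card_eq_relIndex_mul (ker_le_comap f A), mul_comm]

theorem comm_of_map [Finite G] (f : G →* H) {T : Subgroup G} {A : Subgroup H} (hA : IsMulCommutative A)
    (hT : T ≤ A.comap f) (hc : (Nat.card T).Coprime (Nat.card f.ker)) : IsMulCommutative T := by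
  apply H23.isMulCommutative_of_comm
  intro a ha b hb
  have h1 : ⁅a, b⁆ ∈ T ⊓ f.ker := ⟨T.mul_mem (T.mul_mem (T.mul_mem ha hb) (T.inv_mem ha)) (T.inv_mem hb), by
    change f _ = 1
    rw [map_commutatorElement, commutatorElement_eq_one_iff_mul_comm]
    exact H23.comm_of_mem hA (hT ha) (hT hb)⟩
  rwa [(disjoint_of_coprime_natCard hc).eq_bot, mem_bot, commutatorElement_eq_one_iff_mul_comm] at h1

theorem lift_coprime [Finite G] (f : G →* H) (hf : Function.Surjective f) {A : Subgroup H}
    (hA : IsMulCommutative A) (hc : (Nat.card f.ker).Coprime (Nat.card A)) :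
    ∃ T : Subgroup G, IsMulCommutative T ∧ T.map f = A ∧ Nat.card T = Nat.card A := by
  have h1 := relIndex_ker (A.comap f) f
  rw [map_comap_eq_self_of_surjective hf] at h1
  obtain ⟨T, hT1, hT2, hT3⟩ := exists_compl_rel (ker_le_comap f A)
    (by rw [normalizer_eq_top]; exact le_top) (h1 ▸ hc)
  refine ⟨T, comm_of_map f hA hT1 (by rw [hT3, h1]; exact hc.symm), ?_, hT3.trans h1⟩
  have := congrArg (Subgroup.map f) hT2
  rwa [Subgroup.map_sup, map_ker_self, bot_sup_eq, map_comap_eq_self_of_surjective hf] at this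

theorem BG.conj_of_coprime [Finite G] (hB : BG G) (f : G →* H) (hf : Function.Surjective f)
    {A B : Subgroup H} (hA : IsMulCommutative A) (hB' : IsMulCommutative B)
    (h : Nat.card A = Nat.card B) (hc : (Nat.card f.ker).Coprime (Nat.card A)) :
    ∃ g : H, B = A.map (MulAut.conj g).toMonoidHom := by
  obtain ⟨T, h1, rfl, h3⟩ := lift_coprime f hf hA hc
  obtain ⟨U, h4, rfl, h6⟩ := lift_coprime f hf hB' (h ▸ hc)
  obtain ⟨g, rfl⟩ := hB T U h1 h4 (by rw [h3, h6, h])
  exact ⟨f g, map_conj_map f T g⟩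

theorem BG.of_hall [Finite G] (hB : BG G) (f : G →* H) (hf : Function.Surjective f)
    (hc : (Nat.card f.ker).Coprime (Nat.card H)) : BG H := fun A _ hA hB' h =>
  hB.conj_of_coprime f hf hA hB' h (hc.coprime_dvd_right (card_subgroup_dvd_card A))

theorem BG.of_pker [Finite G] (hB : BG G) {p : ℕ} [hp : Fact p.Prime] (f : G →* H)
    (hf : Function.Surjective f) (hk : IsPGroup p f.ker)
    (hS : ∀ S : Subgroup G, IsPGroup p S → f.ker < S →
      IsCyclic S ∨ (¬ p ∣ S.index ∧ f.ker ≤ center G)) : BG H := by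
  have : Finite H := Finite.of_surjective f hf
  obtain ⟨m, hm⟩ := IsPGroup.iff_card.1 hk
  intro A B hA hB' hAB
  by_cases hd : ¬ p ∣ Nat.card A
  · exact hB.conj_of_coprime f hf hA hB' hAB
      (hm ▸ Nat.Coprime.pow_left _ ((Nat.Prime.coprime_iff_not_dvd hp.out).2 hd))
  rw [not_not] at hd
  have key : ∀ A : Subgroup H, IsMulCommutative A → p ∣ Nat.card A → ∃ S T : Subgroup G,
      H4.IsSylowIn p S (A.comap f) ∧ f.ker < S ∧ IsMulCommutative T ∧ S ⊔ T = A.comap f ∧
      S ≤ centralizer (T : Set G) ∧ Nat.card T * Nat.card S = Nat.card (A.comap f) := by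
    intro A hA hd
    obtain ⟨S, hS1, hS2⟩ := H4.IsSylowIn.exists_le hk (ker_le_comap f A)
    have hcomm : ∀ a ∈ A.comap f, ∀ b ∈ A.comap f, ⁅a, b⁆ ∈ f.ker := by
      intro a ha b hb
      change f _ = 1
      rw [map_commutatorElement, commutatorElement_eq_one_iff_mul_comm]
      exact H23.comm_of_mem hA ha hb
    have hn : A.comap f ≤ normalizer (S : Set G) := by
      intro g hg
      apply H4.mem_normalizer_of_conj_mem
      intro x hx
      have := mul_mem (hS2 (hcomm g hg x (hS1.le hx))) hx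
      simpa [commutatorElement_def] using this
    obtain ⟨s, hs⟩ := IsPGroup.iff_card.1 hS1.isPGroup
    have hcop : (S.relIndex (A.comap f)).Coprime p :=
      ((Nat.Prime.coprime_iff_not_dvd hp.out).2 hS1.not_dvd).symm
    obtain ⟨T, hT1, hT2, hT3⟩ := exists_compl_rel hS1.le hn (hs ▸ Nat.Coprime.pow_left _ hcop.symm)
    have hlt : f.ker < S := by
      refine lt_of_le_of_ne hS2 fun e => hS1.not_dvd ?_
      rw [← e, relIndex_ker, map_comap_eq_self_of_surjective hf]
      exact hd
    refine ⟨S, T, hS1, hlt, comm_of_map f hA hT1 (by rw [hT3, hm]; exact hcop.pow_right _), hT2, ?_,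
      by rw [hT3, H23.card_eq_relIndex_mul hS1.le]⟩
    rw [le_centralizer_iff]
    rcases hS S hS1.isPGroup hlt with h | ⟨-, h⟩
    · refine S0029.result T S (hT1.trans hn) ?_ fun a ha k hk => ?_
      · obtain ⟨t, ht⟩ := IsPGroup.iff_card.1 (hS1.isPGroup.to_subgroup (frattini S))
        rw [ht, hT3]
        exact hcop.pow_right _
      · exact le_frattini_of_isCyclic hS1.isPGroup h hlt (hcomm a (hT1 ha) k (hS1.le hk))
    · intro a ha
      refine H4.mem_centralizer_of_stabilizes hk
        ((hT3 ▸ hcop).coprime_dvd_left (T.orderOf_dvd_natCard ha))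
        (fun y hy => (mem_center_iff.1 (h hy) a).symm) fun x hx => ?_
      have := hcomm _ (inv_mem (hS1.le hx)) a (hT1 ha)
      simpa [commutatorElement_def, mul_assoc] using this
  obtain ⟨S, T, h1, h2, h3, h4, h5, h6⟩ := key A hA hd
  obtain ⟨S', T', h1', h2', h3', h4', h5', h6'⟩ := key B hB' (hAB ▸ hd)
  have hL : Nat.card (A.comap f) = Nat.card (B.comap f) := by
    rw [card_comap_of_surjective f hf, card_comap_of_surjective f hf, hAB]
  have hSS : Nat.card S = Nat.card S' := by rw [h1.card_eq, h1'.card_eq, hL]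
  have hTT : Nat.card T = Nat.card T' := by
    rw [hL, ← h6', hSS] at h6
    exact Nat.eq_of_mul_eq_mul_right Nat.card_pos h6
  suffices h : ∃ g : G, B.comap f = (A.comap f).map (MulAut.conj g).toMonoidHom by
    obtain ⟨g, hg⟩ := h
    refine ⟨f g, ?_⟩
    have := congrArg (Subgroup.map f) hg
    rwa [map_conj_map, map_comap_eq_self_of_surjective hf, map_comap_eq_self_of_surjective hf] at this
  have hidx : S.index = S'.index := by
    have e1 := S.card_mul_index
    rw [← S'.card_mul_index, hSS] at e1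
    exact Nat.eq_of_mul_eq_mul_left Nat.card_pos e1
  by_cases hp' : p ∣ S.index
  · have c1 := (hS S h1.isPGroup h2).resolve_right fun h => h.1 hp'
    have c2 := (hS S' h1'.isPGroup h2').resolve_right fun h => h.1 (hidx ▸ hp')
    exact hB _ _ (h4 ▸ H23.isMulCommutative_sup c1.isMulCommutative h3 h5)
      (h4' ▸ H23.isMulCommutative_sup c2.isMulCommutative h3' h5') hL
  · obtain ⟨g, hg⟩ := hB T T' h3 h3' hTT
    have e1 : H4.IsSylowIn p S' (centralizer (T' : Set G)) :=
      H4.IsSylowIn.of_sylow_le (h1'.isPGroup.toSylow (hidx ▸ hp')) h5'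
    obtain ⟨c, hc, hc2⟩ := e1.exists_conj (h1.isPGroup.map (MulAut.conj g).toMonoidHom) (by
      rw [hg, H4.centralizer_map_conj]; exact map_mono h5)
    refine ⟨c * g, ?_⟩
    rw [← h4, ← h4', Subgroup.map_sup, ← H4.map_conj_map_conj, ← H4.map_conj_map_conj, ← hg,
      H4.map_conj_eq_iff.2 (centralizer_le_normalizer _ hc)]
    congr 1
    symm
    apply eq_of_le_of_card_ge
    · rintro _ ⟨x, hx, rfl⟩
      exact hc2 x hx
    · rw [H4.card_map_conj, H4.card_map_conj, hSS]

/-- factor a surjection through a normal subgroup of its kernel -/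
theorem exists_factor [Finite G] (f : G →* H) (hf : Function.Surjective f) (K : Subgroup G) [K.Normal]
    (hK : K ≤ f.ker) : ∃ f' : G ⧸ K →* H, Function.Surjective f' ∧
      Nat.card K * Nat.card f'.ker = Nat.card f.ker := by
  refine ⟨QuotientGroup.lift K f hK, QuotientGroup.lift_surjective_of_surjective K f hf hK, ?_⟩
  have h1 := card_comap_of_surjective (QuotientGroup.mk' K) (QuotientGroup.mk'_surjective K)
    (QuotientGroup.lift K f hK).ker
  rw [QuotientGroup.ker_mk'] at h1
  rw [← h1]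
  rfl

theorem BG.of_odd (n : ℕ) : ∀ {G H : Type u} [Group G] [Finite G] [Group H] (f : G →* H),
    Function.Surjective f → Nat.card f.ker = n → Odd n → BG G → BG H := by
  induction n using Nat.strong_induction_on with
  | _ n ih =>
  intro G H _ _ _ f hf hn hodd hB
  by_cases hc : (Nat.card f.ker).Coprime (Nat.card H)
  · exact hB.of_hall f hf hc
  obtain ⟨p, hp, hp1, hp2⟩ := Nat.Prime.not_coprime_iff_dvd.1 hc
  have := Fact.mk hp
  have hp3 : p ≠ 2 := by
    rintro rfl
    exact (Nat.not_even_iff_odd.2 hodd) (even_iff_two_dvd.2 (hn ▸ hp1))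
  obtain ⟨m, hm⟩ := exists_prime_orderOf_dvd_card' (G := f.ker) p hp1
  have hcyc : ∀ S : Subgroup G, IsPGroup p S → ¬ S ≤ f.ker → IsCyclic S := by
    intro S hS hSk
    rcases hB.sylow_cases hS with h | h
    · refine absurd (fun x hx => ?_) hSk
      by_cases hx1 : x = 1
      · rw [hx1]; exact one_mem _
      · exact hB.mem_of_orderOf _ m.2 (by rw [orderOf_coe, hm, orderOf_eq_prime (h x hx) hx1])
    · exact (S0016.result p hS h).resolve_right fun h => hp3 h.1
  obtain ⟨P⟩ : Nonempty (Sylow p G) := inferInstance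
  have hP : ¬ (P : Subgroup G) ≤ f.ker := fun h =>
    not_dvd_index_of_sylow_le P h (by rwa [index_ker, MonoidHom.range_eq_top.2 hf, card_top])
  have h1 := S0081.result P f.ker (le_frattini_of_isCyclic P.isPGroup' (hcyc _ P.isPGroup' hP)
    (lt_of_le_of_ne inf_le_right fun e => hP (inf_eq_right.1 e)))
  rw [H3.hasNormalPComplement_iff_coprime] at h1
  let K := (pResidual p f.ker).map f.ker.subtype
  have hKn : K.Normal := inferInstance
  have hKc : Nat.card K = Nat.card (pResidual p f.ker) := card_map_of_injective f.ker.subtype_injective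
  by_cases hK : K = ⊥
  · have h2 : pResidual p f.ker = ⊥ := (map_eq_bot_iff_of_injective _ f.ker.subtype_injective).1 hK
    exact hB.of_pker f hf (H3.pResidual_eq_bot_iff.1 h2) fun S hS hlt => Or.inl (hcyc S hS hlt.not_ge)
  · obtain ⟨f', hf', h3⟩ := exists_factor f hf K (map_subtype_le _)
    have h4 : 1 < Nat.card K := (one_lt_card_iff_ne_bot K).2 hK
    have h5 : Nat.card K ≠ Nat.card f.ker := by
      intro e
      rw [← hKc, e] at h1
      exact hp.ne_one (Nat.Coprime.eq_one_of_dvd h1.symm hp1)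
    have h6 : Nat.card K < n := hn ▸ lt_of_le_of_ne (card_le_of_le (map_subtype_le _)) h5
    rw [hn] at h3
    refine ih _ ?_ f' hf' rfl (hodd.of_dvd_nat (Dvd.intro_left _ h3))
      (ih _ h6 (QuotientGroup.mk' K) (QuotientGroup.mk'_surjective K) (by rw [QuotientGroup.ker_mk'])
        (hodd.of_dvd_nat (Dvd.intro _ h3)) hB)
    have : 0 < Nat.card f'.ker := Nat.card_pos
    nlinarith

end Cfsg.Agent.H80
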