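import Mathlib
import Cfsg.Agent.H80.BGroup2
import Cfsg.Agent.H22.PSolvable
import Cfsg.Agent.H42.Index2
import Cfsg.Agent.H2.MinNormal

/-! Quotients of solvable groups in which abelian subgroups of the same order are conjugate. -/

set_option autoImplicit false

namespace Cfsg.Agent.H80

open Subgroup H42
open scoped commutatorElement

universe u

variable {G : Type*} [Group G]

theorem quat_out {X : Subgroup G} {a b : G} {n : ℕ} (ha : orderOf a = 2 * n) (hn : n ≠ 0)
    (hb : b * b = a ^ n) (hab : b * a * b⁻¹ = a⁻¹) (hX : X = zpowers a ⊔ zpowers b) {t : G}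
    (ht : t ∈ X) (htA : t ∉ zpowers a) : t * t = a ^ n ∧ orderOf t = 4 := by
  have h1 : t * t = a ^ n := by
    rw [hX, mem_sup_zpowers (mem_normalizer_zpowers_of_inverts hab) (hb ▸ pow_mem (mem_zpowers a) n)] at ht
    obtain ⟨k, hk⟩ := ht.resolve_left htA
    have : t = a ^ k * b := by simp only at hk; rw [hk]; simp
    rw [this, zpow_mul_of_inverts hab k, ← hb]
    nth_rewrite 2 [← zpow_mul_of_inverts hab k]
    group
  refine ⟨h1, ?_⟩
  have h2 : orderOf (a ^ n) = 2 := orderOf_pow_of_eq_mul hn (by rw [ha, mul_comm])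
  refine orderOf_eq_prime_pow (p := 2) (n := 1) ?_ ?_
  · rw [pow_one, sq, h1]
    intro e
    rw [e, orderOf_one] at h2
    exact absurd h2 (by norm_num)
  · rw [show 2 ^ (1 + 1) = 2 * 2 by norm_num, pow_mul, sq t, h1, ← h2, pow_orderOf_eq_one]

/-- in a solvable `BG` group with `O(G) = 1`, a quaternion Sylow subgroup is normal -/
theorem BG.quaternion_normal [Finite G] (hB : BG G) (hs : Group.IsSolvable G) (hO : pPrimeCore 2 G = ⊥)
    (P : Sylow 2 G) {k : ℕ} (e : (P : Subgroup G) ≃* QuaternionGroup (2 ^ k)) :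
    (P : Subgroup G).Normal := by
  obtain ⟨a, ha, b, hb, h1, h2, h3, h4, h5⟩ := exists_gens_of_quaternion e
  have hq := fun t ht htA => quat_out (t := t) h1 (by positivity) h2 h3 h5 ht htA
  have hC := H22.IsPSolvable.centralizer_pCore_le (H22.isPSolvable_of_isSolvable (p := 2) (G := G)) hO
  have hOP := H22.pCore_le_sylow P
  have hab : a * b ∉ zpowers a := fun h => h4 ((mul_mem_cancel_left (mem_zpowers a)).1 h)
  suffices h : b ∈ pCore 2 G by
    have h6 : a * b ∈ pCore 2 G := hB.mem_of_orderOf _ h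
      ((hq b hb h4).2.trans (hq _ (mul_mem ha hb) hab).2.symm)
    have h7 : (P : Subgroup G) = pCore 2 G := by
      refine le_antisymm ?_ hOP
      rw [h5]
      exact sup_le (zpowers_le.2 ((mul_mem_cancel_right h).1 h6)) (zpowers_le.2 h)
    rw [h7]; infer_instance
  by_contra hbO
  apply hbO
  apply hC
  intro y hy
  have hyA : y ∈ zpowers a := by
    by_contra h6
    exact hbO (hB.mem_of_orderOf _ hy ((hq y (hOP hy) h6).2.trans (hq b hb h4).2.symm))
  have hy2 : y * y = 1 := by
    obtain ⟨j, hj⟩ := IsPGroup.iff_orderOf.1 H22.isPGroup_pCore ⟨y, hy⟩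
    rw [orderOf_mk] at hj
    by_contra h6
    obtain ⟨j, rfl⟩ : ∃ i, j = i + 2 := by
      refine ⟨j - 2, ?_⟩
      by_contra h1
      apply h6
      rw [← sq, ← orderOf_dvd_iff_pow_eq_one, hj]
      exact (pow_dvd_pow 2 (show j ≤ 1 by omega)).trans (pow_one 2).dvd
    have h7 : orderOf (y ^ 2 ^ j) = 4 := orderOf_pow_of_eq_mul (by positivity) (by rw [hj]; ring)
    exact hbO (hB.mem_of_orderOf _ (pow_mem hy _) (h7.trans (hq b hb h4).2.symm))
  obtain ⟨i, rfl⟩ := hyA
  simp only at hy2 ⊢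
  rw [zpow_mul_of_inverts h3, zpow_neg, inv_eq_of_mul_eq_one_right hy2]

theorem BG.quaternion_le [Finite G] (hB : BG G) (hs : Group.IsSolvable G)
    (P : Sylow 2 G) {k : ℕ} (e : (P : Subgroup G) ≃* QuaternionGroup (2 ^ k)) : k ≤ 1 := by
  by_contra hk
  let π := QuotientGroup.mk' (pPrimeCore 2 G)
  have hπ := QuotientGroup.mk'_surjective (pPrimeCore 2 G)
  have hc := H22.coprime_card_pPrimeCore (p := 2) (G := G)
  have hB' : BG (G ⧸ pPrimeCore 2 G) := BG.of_odd _ π hπ rfl (by
    rw [QuotientGroup.ker_mk']; exact Nat.coprime_two_right.1 hc) hB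
  have hinj : Function.Injective (π.subgroupMap P) := by
    rw [injective_iff_map_eq_one]
    intro x hx
    have h1 : (x : G) ∈ (P : Subgroup G) ⊓ pPrimeCore 2 G :=
      ⟨x.2, (QuotientGroup.eq_one_iff _).1 (congrArg Subtype.val hx)⟩
    rw [H22.inf_eq_bot_of_pgroup_coprime P.isPGroup' hc] at h1
    exact Subtype.ext h1
  let e' : ((P.mapSurjective hπ : Sylow 2 (G ⧸ pPrimeCore 2 G)) : Subgroup (G ⧸ pPrimeCore 2 G)) ≃*
      QuaternionGroup (2 ^ k) :=
    (MulEquiv.ofBijective (π.subgroupMap P) ⟨hinj, π.subgroupMap_surjective P⟩).symm.trans e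
  have hn := hB'.quaternion_normal inferInstance H22.pPrimeCore_quotient_pPrimeCore _ e'
  obtain ⟨a, ha, b, hb, h1, h2, h3, h4, h5⟩ := exists_gens_of_quaternion e'
  have hq := fun t ht htA => quat_out (t := t) h1 (by positivity) h2 h3 h5 ht htA
  obtain ⟨k, rfl⟩ : ∃ j, k = j + 2 := ⟨k - 2, by omega⟩
  have hA : (zpowers a).Normal := by
    constructor
    rintro _ ⟨i, rfl⟩ g
    simp only
    rw [← conj_zpow]
    refine zpow_mem ?_ i
    by_contra h6
    have h7 := (hq _ (hn.conj_mem a ha g) h6).2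
    rw [show g * a * g⁻¹ = MulAut.conj g a from rfl, MulEquiv.orderOf_eq, h1, pow_add] at h7
    have : 0 < 2 ^ k := by positivity
    omega
  have h8 : orderOf (a ^ 2 ^ (k + 1)) = 4 := orderOf_pow_of_eq_mul (by positivity) (by rw [h1]; ring)
  exact h4 (hB'.mem_of_orderOf _ (pow_mem (mem_zpowers a) _) (h8.trans (hq b hb h4).2.symm))

theorem card_of_quaternion {X : Type*} [Group X] {k : ℕ} (e : X ≃* QuaternionGroup (2 ^ k)) :
    Nat.card X = 4 * 2 ^ k := by
  have : NeZero (2 ^ k) := ⟨by positivity⟩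
  rw [Nat.card_congr e.toEquiv, Nat.card_eq_fintype_card, QuaternionGroup.card]

theorem BG.of_solvable (n : ℕ) : ∀ {G H : Type u} [Group G] [Finite G] [Group H] (f : G →* H),
    Function.Surjective f → Nat.card f.ker = n → Group.IsSolvable G → BG G → BG H := by
  induction n using Nat.strong_induction_on with
  | _ n ih =>
  intro G H _ _ _ f hf hn hs hB
  by_cases hc : (Nat.card f.ker).Coprime (Nat.card H)
  · exact hB.of_hall f hf hc
  have hk : f.ker ≠ ⊥ := by
    intro e
    rw [e, card_bot] at hc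
    exact hc (Nat.coprime_one_left _)
  obtain ⟨K, p, hp, hKn, hK, hKle, hKc, hKp, hKe, hmin⟩ :=
    H2.exists_minimal_normal_le_of_solvable f.ker inferInstance inferInstance hk
  have := Fact.mk hp
  by_cases hKk : K ≠ f.ker
  · obtain ⟨f', hf', h3⟩ := exists_factor f hf K hKle
    have h4 : 1 < Nat.card K := (one_lt_card_iff_ne_bot K).2 hK
    have h6 : Nat.card K < n := hn ▸ H23.card_lt_of_lt (lt_of_le_of_ne hKle hKk)
    rw [hn] at h3
    refine ih _ ?_ f' hf' rfl inferInstance
      (ih _ h6 (QuotientGroup.mk' K) (QuotientGroup.mk'_surjective K) (by rw [QuotientGroup.ker_mk'])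
        hs hB)
    have : 0 < Nat.card f'.ker := Nat.card_pos
    nlinarith
  rw [not_not] at hKk
  subst hKk
  obtain ⟨m, hm⟩ := IsPGroup.iff_card.1 hKp
  by_cases hp2 : p ≠ 2
  · exact BG.of_odd _ f hf rfl (hm ▸ (hp.odd_of_ne_two hp2).pow) hB
  rw [not_not] at hp2
  subst hp2
  obtain ⟨⟨z, hz⟩, hz1⟩ := ne_bot_iff_exists_ne_one.1 hK
  have hz1' : z ≠ 1 := fun e => hz1 (Subtype.ext e)
  have huniq : ∀ S : Subgroup G, IsPGroup 2 S → ¬ S ≤ f.ker →
      ∀ H K : Subgroup S, Nat.card H = 2 → Nat.card K = 2 → H = K := by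
    intro S hS hSk
    refine (hB.sylow_cases hS).resolve_left fun h => hSk fun x hx => ?_
    by_cases hx1 : x = 1
    · rw [hx1]; exact one_mem _
    · exact hB.mem_of_orderOf _ hz (by
        rw [orderOf_eq_prime (hKe z hz) hz1', orderOf_eq_prime (h x hx) hx1])
  refine hB.of_pker f hf hKp fun S hS hlt => ?_
  rcases S0016.result 2 hS (huniq S hS hlt.not_ge) with h | ⟨-, j, ⟨e⟩⟩
  · exact Or.inl h
  rcases j with _ | j
  · left
    have : IsCyclic (QuaternionGroup (2 ^ 0)) := QuaternionGroup.quaternionGroup_one_isCyclic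
    exact isCyclic_of_injective e.toMonoidHom e.injective
  right
  constructor
  · obtain ⟨P, hP⟩ := hS.exists_le_sylow
    rcases S0016.result 2 P.isPGroup' (huniq P P.isPGroup' fun h => hlt.not_ge (hP.trans h)) with
      h | ⟨-, k, ⟨e'⟩⟩
    · exfalso
      have h1 : IsCyclic S := isCyclic_of_le hP
      obtain ⟨a, ha, b, hb, h1', h2, h3, h4, h5⟩ := exists_gens_of_quaternion e
      rw [H23.comm_of_mem h1.isMulCommutative hb ha, mul_inv_cancel_right] at h3
      have h6 : a ^ 2 = 1 := by rw [sq]; nth_rewrite 1 [h3]; simp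
      have h7 := Nat.le_of_dvd two_pos (orderOf_dvd_of_pow_eq_one h6)
      rw [h1', pow_succ] at h7
      have : 0 < 2 ^ j := by positivity
      omega
    · have h1 := hB.quaternion_le hs P e'
      have h2 : S = P := eq_of_le_of_card_ge hP (by
        rw [card_of_quaternion e, card_of_quaternion e']
        exact Nat.mul_le_mul_left _ (Nat.pow_le_pow_right two_pos (by omega)))
      rw [h2]; exact P.not_dvd_index
  · intro y hy
    rw [mem_center_iff]
    intro g
    by_cases hy1 : y = 1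
    · rw [hy1]; simp
    have hy' := hKn.conj_mem y hy g
    have h1 : ∀ w (hw : w ∈ f.ker), w ≠ 1 → Nat.card (zpowers (⟨w, hlt.le hw⟩ : S)) = 2 := by
      intro w hw hw1
      rw [Nat.card_zpowers, orderOf_mk, orderOf_eq_prime (hKe w hw) hw1]
    have h2 := huniq S hS hlt.not_ge _ _ (h1 y hy hy1) (h1 _ hy' (by rwa [Ne, conj_eq_one_iff]))
    have h3 : (⟨g * y * g⁻¹, hlt.le hy'⟩ : S) ∈ zpowers (⟨y, hlt.le hy⟩ : S) := h2 ▸ mem_zpowers _
    rw [mem_zpowers_of_mul_self (Subtype.ext (by simpa [sq] using hKe y hy))] at h3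
    rcases h3 with h3 | h3
    · exact absurd (conj_eq_one_iff.1 (congrArg Subtype.val h3)) hy1
    · exact mul_inv_eq_iff_eq_mul.1 (congrArg Subtype.val h3)

end Cfsg.Agent.H80
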