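import Mathlib
import Cfsg.Agent.H80.BGroup3
import Cfsg.Agent.H2.AbelianCoprime
import Cfsg.Agent.H2.FpfCyclic
import Cfsg.Agent.H1.SZConj

/-! Structure of solvable groups in which abelian subgroups of the same order are conjugate. -/

set_option autoImplicit false

namespace Cfsg.Agent.H80

open Subgroup H42
open scoped commutatorElement

universe u

variable {G : Type*} [Group G]

theorem centralizer_zpowers_eq_centralizer (w : G) :
    centralizer (zpowers w : Set G) = centralizer {w} := by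
  rw [zpowers_eq_closure, centralizer_closure]

theorem normal_of_sup_normal_of_centralizes [Finite G] {p : ℕ} [Fact p.Prime] (P : Sylow p G)
    {M : Subgroup G} (hn : ((P : Subgroup G) ⊔ M).Normal) (hc : (P : Subgroup G) ≤ centralizer (M : Set G)) :
    (P : Subgroup G).Normal := by
  rw [← normalizer_eq_top_iff, eq_top_iff]
  intro g _
  obtain ⟨n, hn1, hn2⟩ := (H4.IsSylowIn.of_sylow_le P (K := (P : Subgroup G) ⊔ M) le_sup_left).frattini
    (g := g) (by rw [normalizer_eq_top]; trivial)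
  have : (P : Subgroup G) ⊔ M ≤ normalizer ((P : Subgroup G) : Set G) :=
    sup_le le_normalizer ((le_centralizer_iff.1 hc).trans (centralizer_le_normalizer _))
  exact (mul_mem_cancel_left (this hn1)).1 hn2

theorem BG.centralizes_of_normal_sup [Finite G] (hB : BG G) {q r : ℕ} [hq : Fact q.Prime]
    [hr : Fact r.Prime] (hqr : q ≠ r) {Q W : Subgroup G} [hWn : W.Normal] (hW : IsMulCommutative W)
    (hWe : ∀ w ∈ W, w ^ r = 1) (hQ : IsMulCommutative Q) (hQe : ∀ x ∈ Q, x ^ q = 1)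
    (hnc : ¬ IsCyclic Q) (hn : (Q ⊔ W).Normal) : Q ≤ centralizer (W : Set G) := by
  have hQp : IsPGroup q Q := H2.isPGroup_of_forall_pow_eq_one hQe
  have hWp : IsPGroup r W := H2.isPGroup_of_forall_pow_eq_one hWe
  have hdisj : Q ⊓ W = ⊥ := (IsPGroup.disjoint_of_ne q r hqr _ _ hQp hWp).eq_bot
  by_cases hW1 : W = ⊥
  · intro x _ y hy
    rw [hW1] at hy
    rw [mem_bot.1 hy]; simp
  have hcard : ∀ w ∈ W, Nat.card ↥((Q ⊔ W) ⊓ centralizer {w}) =
      Nat.card ↥(Q ⊓ centralizer {w}) * Nat.card W := by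
    intro w hw
    have h1 := H2.card_sup_mul_card_inf_of_normal (Q ⊓ centralizer {w}) W
    have h2 : Q ⊓ centralizer {w} ⊓ W = ⊥ := le_bot_iff.1 (hdisj ▸ inf_le_inf_right W inf_le_left)
    have h3 : W ≤ centralizer {w} := fun y hy => mem_centralizer_singleton_iff.2 (H23.comm_of_mem hW hy hw)
    rw [h2, card_bot, mul_one] at h1
    rw [← h1]
    congr 2
    apply le_antisymm
    · rintro x ⟨hx, hxc⟩
      obtain ⟨a, ha, b, hb, rfl⟩ := mem_sup_of_normal_right.1 hx
      exact mul_mem_sup ⟨ha, (mul_mem_cancel_right (h3 hb)).1 hxc⟩ hb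
    · exact sup_le (inf_le_inf_right _ le_sup_left) (le_inf le_sup_right h3)
  have hconst : ∀ w ∈ W, ∀ w' ∈ W, w ≠ 1 → w' ≠ 1 →
      Nat.card ↥(Q ⊓ centralizer {w}) = Nat.card ↥(Q ⊓ centralizer {w'}) := by
    intro w hw w' hw' h1 h2
    obtain ⟨g, hg⟩ := hB (zpowers w) (zpowers w') inferInstance inferInstance (by
      rw [Nat.card_zpowers, Nat.card_zpowers, orderOf_eq_prime (hWe w hw) h1,
        orderOf_eq_prime (hWe w' hw') h2])
    have h3 : (Q ⊔ W) ⊓ centralizer {w'} = cj g ((Q ⊔ W) ⊓ centralizer {w}) := by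
      rw [cj_inf, show cj g (Q ⊔ W) = Q ⊔ W from map_conj_of_normal _ g, ← centralizer_zpowers_eq_centralizer w,
        cj_centralizer, ← centralizer_zpowers_eq_centralizer w', hg]
    apply Nat.eq_of_mul_eq_mul_right (Nat.card_pos (α := W))
    rw [← hcard w hw, ← hcard w' hw', h3, card_cj]
  obtain ⟨a, ha, ha1, hane⟩ : ∃ a ∈ Q, a ≠ 1 ∧ W ⊓ centralizer {a} ≠ ⊥ := by
    by_contra h
    push Not at h
    exact hnc (H2.isCyclic_of_fpf_of_comm hQ hW1 (by rw [normalizer_eq_top]; exact le_top) h)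
  obtain ⟨⟨w, hw, hwa⟩, hw1⟩ := ne_bot_iff_exists_ne_one.1 hane
  have hw1' : w ≠ 1 := fun e => hw1 (Subtype.ext e)
  set D := Q ⊓ centralizer {w} with hD
  have haD : a ∈ D := ⟨ha, mem_centralizer_singleton_iff.2 (mem_centralizer_singleton_iff.1 hwa).symm⟩
  have haC : a ∈ centralizer (W : Set G) := by
    by_contra hc
    obtain ⟨s, hs⟩ := IsPGroup.iff_card.1 (hQp.to_le (inf_le_left : D ≤ Q))
    obtain ⟨t, ht⟩ := IsPGroup.iff_card.1 hWp
    obtain ⟨h1, -⟩ := H2.coprime_abelian_decomposition D W (by rw [normalizer_eq_top]; exact le_top)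
      (by rw [hs, ht]; exact Nat.Coprime.pow _ _ ((Nat.coprime_primes hq.out hr.out).2 hqr))
    have h2 : ⁅W, D⁆ ≠ ⊥ := by
      rw [Ne, commutator_eq_bot_iff_le_centralizer, le_centralizer_iff]
      exact fun h => hc (h haD)
    obtain ⟨⟨v, hv⟩, hv1⟩ := ne_bot_iff_exists_ne_one.1 h2
    have hv1' : v ≠ 1 := fun e => hv1 (Subtype.ext e)
    have hvW : v ∈ W := commutator_le_left W D hv
    have hwD : w ∈ W ⊓ centralizer (D : Set G) := ⟨hw, fun y hy => mem_centralizer_singleton_iff.1 hy.2⟩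
    have hvD : v ∉ centralizer (D : Set G) := fun h => hv1' (mem_bot.1 (h1 ▸ ⟨⟨hvW, h⟩, hv⟩))
    have hwv : w * v ≠ 1 := by
      intro e
      rw [eq_inv_of_mul_eq_one_right e] at hvD
      exact hvD (inv_mem hwD.2)
    have h3 : Q ⊓ centralizer {w * v} < D := by
      have h4 : Q ⊓ centralizer {w * v} ≤ D ⊓ centralizer {v} := by
        rintro x ⟨hx, hxc⟩
        have hxc' := mem_centralizer_singleton_iff.1 hxc
        have hxD : x ∈ normalizer (D : Set G) := centralizer_le_normalizer _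
          fun y hy => H23.comm_of_mem hQ hy.1 hx
        have hxW : x ∈ normalizer (W : Set G) := by rw [normalizer_eq_top]; trivial
        have e1 : w⁻¹ * (x * w * x⁻¹) = v * (x * v * x⁻¹)⁻¹ := by
          calc w⁻¹ * (x * w * x⁻¹) = w⁻¹ * (x * (w * v)) * x⁻¹ * (x * v * x⁻¹)⁻¹ := by group
            _ = _ := by rw [hxc']; group
        have e2 : w⁻¹ * (x * w * x⁻¹) ∈ W ⊓ centralizer (D : Set G) ⊓ ⁅W, D⁆ := by
          refine ⟨Subgroup.mul_mem _ (Subgroup.inv_mem _ hwD) ⟨hWn.conj_mem _ hw x, conj_mem_of_mem_normalizer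
            (normalizer_le_normalizer_centralizer _ hxD) hwD.2⟩, ?_⟩
          rw [e1]
          exact Subgroup.mul_mem _ hv (Subgroup.inv_mem _ (conj_mem_of_mem_normalizer
            (H23.normalizer_inf_le_normalizer_commutator W D ⟨hxW, hxD⟩) hv))
        rw [h1, mem_bot] at e2
        rw [e2, eq_comm, mul_inv_eq_one, eq_mul_inv_iff_mul_eq] at e1
        rw [inv_mul_eq_one, eq_mul_inv_iff_mul_eq] at e2
        exact ⟨⟨hx, mem_centralizer_singleton_iff.2 e2.symm⟩, mem_centralizer_singleton_iff.2 e1.symm⟩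
      refine lt_of_le_of_lt h4 (inf_lt_left.2 fun h => hvD fun y hy => ?_)
      exact mem_centralizer_singleton_iff.1 (h hy)
    exact (H23.card_lt_of_lt h3).ne (hconst _ (mul_mem hw hvW) _ hw hwv hw1')
  intro x hx
  by_cases hx1 : x = 1
  · rw [hx1]; exact one_mem _
  exact hB.mem_of_orderOf _ haC (by rw [orderOf_eq_prime (hQe a ha) ha1, orderOf_eq_prime (hQe x hx) hx1])

/-- a Sylow subgroup maps isomorphically modulo a normal `p'`-subgroup -/
noncomputable def sylowQuotEquiv [Finite G] {p : ℕ} [Fact p.Prime] (P : Sylow p G) (M : Subgroup G)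
    [M.Normal] (h : (P : Subgroup G) ⊓ M = ⊥) :
    (P : Subgroup G) ≃* ((P.mapSurjective (QuotientGroup.mk'_surjective M) : Sylow p (G ⧸ M)) :
      Subgroup (G ⧸ M)) :=
  have hinj : Function.Injective ((QuotientGroup.mk' M).subgroupMap P) := by
    rw [injective_iff_map_eq_one]
    intro x hx
    have h1 : (x : G) ∈ (P : Subgroup G) ⊓ M :=
      ⟨x.2, (QuotientGroup.eq_one_iff _).1 (congrArg Subtype.val hx)⟩
    rw [h] at h1
    exact Subtype.ext h1
  MulEquiv.ofBijective ((QuotientGroup.mk' M).subgroupMap P)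
    ⟨hinj, (QuotientGroup.mk' M).subgroupMap_surjective P⟩

theorem normal_sup_of_quot [Finite G] {p : ℕ} [Fact p.Prime] (P : Sylow p G) (M : Subgroup G) [M.Normal]
    (h : ((P.mapSurjective (QuotientGroup.mk'_surjective M) : Sylow p (G ⧸ M)) : Subgroup (G ⧸ M)).Normal) :
    ((P : Subgroup G) ⊔ M).Normal := by
  have := h.comap (QuotientGroup.mk' M)
  rwa [Sylow.coe_mapSurjective, comap_map_eq, QuotientGroup.ker_mk'] at this

theorem BG.quot [Finite G] (hB : BG G) (hs : Group.IsSolvable G) (M : Subgroup G) [M.Normal] :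
    BG (G ⧸ M) := BG.of_solvable _ (QuotientGroup.mk' M) (QuotientGroup.mk'_surjective M) rfl hs hB

theorem BG.normal_of_exponent {q : ℕ} [hq : Fact q.Prime] (G : Type u) [Group G] [Finite G] :
    BG G → Group.IsSolvable G → ∀ Q : Sylow q G, (∀ x ∈ (Q : Subgroup G), x ^ q = 1) →
      ¬ IsCyclic (Q : Subgroup G) → (Q : Subgroup G).Normal ∧ IsMulCommutative (Q : Subgroup G) := by
  induction hn : Nat.card G using Nat.strong_induction_on generalizing G with
  | _ n ih =>
  subst hn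
  intro hB hs Q hQe hnc
  have hnt : Nontrivial G := by
    by_contra h
    rw [not_nontrivial_iff_subsingleton] at h
    exact hnc inferInstance
  obtain ⟨M, r, hr, hMn, hM, hMc, hMp, hMe, -⟩ := H2.exists_minimal_normal_of_solvable (G := G)
  have := Fact.mk hr
  by_cases hqr : q = r
  · subst hqr
    obtain ⟨⟨z, hz⟩, hz1⟩ := ne_bot_iff_exists_ne_one.1 hM
    have hz1' : z ≠ 1 := fun e => hz1 (Subtype.ext e)
    have : (Q : Subgroup G) = M := by
      refine le_antisymm (fun x hx => ?_) (hMp.le_sylow_of_normal Q)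
      by_cases hx1 : x = 1
      · rw [hx1]; exact one_mem _
      exact hB.mem_of_orderOf _ hz (by
        rw [orderOf_eq_prime (hMe z hz) hz1', orderOf_eq_prime (hQe x hx) hx1])
    rw [this]; exact ⟨hMn, hMc⟩
  have e := sylowQuotEquiv Q M (IsPGroup.disjoint_of_ne q r hqr _ _ Q.isPGroup' hMp).eq_bot
  obtain ⟨h1, h2⟩ := ih _ (H2.card_quotient_lt M hM) (G ⧸ M) rfl (hB.quot hs M) inferInstance
    (Q.mapSurjective (QuotientGroup.mk'_surjective M)) (by
      rintro _ ⟨x, hx, rfl⟩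
      rw [← map_pow, hQe x hx, map_one]) (fun h => hnc (isCyclic_of_injective e.toMonoidHom e.injective))
  have h3 : IsMulCommutative (Q : Subgroup G) :=
    ⟨⟨fun a b => e.injective (by rw [map_mul, map_mul, h2.is_comm.comm])⟩⟩
  have h4 := normal_sup_of_quot Q M h1
  exact ⟨normal_of_sup_normal_of_centralizes Q h4
    (hB.centralizes_of_normal_sup hqr hMc hMe h3 hQe hnc h4), h3⟩

theorem commutator_centralizes {a b w : G} (ha : a * w * a⁻¹ ∈ zpowers w) (hb : b * w * b⁻¹ ∈ zpowers w) :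
    w * ⁅a⁻¹, b⁻¹⁆ = ⁅a⁻¹, b⁻¹⁆ * w := by
  obtain ⟨i, hi⟩ := ha
  obtain ⟨j, hj⟩ := hb
  simp only at hi hj
  have h1 : a * (b * w * b⁻¹) * a⁻¹ = b * (a * w * a⁻¹) * b⁻¹ := by
    rw [← hi, ← hj, ← conj_zpow, ← conj_zpow, ← hi, ← hj, ← zpow_mul, ← zpow_mul, mul_comm]
  calc w * ⁅a⁻¹, b⁻¹⁆ = a⁻¹ * b⁻¹ * (b * (a * w * a⁻¹) * b⁻¹) * a * b := by
        rw [commutatorElement_def]; group
    _ = _ := by rw [← h1, commutatorElement_def]; group

theorem commutator_mem_centralizer_of_isCyclic {M : Subgroup G} [hM : M.Normal] (hc : IsCyclic M) (a b : G) :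
    ⁅a, b⁆ ∈ centralizer (M : Set G) := by
  obtain ⟨⟨w, hw⟩, hgen⟩ := IsCyclic.exists_generator (α := M)
  have h1 : M = zpowers w := by
    refine le_antisymm (fun x hx => ?_) (zpowers_le.2 hw)
    obtain ⟨k, hk⟩ := hgen ⟨x, hx⟩
    exact ⟨k, congrArg Subtype.val hk⟩
  have h2 := commutator_centralizes (h1 ▸ hM.conj_mem w hw a⁻¹) (h1 ▸ hM.conj_mem w hw b⁻¹)
  rw [inv_inv, inv_inv] at h2
  rw [h1, centralizer_zpowers_eq_centralizer, mem_centralizer_singleton_iff]
  exact h2.symm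

theorem BG.quaternion_normal' (G : Type u) [Group G] [Finite G] :
    BG G → Group.IsSolvable G → (∀ r : ℕ, r.Prime → r ≠ 2 → ∀ R : Sylow r G, IsCyclic (R : Subgroup G)) →
      ∀ P : Sylow 2 G, Nonempty ((P : Subgroup G) ≃* QuaternionGroup (2 ^ 1)) → (P : Subgroup G).Normal := by
  induction hn : Nat.card G using Nat.strong_induction_on generalizing G with
  | _ n ih =>
  subst hn
  rintro hB hs hcyc P ⟨e⟩
  by_cases hO : pPrimeCore 2 G = ⊥
  · exact hB.quaternion_normal hs hO P e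
  obtain ⟨M, r, hr, hMn, hM, hMle, -, hMp, -, -⟩ :=
    H2.exists_minimal_normal_le_of_solvable (pPrimeCore 2 G) inferInstance inferInstance hO
  have := Fact.mk hr
  have hcop : (Nat.card M).Coprime 2 := H22.coprime_card_of_le hMle H22.coprime_card_pPrimeCore
  have hr2 : r ≠ 2 := by
    rintro rfl
    exact hM (H22.eq_bot_of_pgroup_coprime hMp hcop)
  have e' := sylowQuotEquiv P M (H22.inf_eq_bot_of_pgroup_coprime P.isPGroup' hcop)
  have h1 := ih _ (H2.card_quotient_lt M hM) (G ⧸ M) rfl (hB.quot hs M) inferInstance (by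
    intro s hs hs2 R
    have := Fact.mk hs
    obtain ⟨R, rfl⟩ := Sylow.mapSurjective_surjective (QuotientGroup.mk'_surjective M) s R
    have := hcyc s hs hs2 R
    exact isCyclic_of_surjective _ ((QuotientGroup.mk' M).subgroupMap_surjective R))
    (P.mapSurjective (QuotientGroup.mk'_surjective M)) ⟨e'.symm.trans e⟩
  refine normal_of_sup_normal_of_centralizes P (normal_sup_of_quot P M h1) ?_
  obtain ⟨R, hR⟩ := hMp.exists_le_sylow
  have := hcyc r hr hr2 R
  have hMc : IsCyclic M := isCyclic_of_le hR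
  obtain ⟨a, ha, b, hb, h1, h2, h3, h4, h5⟩ := exists_gens_of_quaternion e
  have hq := fun t ht htA => quat_out (t := t) h1 (by positivity) h2 h3 h5 ht htA
  have ha4 : orderOf a = 4 := h1
  have hb4 := (hq b hb h4).2
  obtain ⟨g, hg⟩ := hB (zpowers a) (zpowers b) inferInstance inferInstance
    (by rw [Nat.card_zpowers, Nat.card_zpowers, ha4, hb4])
  have h6 : g * a * g⁻¹ ∈ zpowers b := hg ▸ conj_mem_cj (mem_zpowers a)
  have h7 : ⁅g, a⁆ ∉ zpowers a := by
    intro h
    have h8 : g * a * g⁻¹ ∈ zpowers a := (mul_mem_cancel_right (inv_mem (mem_zpowers a))).1 h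
    have h9 : zpowers b ≤ zpowers a := by
      rw [hg, MonoidHom.map_zpowers, zpowers_le]; exact h8
    exact h4 (h9 (mem_zpowers b))
  have h8 := (hq ⁅g, a⁆ (mul_mem (zpowers_le.2 hb h6) (inv_mem ha)) h7).2
  have h9 := commutator_mem_centralizer_of_isCyclic hMc g a
  rw [h5]
  exact sup_le (zpowers_le.2 (hB.mem_of_orderOf _ h9 (h8.trans ha4.symm)))
    (zpowers_le.2 (hB.mem_of_orderOf _ h9 (h8.trans hb4.symm)))

theorem card_map_mk'_mul [Finite G] (A M : Subgroup G) [M.Normal] :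
    Nat.card (A.map (QuotientGroup.mk' M)) * Nat.card ↥(A ⊓ M) = Nat.card A := by
  rw [← relIndex_ker, QuotientGroup.ker_mk', mul_comm, inf_comm, H2.card_inf_mul_relIndex]

/-- conjugacy of complements inside a subgroup -/
theorem conj_of_sup_eq [Finite G] (hs : Group.IsSolvable G) {A B M : Subgroup G} [M.Normal]
    (h : A ⊔ M = B ⊔ M) (hc : (Nat.card A).Coprime (Nat.card M)) (hAB : Nat.card A = Nat.card B) :
    ∃ g ∈ M, B = cj g A := by
  have key : ∀ A : Subgroup G, A ⊔ M = B ⊔ M → (Nat.card A).Coprime (Nat.card M) →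
      IsComplement' (M.subgroupOf (B ⊔ M)) (A.subgroupOf (B ⊔ M)) := by
    intro A h hc
    apply H2.isComplement'_of_normal_of_sup_of_inf
    · rw [← subgroupOf_sup le_sup_right (h ▸ le_sup_left), sup_comm M, h, subgroupOf_self]
    · rw [← comap_subtype, ← comap_subtype, ← comap_inf, (disjoint_of_coprime_natCard hc).symm.eq_bot]
      exact (MonoidHom.ker_eq_bot_iff _).2 (subtype_injective _)
  have h1 := key B rfl (hAB ▸ hc)
  obtain ⟨n, hn, e⟩ := H1.complement_conj (M.subgroupOf (B ⊔ M)) (by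
    rw [h1.symm.index_eq_card, H2.card_subgroupOf_of_le le_sup_right, H2.card_subgroupOf_of_le le_sup_left,
      ← hAB]; exact hc.symm) (Or.inl inferInstance) _ _ (key A h hc) h1
  refine ⟨n, hn, ?_⟩
  have := congrArg (Subgroup.map (B ⊔ M).subtype) e
  rw [H2.map_conj_smul, map_subgroupOf_eq_of_le le_sup_left, map_subgroupOf_eq_of_le (h ▸ le_sup_left)] at this
  exact this.symm

theorem conj_step [Finite G] (hs : Group.IsSolvable G) (M : Subgroup G) [M.Normal]
    (ih : ∀ A B : Subgroup (G ⧸ M), Nat.card A = Nat.card B → ∃ g, B = cj g A) {A B : Subgroup G}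
    (hAB : Nat.card A = Nat.card B) (h : (M ≤ A ∧ M ≤ B) ∨ (Nat.card A).Coprime (Nat.card M)) :
    ∃ g, B = cj g A := by
  have h1 : Nat.card ↥(A ⊓ M) = Nat.card ↥(B ⊓ M) := by
    rcases h with h | h
    · rw [inf_eq_right.2 h.1, inf_eq_right.2 h.2]
    · rw [(disjoint_of_coprime_natCard h).eq_bot, (disjoint_of_coprime_natCard (hAB ▸ h)).eq_bot]
  obtain ⟨g, hg⟩ := ih (A.map (QuotientGroup.mk' M)) (B.map (QuotientGroup.mk' M)) (by
    apply Nat.eq_of_mul_eq_mul_right (Nat.card_pos (α := ↥(A ⊓ M)))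
    rw [card_map_mk'_mul, h1, card_map_mk'_mul, hAB])
  obtain ⟨g, rfl⟩ := QuotientGroup.mk'_surjective M g
  have h2 := congrArg (comap (QuotientGroup.mk' M)) hg
  rw [cj, ← map_conj_map, comap_map_eq, comap_map_eq, QuotientGroup.ker_mk'] at h2
  rcases h with h | h
  · refine ⟨g, ?_⟩
    rwa [sup_eq_left.2 h.2, sup_eq_left.2 (map_conj_of_normal M g ▸ map_mono h.1)] at h2
  · obtain ⟨m, -, hm⟩ := conj_of_sup_eq hs h2.symm (by rwa [H4.card_map_conj]) (by rwa [H4.card_map_conj])
    exact ⟨m * g, by rw [hm, cj_cj]⟩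

theorem conj_of_isZGroup (G : Type u) [Group G] [Finite G] :
    IsZGroup G → ∀ A B : Subgroup G, Nat.card A = Nat.card B → ∃ g, B = cj g A := by
  induction hn : Nat.card G using Nat.strong_induction_on generalizing G with
  | _ n ih =>
  subst hn
  intro hZ A B hAB
  rcases subsingleton_or_nontrivial G with h | h
  · exact ⟨1, Subsingleton.elim _ _⟩
  obtain ⟨M, r, hr, hMn, hM, -, hMp, hMe, -⟩ := H2.exists_minimal_normal_of_solvable (G := G)
  have := Fact.mk hr
  obtain ⟨m, hm⟩ := IsPGroup.iff_card.1 hMp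
  refine conj_step inferInstance M (ih _ (H2.card_quotient_lt M hM) _ rfl inferInstance) hAB ?_
  by_cases hd : r ∣ Nat.card A
  · left
    have key : ∀ A : Subgroup G, r ∣ Nat.card A → M ≤ A := by
      intro A hA
      obtain ⟨x, hx⟩ := exists_prime_orderOf_dvd_card' (G := A) r hA
      rw [← orderOf_coe] at hx
      obtain ⟨R, hR⟩ := (IsPGroup.of_card (G := zpowers (x : G)) (n := 1)
        (by rw [Nat.card_zpowers, hx, pow_one])).exists_le_sylow
      obtain ⟨⟨w, hw⟩, hgen⟩ := IsCyclic.exists_generator (α := (R : Subgroup G))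
      have h1 : (R : Subgroup G) ≤ zpowers w := fun y hy => by
        obtain ⟨k, hk⟩ := hgen ⟨y, hy⟩
        exact ⟨k, congrArg Subtype.val hk⟩
      intro y hy
      by_cases hy1 : y = 1
      · rw [hy1]; exact one_mem _
      have h2 := eq_of_le_zpowers_of_card (hR.trans h1)
        (zpowers_le.2 (h1 (hMp.le_sylow_of_normal R hy)))
        (by rw [Nat.card_zpowers, Nat.card_zpowers, hx, orderOf_eq_prime (hMe y hy) hy1])
      exact zpowers_le.2 x.2 (h2 ▸ mem_zpowers y)
    exact ⟨key A hd, key B (hAB ▸ hd)⟩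
  · right
    rw [hm]
    exact Nat.Coprime.pow_right _ ((Nat.Prime.coprime_iff_not_dvd hr).2 hd).symm

end Cfsg.Agent.H80
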