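/-
Project SGJ4, the prime 3: a Sylow 3-subgroup `T3` of M22 and its normaliser `K3` in M22 : 2.
-/
import Cfsg.Agent.SGJ4.Model
import Cfsg.Agent.H14.MClasses
import Cfsg.Agent.H14.Local

set_option autoImplicit false

namespace Cfsg.Agent.H80.J4

open Cfsg.Agent.H14 Cfsg.Agent.SGJ4 Subgroup
open scoped Pointwise

def tGens : List ℕ := [nat_lit 0xbc44ba5a4c2c0ce9b6a87a8e41a420, nat_lit 0xbd9266ca2c9c1ee51c445968345420]
def tCL0 : Lev := ⟨nat_lit 2, nat_lit 0x200204, (.node (nat_lit 9) (.leaf (nat_lit 0xbdab49ca307b9ac5a928398a418820)) (.node (nat_lit 21) (.leaf (nat_lit 0xbd9266ca2c9c1ee51c445968345420)) (.leaf (nat_lit 0xbc44ba5a4c2c0ce9b6a87a8e41a420))))⟩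
def tCC0 : LevCert := ⟨tCL0,
    [(nat_lit 21, nat_lit 0), (nat_lit 9, nat_lit 1)],
    [[nat_lit 2, nat_lit 0, nat_lit 2, nat_lit 2, nat_lit 2]],
    [nat_lit 0xbc6aa35a4ea30b06bd2499d6340820]⟩
def tCL1 : Lev := ⟨nat_lit 3, nat_lit 280, (.node (nat_lit 4) (.leaf (nat_lit 0xbdab49ca307b9ac5a928398a418820)) (.node (nat_lit 8) (.leaf (nat_lit 0xbc6aa35a4ea30b06bd2499d6340820)) (.leaf (nat_lit 0xbcaaf3c6cc5416e2d12334da820820))))⟩
def tCC1 : LevCert := ⟨tCL1,
    [(nat_lit 4, nat_lit 0), (nat_lit 8, nat_lit 0)],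
    [],
    []⟩
def tC : List LevCert := [tCC0, tCC1]
def tCL : List Lev := [tCL0, tCL1]
def kGens : List ℕ := [nat_lit 0x31335c1d6349f1a1c486954325437, nat_lit 0xb8a346a6a82916339ad09bd4c74820]
def kCL0 : Lev := ⟨nat_lit 0, nat_lit 0x800001, (.node (nat_lit 23) (.leaf (nat_lit 0xbdab49ca307b9ac5a928398a418820)) (.leaf (nat_lit 0x31335c1d6349f1a1c486954325437)))⟩
def kCC0 : LevCert := ⟨kCL0,
    [(nat_lit 23, nat_lit 0)],
    [[nat_lit 0, nat_lit 0, nat_lit 0, nat_lit 2, nat_lit 0, nat_lit 2, nat_lit 0, nat_lit 0, nat_lit 2], [nat_lit 2, nat_lit 4, nat_lit 4, nat_lit 4, nat_lit 2, nat_lit 4]],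
    [nat_lit 0xb918b50d02355a93bdd22ce968c020, nat_lit 0xbb88d2b216546725986279e89aa020]⟩
def kCL1 : Lev := ⟨nat_lit 2, nat_lit 0x67531c, (.node (nat_lit 14) (.node (nat_lit 8) (.node (nat_lit 3) (.leaf (nat_lit 0xbdab49ca307b9ac5a928398a418820)) (.node (nat_lit 4) (.leaf (nat_lit 0xbb8679b2122d95133d095d1b511020)) (.leaf (nat_lit 0xbc1133b1d6a49b132c6979542a9020)))) (.node (nat_lit 9) (.leaf (nat_lit 0xbb88d2b216546725986279e89aa020)) (.node (nat_lit 12) (.leaf (nat_lit 0xbdaaa6c64e7c26c350442ace81a420)) (.leaf (nat_lit 0xb8dca3a0952a5e25ce12a34d68b020))))) (.node (nat_lit 18) (.node (nat_lit 16) (.leaf (nat_lit 0xba1ca58c9598a8939592799b1b4020)) (.node (nat_lit 17) (.leaf (nat_lit 0xb918b50d02355a93bdd22ce968c020)) (.leaf (nat_lit 0xbd6cda24447a1433ce303156e64820)))) (.node (nat_lit 21) (.leaf (nat_lit 0xbd62678924a0d48596cc6ccee84820)) (.node (nat_lit 22) (.leaf (nat_lit 0xbd84b9c64c6b9f0a152831d4325420)) (.leaf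 (nat_lit 0xb8a346a6a82916339ad09bd4c74820))))))⟩
def kCC1 : LevCert := ⟨kCL1,
    [(nat_lit 16, nat_lit 0), (nat_lit 8, nat_lit 1), (nat_lit 17, nat_lit 1), (nat_lit 3, nat_lit 0), (nat_lit 14, nat_lit 1), (nat_lit 18, nat_lit 0), (nat_lit 9, nat_lit 1), (nat_lit 22, nat_lit 1), (nat_lit 12, nat_lit 1), (nat_lit 4, nat_lit 1), (nat_lit 21, nat_lit 0)],
    [[nat_lit 2, nat_lit 2, nat_lit 2, nat_lit 0, nat_lit 2, nat_lit 2, nat_lit 2, nat_lit 0], [nat_lit 2, nat_lit 4, nat_lit 2, nat_lit 2, nat_lit 2, nat_lit 4]],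
    [nat_lit 0xbc92655a2c3b9706cea47d0a818820, nat_lit 0xbc6aa35a4ea30b06bd2499d6340820]⟩
def kCL2 : Lev := ⟨nat_lit 3, nat_lit 280, (.node (nat_lit 4) (.leaf (nat_lit 0xbdab49ca307b9ac5a928398a418820)) (.node (nat_lit 8) (.leaf (nat_lit 0xbc6aa35a4ea30b06bd2499d6340820)) (.leaf (nat_lit 0xbd9277c6509b1ae29aa3a296440820))))⟩
def kCC2 : LevCert := ⟨kCL2,
    [(nat_lit 4, nat_lit 1), (nat_lit 8, nat_lit 0)],
    [[nat_lit 2, nat_lit 0, nat_lit 2, nat_lit 2, nat_lit 2, nat_lit 0, nat_lit 0, nat_lit 2, nat_lit 0, nat_lit 0]],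
    [nat_lit 0xbc92655a2c3b9706cea47d0a818820]⟩
def kCL3 : Lev := ⟨nat_lit 4, nat_lit 272, (.node (nat_lit 8) (.leaf (nat_lit 0xbdab49ca307b9ac5a928398a418820)) (.leaf (nat_lit 0xbc92655a2c3b9706cea47d0a818820)))⟩
def kCC3 : LevCert := ⟨kCL3,
    [(nat_lit 8, nat_lit 0)],
    [],
    []⟩
def kC : List LevCert := [kCC0, kCC1, kCC2, kCC3]
def kCL : List Lev := [kCL0, kCL1, kCL2, kCL3]
def cGens : List ℕ := [nat_lit 0xbc68f3da4eab1b02aa63498440ad00, nat_lit 0xbc5a57da4c5c12e38943a566141880]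
def cCL0 : Lev := ⟨nat_lit 1, nat_lit 282, (.node (nat_lit 4) (.node (nat_lit 3) (.leaf (nat_lit 0xbdab49ca307b9ac5a928398a418820)) (.leaf (nat_lit 0xbc68f3da4eab1b02aa63498440ad00))) (.node (nat_lit 8) (.leaf (nat_lit 0xbc5a57da4c5c12e38943a566141880)) (.leaf (nat_lit 0xbc9f54c6cca41ae128e19996441460))))⟩
def cCC0 : LevCert := ⟨cCL0,
    [(nat_lit 3, nat_lit 0), (nat_lit 4, nat_lit 1), (nat_lit 8, nat_lit 0)],
    [[nat_lit 2, nat_lit 2], [nat_lit 4, nat_lit 2, nat_lit 4, nat_lit 2, nat_lit 2, nat_lit 4, nat_lit 2, nat_lit 2]],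
    [nat_lit 0xbc9335c6ce3b150a18482b5e41d420, nat_lit 0xbcaaf3c6cc5416e2d12334da820820]⟩
def cCL1 : Lev := ⟨nat_lit 2, nat_lit 0x200204, (.node (nat_lit 9) (.leaf (nat_lit 0xbdab49ca307b9ac5a928398a418820)) (.node (nat_lit 21) (.leaf (nat_lit 0xbc9335c6ce3b150a18482b5e41d420)) (.leaf (nat_lit 0xbc44ba5a4c2c0ce9b6a87a8e41a420))))⟩
def cCC1 : LevCert := ⟨cCL1,
    [(nat_lit 9, nat_lit 0), (nat_lit 21, nat_lit 0)],
    [[nat_lit 2, nat_lit 2]],
    [nat_lit 0xbc6aa35a4ea30b06bd2499d6340820]⟩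
def cCL2 : Lev := ⟨nat_lit 3, nat_lit 280, (.node (nat_lit 4) (.leaf (nat_lit 0xbdab49ca307b9ac5a928398a418820)) (.node (nat_lit 8) (.leaf (nat_lit 0xbc6aa35a4ea30b06bd2499d6340820)) (.leaf (nat_lit 0xbcaaf3c6cc5416e2d12334da820820))))⟩
def cCC2 : LevCert := ⟨cCL2,
    [(nat_lit 4, nat_lit 0), (nat_lit 8, nat_lit 0)],
    [],
    []⟩
def cC : List LevCert := [cCC0, cCC1, cCC2]
def cCL : List Lev := [cCL0, cCL1, cCL2]
def kL : List ℕ := [nat_lit 0xbdab49ca307b9ac5a928398a418820, nat_lit 0xb918f6a075309499ae16a1cb28b820, nat_lit 0xbcab45da30530ee9bc48694c322420, nat_lit 0xbb86f541962ca71a1c956996912020, nat_lit 0xba18f990755a682699d6514f194020, nat_lit 0xba63438aa830e64696505a9ee65820, nat_lit 0xb8a346a6a82916339ad09bd4c74820, nat_lit 0xbb0655c1d17c8d669d02a4d49a9020]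

def px : ℕ := nat_lit 0xbc44ba5a4c2c0ce9b6a87a8e41a420
def py : ℕ := nat_lit 0xbd9266ca2c9c1ee51c445968345420

noncomputable def xt : Equiv.Perm GolayPt := GE.perm px
noncomputable def yt : Equiv.Perm GolayPt := GE.perm py
def T3 : Subgroup (Equiv.Perm GolayPt) := GE.grp tGens
def K3 : Subgroup (Equiv.Perm GolayPt) := GE.grp kGens

theorem pk_xt : GE.pk xt = px := GE.pk_perm (by decide +kernel)
theorem pk_yt : GE.pk yt = py := GE.pk_perm (by decide +kernel)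

theorem t_chain : GE.IsChain tCL T3 :=
  Enc.isChain_of_ssOK (cs := tC) (fun P hP => GE.exists_pk_of_valid
    (allL_iff.1 (show allL tGens pvalid = true by decide +kernel) P hP)) (by decide +kernel)

theorem k_chain : GE.IsChain kCL K3 :=
  Enc.isChain_of_ssOK (cs := kC) (fun P hP => GE.exists_pk_of_valid
    (allL_iff.1 (show allL kGens pvalid = true by decide +kernel) P hP)) (by decide +kernel)

theorem card_T3 : Nat.card T3 = 9 := by rw [t_chain.card]; decide +kernel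
theorem card_K3 : Nat.card K3 = 144 := by rw [k_chain.card]; decide +kernel

theorem xt_mem : xt ∈ T3 := subset_closure (show GE.pk xt ∈ tGens by rw [pk_xt]; decide)
theorem yt_mem : yt ∈ T3 := subset_closure (show GE.pk yt ∈ tGens by rw [pk_yt]; decide)

theorem T3_le {H : Subgroup (Equiv.Perm GolayPt)} (hx : xt ∈ H) (hy : yt ∈ H) : T3 ≤ H :=
  Enc.grp_induction fun g hg => by
    rcases List.mem_pair.1 hg with h | h
    · rwa [GE.pk_injective (h.trans pk_xt.symm)]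
    · rwa [GE.pk_injective (h.trans pk_yt.symm)]

theorem T3_le_M22 : T3 ≤ Spor.M22 :=
  T3_le (m22_chain.mem_iff_sift.2 (by rw [pk_xt]; decide +kernel))
    (m22_chain.mem_iff_sift.2 (by rw [pk_yt]; decide +kernel))

theorem cube_of_mem_T3 {t : Equiv.Perm GolayPt} (h : t ∈ T3) : t ^ 3 = 1 := by
  have := t_chain.forall_of_allElts (f := fun P => Nat.beq (pmul (pmul P P) P) pone) (by decide +kernel) t h
  rw [pow_three', ← GE.pk_inj, GE.pk_mul, GE.pk_mul, pk_one']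
  exact beq_iff.1 this

theorem orderOf_xt : orderOf xt = 3 := by
  rw [GE.orderOf_eq_ordN (fuel := 4) xt (by rw [pk_xt]; decide +kernel), pk_xt]; decide +kernel

theorem mem_M22x {g : Equiv.Perm GolayPt} :
    g ∈ M22x ↔ g ∈ M24 ∧ pimg (GE.pk g) 8388609 = 8388609 := by
  have e : ({none, some 0} : Finset GolayPt) = bits 8388609 := by decide +kernel
  rw [M22x, mem_inf, e]
  refine and_congr_right fun _ => ?_
  rw [MulAction.mem_stabilizer_iff, smul_bits]
  exact ⟨fun h => by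
    have := congrArg mask h
    rwa [mask_bits (GE.img_pk_lt _ _), mask_bits (by decide)] at this, fun h => congrArg bits h⟩

theorem K3_le : K3 ≤ M22x ⊓ normalizer (T3 : Set (Equiv.Perm GolayPt)) := fun g hg =>
  ⟨Enc.grp_induction (H := M22x) (fun g hg => by
    have := allL_iff.1 (show allL kGens (fun P => inM24 P && Nat.beq (pimg P 8388609) 8388609) = true by
      decide +kernel) _ hg
    simp only [Bool.and_eq_true, beq_iff] at this
    exact mem_M22x.2 ⟨mem_M24_iff_inM24.2 this.1, this.2⟩) hg,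
  mem_normalizer_fintype (t_chain.norm_of_normOK (hs := kGens) (by decide +kernel) g hg)⟩

/-- M22 has one class of elements of order 3 -/
theorem m22_three {g : Equiv.Perm GolayPt} (hg : g ∈ Spor.M22) (h3 : g ^ 3 = 1) (h1 : g ≠ 1) :
    ∃ h ∈ Spor.M22, h * g * h⁻¹ = xt := by
  have := Fact.mk Nat.prime_three
  obtain ⟨c, hc, a, ha, rfl⟩ := m22_classes.conj_of_orderOf (f := 12) [m22_3A] (by decide +kernel) hg
    (orderOf_eq_prime h3 h1)
  obtain ⟨d, hd, b, hb, e⟩ := m22_classes.conj_of_orderOf (f := 12) [m22_3A] (by decide +kernel)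
    (T3_le_M22 xt_mem) orderOf_xt
  rw [List.mem_singleton] at hc hd
  exact ⟨b * a⁻¹, mul_mem hb (inv_mem ha), by rw [← e, hc, hd]; group⟩

theorem c_chain : GE.IsChain cCL (Spor.M22 ⊓ centralizer {xt}) := by
  refine (m22_chain.of_centOK (Zs := [px]) (cs := cC) (gens := cGens) (by decide +kernel)
    (by simp [pk_xt]) ?_).1
  obtain ⟨c, hc, -, h1, h2⟩ := m22_classes.conj' (T3_le_M22 xt_mem)
  have h3 := allL_iff.1 (show allL m22Cl (fun c => force (ordN (nat_lit 5) (nat_lit 32) (nat_lit 24) c.X 12)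
    fun o => Nat.ble 1 o && bimp (Nat.beq o 3) (Nat.beq c.c 36)) = true by decide +kernel) c hc
  simp only [force_eq, Bool.and_eq_true, ble_iff, bimp_iff, beq_iff] at h3
  rw [GE.orderOf_eq_ordN (fuel := 12) _ (by rw [m22_classes.pk_perm hc]; exact Nat.one_le_iff_ne_zero.1 h3.1),
    m22_classes.pk_perm hc, orderOf_xt] at h1
  rw [h2, h3.2 h1]
  decide +kernel

theorem mem_K3_of_M22 {g : Equiv.Perm GolayPt} (hg : g ∈ Spor.M22)
    (hn : g ∈ normalizer (T3 : Set (Equiv.Perm GolayPt))) : g ∈ K3 := by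
  have h1 := t_chain.forall_of_allElts (f := fun t => Nat.beq t pone || anyL kL fun k =>
    conjOK (nat_lit 5) (nat_lit 32) (nat_lit 24) kCL k px t &&
      sift (nat_lit 5) (nat_lit 32) (nat_lit 24) m24CertL.tail.tail k) (by decide +kernel) _
    ((mem_normalizer_iff.1 hn xt).1 xt_mem)
  simp only [Bool.or_eq_true, beq_iff, anyL_iff, conjOK, Bool.and_eq_true] at h1
  rcases h1 with h1 | ⟨k, -, ⟨⟨h1, h2⟩, h3⟩, h4⟩
  · rw [← pk_one', GE.pk_inj, conj_eq_one_iff] at h1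
    simpa [h1] using orderOf_xt
  obtain ⟨k, rfl⟩ := GE.exists_pk_of_valid h1
  rw [← k_chain.mem_iff_sift] at h2
  rw [← m22_chain.mem_iff_sift] at h4
  rw [← pk_xt, ← GE.pk_inv, ← GE.pk_mul3, GE.pk_inj] at h3
  have h5 := bimp_iff.1 (c_chain.forall_of_allElts (f := fun P => bimp
    (sift (nat_lit 5) (nat_lit 32) (nat_lit 24) tCL
      (comp3 (nat_lit 5) (nat_lit 32) (nat_lit 24) P py (inv (nat_lit 5) (nat_lit 32) (nat_lit 24) P)))
    (sift (nat_lit 5) (nat_lit 32) (nat_lit 24) kCL P)) (by decide +kernel) (k⁻¹ * g)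
    ⟨Spor.M22.mul_mem (inv_mem h4) hg, mem_centralizer_singleton_iff.2 (by
      rw [mul_assoc, inv_mul_eq_iff_eq_mul, ← mul_assoc, ← mul_assoc, h3]; group)⟩)
  rw [← pk_yt, ← GE.pk_inv, ← GE.pk_mul3, ← t_chain.mem_iff_sift, ← k_chain.mem_iff_sift] at h5
  exact (mul_mem_cancel_left (inv_mem h2)).1
    (h5 ((mem_normalizer_iff.1 (mul_mem (inv_mem (K3_le h2).2) hn) yt).1 yt_mem))

theorem mem_M22_of {g : Equiv.Perm GolayPt} (hg : g ∈ M22x) (h : g none = none) : g ∈ Spor.M22 := by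
  refine ⟨⟨hg.1, h⟩, ?_⟩
  have h1 : g • ({none, some 0} : Finset GolayPt) = {none, some 0} := hg.2
  have h2 : g (some 0) ∈ ({none, some 0} : Finset GolayPt) :=
    h1 ▸ Finset.smul_mem_smul_finset (by simp)
  rcases Finset.mem_insert.1 h2 with h3 | h3
  · exact absurd (g.injective (h3.trans h.symm)) (by simp)
  · exact Finset.mem_singleton.1 h3

theorem norm_T3 : M22x ⊓ normalizer (T3 : Set (Equiv.Perm GolayPt)) = K3 := by
  refine le_antisymm (fun g hg => ?_) K3_le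
  by_cases h : g none = none
  · exact mem_K3_of_M22 (mem_M22_of hg.1 h) hg.2
  obtain ⟨u, hu⟩ := GE.exists_pk_of_valid (P := 0x31335c1d6349f1a1c486954325437) (by decide +kernel)
  have h1 : u ∈ K3 := subset_closure (show GE.pk u ∈ kGens by rw [hu]; decide)
  have h2 : g • ({none, some 0} : Finset GolayPt) = {none, some 0} := hg.1.2
  have h3 : g none ∈ ({none, some 0} : Finset GolayPt) :=
    h2 ▸ Finset.smul_mem_smul_finset (by simp)
  have h4 : u (some 0) = none := by rw [GE.apply_eq, hu]; decide +kernel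
  refine (mul_mem_cancel_left h1).1 (mem_K3_of_M22 (mem_M22_of (mul_mem (K3_le h1).1 hg.1) ?_)
    (mul_mem (K3_le h1).2 hg.2))
  rw [Equiv.Perm.mul_apply, Finset.mem_singleton.1 ((Finset.mem_insert.1 h3).resolve_left h), h4]

end Cfsg.Agent.H80.J4
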