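import Mathlib
import Cfsg.Agent.H3.PResidual
import Cfsg.Agent.H42.Fusion

/-! Counting conjugacy classes of elements with a given property. -/

set_option autoImplicit false

namespace Cfsg.Agent.H80

open Subgroup

universe u

variable {G : Type*} [Group G]

/-- number of conjugacy classes all of whose elements satisfy `D` -/
noncomputable def kcl (G : Type*) [Group G] (D : G → Prop) : ℕ :=
  Nat.card {c : ConjClasses G // ∀ x ∈ c.carrier, D x}

theorem card_subtype_le_of_cover {α β : Type*} [Finite α] (p : β → Prop) (F : α → β)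
    (h : ∀ b, p b → ∃ a, F a = b) : Nat.card {b // p b} ≤ Nat.card α := by
  classical
  choose s hs using h
  refine Nat.card_le_card_of_injective (fun b : {b // p b} => s b.1 b.2) ?_
  intro b c hbc
  apply Subtype.ext
  rw [← hs b.1 b.2, ← hs c.1 c.2]
  exact congrArg F hbc

theorem card_image_le_sum {α β : Type*} [DecidableEq β] (T : Finset α) (f : α → β) (w : α → ℚ)
    (hw : ∀ x ∈ T, ∃ F : Finset α, F ⊆ T ∧ (∀ y ∈ F, f y = f x) ∧ 1 ≤ w x * F.card) :
    ((T.image f).card : ℚ) ≤ ∑ x ∈ T, w x := by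
  classical
  rw [← Finset.sum_fiberwise_of_maps_to (s := T) (t := T.image f) (g := f)
    (fun x hx => Finset.mem_image_of_mem f hx)]
  rw [Finset.card_eq_sum_ones, Nat.cast_sum]
  apply Finset.sum_le_sum
  intro b hb
  obtain ⟨x0, hx0, rfl⟩ := Finset.mem_image.1 hb
  set S := T.filter (fun x => f x = f x0) with hS
  have hpos : (0 : ℚ) < S.card := by
    have : x0 ∈ S := by simp [hS, hx0]
    exact_mod_cast Finset.card_pos.2 ⟨x0, this⟩
  have h1 : ∀ x ∈ S, (1 : ℚ) / S.card ≤ w x := by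
    intro x hx
    have hx' := Finset.mem_filter.1 hx
    obtain ⟨F, hFT, hF, hw1⟩ := hw x hx'.1
    have hFS : F ⊆ S := fun y hy => Finset.mem_filter.2 ⟨hFT hy, (hF y hy).trans hx'.2⟩
    have hle : (F.card : ℚ) ≤ S.card := by exact_mod_cast Finset.card_le_card hFS
    have hF0 : (0 : ℚ) ≤ F.card := by positivity
    have hw0 : 0 ≤ w x := by
      by_contra hneg
      push Not at hneg
      nlinarith
    rw [div_le_iff₀ hpos]
    nlinarith
  calc ((1 : ℕ) : ℚ) = ∑ _x ∈ S, (1 : ℚ) / S.card := by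
        rw [Finset.sum_const, nsmul_eq_mul]; field_simp; simp
    _ ≤ ∑ x ∈ S, w x := Finset.sum_le_sum h1

theorem kcl_le_sum [Finite G] (D : G → Prop) (T : Finset G) (w : G → ℚ)
    (hT : ∀ x, D x → ∃ y ∈ T, IsConj x y)
    (hw : ∀ x ∈ T, ∃ F : Finset G, F ⊆ T ∧ (∀ y ∈ F, IsConj x y) ∧ 1 ≤ w x * F.card) :
    (kcl G D : ℚ) ≤ ∑ x ∈ T, w x := by
  classical
  refine le_trans ?_ (card_image_le_sum T (fun x => ConjClasses.mk x) w ?_)
  · have : kcl G D ≤ Nat.card (T.image (fun x => ConjClasses.mk x)) := by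
      refine card_subtype_le_of_cover _ (fun c => c.1) ?_
      intro c hc
      obtain ⟨x, rfl⟩ := ConjClasses.exists_rep c
      obtain ⟨y, hy, hxy⟩ := hT x (hc x (ConjClasses.mem_carrier_mk))
      exact ⟨⟨ConjClasses.mk y, Finset.mem_image_of_mem _ hy⟩,
        (ConjClasses.mk_eq_mk_iff_isConj.2 hxy).symm⟩
    rw [Nat.card_eq_finsetCard] at this
    exact_mod_cast this
  · intro x hx
    obtain ⟨F, h1, h2, h3⟩ := hw x hx
    exact ⟨F, h1, fun y hy => (ConjClasses.mk_eq_mk_iff_isConj.2 (h2 y hy)).symm, h3⟩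

/-- three-level counting bound -/
theorem kcl_le_three [Finite G] (D : G → Prop) (C Q R : Subgroup G) (hCQ : C ≤ Q) (hQR : Q ≤ R)
    (hT : ∀ x, D x → ∃ y ∈ R, IsConj x y)
    (h3 : ∀ x ∈ Q, x ∉ C → ∃ y ∈ R, ∃ z ∈ R, IsConj x y ∧ IsConj x z ∧ x ≠ y ∧ x ≠ z ∧ y ≠ z)
    (h2 : ∀ x ∈ R, x ∉ Q → ∃ y ∈ R, IsConj x y ∧ x ≠ y) :
    6 * kcl G D ≤ 3 * Nat.card R + 4 * Nat.card C - Nat.card Q := by
  classical
  have := Fintype.ofFinite G
  set fC := Finset.univ.filter (fun x => x ∈ C) with hfC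
  set fQ := Finset.univ.filter (fun x => x ∈ Q) with hfQ
  set fR := Finset.univ.filter (fun x => x ∈ R) with hfR
  have cC : Nat.card C = fC.card := by rw [hfC, ← Fintype.card_subtype, Nat.card_eq_fintype_card]
  have cQ : Nat.card Q = fQ.card := by rw [hfQ, ← Fintype.card_subtype, Nat.card_eq_fintype_card]
  have cR : Nat.card R = fR.card := by rw [hfR, ← Fintype.card_subtype, Nat.card_eq_fintype_card]
  have key := kcl_le_sum D fR
    (fun x => (1 : ℚ) / 2 - (if x ∈ Q then 1 / 6 else 0) + (if x ∈ C then 2 / 3 else 0))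
    (fun x hx => by
      obtain ⟨y, hy, h⟩ := hT x hx
      exact ⟨y, by simp [hfR, hy], h⟩)
    (fun x hx => by
      have hxR : x ∈ R := by simpa [hfR] using hx
      by_cases hC : x ∈ C
      · refine ⟨{x}, by simpa using hx,
          fun y hy => by rw [Finset.mem_singleton.1 hy], ?_⟩
        simp [hC, hCQ hC]; norm_num
      · by_cases hQ : x ∈ Q
        · obtain ⟨y, hy, z, hz, h1, h2, h3, h4, h5⟩ := h3 x hQ hC
          refine ⟨{x, y, z}, ?_, ?_, ?_⟩
          · intro t ht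
            simp only [Finset.mem_insert, Finset.mem_singleton] at ht
            rcases ht with rfl | rfl | rfl <;> simp [hfR, *]
          · intro t ht
            simp only [Finset.mem_insert, Finset.mem_singleton] at ht
            rcases ht with rfl | rfl | rfl
            · exact IsConj.refl _
            · exact h1
            · exact h2
          · rw [Finset.card_eq_three.2 ⟨x, y, z, h3, h4, h5, rfl⟩]
            simp [hC, hQ]; norm_num
        · obtain ⟨y, hy, h1, h3⟩ := h2 x hxR hQ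
          refine ⟨{x, y}, ?_, ?_, ?_⟩
          · intro t ht
            simp only [Finset.mem_insert, Finset.mem_singleton] at ht
            rcases ht with rfl | rfl <;> simp [hfR, *]
          · intro t ht
            simp only [Finset.mem_insert, Finset.mem_singleton] at ht
            rcases ht with rfl | rfl
            · exact IsConj.refl _
            · exact h1
          · rw [Finset.card_pair h3]
            simp [hC, hQ])
  rw [Finset.sum_add_distrib, Finset.sum_sub_distrib, ← Finset.sum_filter, ← Finset.sum_filter]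
    at key
  have e1 : fR.filter (fun x => x ∈ Q) = fQ := by
    ext x; simp only [hfR, hfQ, Finset.mem_filter, Finset.mem_univ, true_and]
    exact ⟨fun h => h.2, fun h => ⟨hQR h, h⟩⟩
  have e2 : fR.filter (fun x => x ∈ C) = fC := by
    ext x; simp only [hfR, hfC, Finset.mem_filter, Finset.mem_univ, true_and]
    exact ⟨fun h => h.2, fun h => ⟨hQR (hCQ h), h⟩⟩
  rw [e1, e2] at key
  simp only [Finset.sum_const, nsmul_eq_mul] at key
  rw [cC, cQ, cR]
  have : (6 * kcl G D + fQ.card : ℚ) ≤ 3 * fR.card + 4 * fC.card := by linarith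
  have : 6 * kcl G D + fQ.card ≤ 3 * fR.card + 4 * fC.card := by exact_mod_cast this
  omega

/-- two-level counting bound -/
theorem kcl_le_two [Finite G] (D : G → Prop) (C R : Subgroup G) (hCR : C ≤ R)
    (hT : ∀ x, D x → ∃ y ∈ R, IsConj x y)
    (h2 : ∀ x ∈ R, x ∉ C → ∃ y ∈ R, IsConj x y ∧ x ≠ y) :
    2 * kcl G D ≤ Nat.card R + Nat.card C := by
  have := kcl_le_three D C C R le_rfl hCR hT (fun x hx hx' => absurd hx hx') h2
  omega

theorem kcl_le_card_conjClasses [Finite G] (D : G → Prop) (R : Subgroup G)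
    (hT : ∀ x, D x → ∃ y ∈ R, IsConj x y) : kcl G D ≤ Nat.card (ConjClasses R) := by
  refine card_subtype_le_of_cover _ (ConjClasses.map R.subtype) ?_
  intro c hc
  obtain ⟨x, rfl⟩ := ConjClasses.exists_rep c
  obtain ⟨y, hy, hxy⟩ := hT x (hc x (ConjClasses.mem_carrier_mk))
  exact ⟨ConjClasses.mk ⟨y, hy⟩, (ConjClasses.mk_eq_mk_iff_isConj.2 hxy).symm⟩

theorem card_conjClasses_le_kcl [Finite G] (D : G → Prop) (R : Subgroup G)
    (hD : ∀ x ∈ R, ∀ y, IsConj x y → D y)
    (hf : ∀ x ∈ R, ∀ g : G, g * x * g⁻¹ ∈ R → ∃ v ∈ R, v * x * v⁻¹ = g * x * g⁻¹) :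
    Nat.card (ConjClasses R) ≤ kcl G D := by
  refine Nat.card_le_card_of_injective
    (fun c : ConjClasses R => (⟨ConjClasses.map R.subtype c, ?_⟩ :
      {c : ConjClasses G // ∀ x ∈ c.carrier, D x})) ?_
  · obtain ⟨x, rfl⟩ := ConjClasses.exists_rep c
    intro y hy
    have : ConjClasses.mk y = ConjClasses.mk (x : G) := ConjClasses.mem_carrier_iff_mk_eq.1 hy
    exact hD x x.2 y (ConjClasses.mk_eq_mk_iff_isConj.1 this).symm
  · intro c d hcd
    obtain ⟨x, rfl⟩ := ConjClasses.exists_rep c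
    obtain ⟨y, rfl⟩ := ConjClasses.exists_rep d
    have h : ConjClasses.mk (x : G) = ConjClasses.mk (y : G) := congrArg Subtype.val hcd
    obtain ⟨g, hg⟩ := isConj_iff.1 (ConjClasses.mk_eq_mk_iff_isConj.1 h)
    obtain ⟨v, hv, hv'⟩ := hf x x.2 g (hg ▸ y.2)
    refine ConjClasses.mk_eq_mk_iff_isConj.2 (isConj_iff.2 ⟨⟨v, hv⟩, Subtype.ext ?_⟩)
    simpa [hg] using hv'

theorem orderOf_eq_of_isConj {x y : G} (h : IsConj x y) : orderOf x = orderOf y := by
  obtain ⟨g, rfl⟩ := isConj_iff.1 h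
  exact ((MulAut.conj g).orderOf_eq x).symm

theorem exists_isConj_mem_sylow' [Finite G] {p : ℕ} [Fact p.Prime] (P : Sylow p G) (x : G)
    (hx : ∃ k : ℕ, orderOf x = p ^ k) : ∃ y ∈ (P : Subgroup G), IsConj x y := by
  obtain ⟨k, hk⟩ := hx
  obtain ⟨s, hs, h, -⟩ := H42.exists_isConj_mem_sylow P hk
  exact ⟨s, hs, h⟩

theorem kcl_le_card_sylow [Finite G] {p : ℕ} [Fact p.Prime] (P : Sylow p G) :
    kcl G (fun x => ∃ k : ℕ, orderOf x = p ^ k) ≤ Nat.card P := by
  refine card_subtype_le_of_cover _ (fun x : P => ConjClasses.mk (x : G)) ?_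
  intro c hc
  obtain ⟨x, rfl⟩ := ConjClasses.exists_rep c
  obtain ⟨y, hy, hxy⟩ := exists_isConj_mem_sylow' P x (hc x (ConjClasses.mem_carrier_mk))
  exact ⟨⟨y, hy⟩, (ConjClasses.mk_eq_mk_iff_isConj.2 hxy).symm⟩

/-- `x` is a `π`-element -/
def PiEl (π : Finset ℕ) (x : G) : Prop := ∀ r : ℕ, r.Prime → r ∣ orderOf x → r ∈ π

theorem kcl_pi_le [Finite G] (π : Finset ℕ) (r : ℕ) [hr : Fact r.Prime] (B : ℕ)
    (hB : ∀ x : G, kcl (centralizer ({x} : Set G)) (PiEl (π.erase r)) ≤ B) :
    kcl G (PiEl π) ≤ kcl G (fun x => ∃ k : ℕ, orderOf x = r ^ k) * B := by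
  classical
  let A := {c : ConjClasses G // ∀ x ∈ c.carrier, ∃ k : ℕ, orderOf x = r ^ k}
  let rep : ConjClasses G → G := fun c => (ConjClasses.exists_rep c).choose
  have hrep : ∀ c, ConjClasses.mk (rep c) = c := fun c => (ConjClasses.exists_rep c).choose_spec
  let Bf : A → Type _ := fun c => {d : ConjClasses (centralizer ({rep c.1} : Set G)) //
    ∀ x ∈ d.carrier, PiEl (π.erase r) x}
  have h1 : kcl G (PiEl π) ≤ Nat.card (Σ c : A, Bf c) := by
    refine card_subtype_le_of_cover _ (fun s : (Σ c : A, Bf c) =>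
      ConjClasses.mk (rep s.1.1 * ((ConjClasses.exists_rep s.2.1).choose : G))) ?_
    intro c hc
    obtain ⟨x, rfl⟩ := ConjClasses.exists_rep c
    have hx : PiEl π x := hc x ConjClasses.mem_carrier_mk
    obtain ⟨a, b, ha, hb, ⟨k, hk⟩, hbc, hab⟩ := H3.exists_p_part (p := r) x
    have hcomm : a * b = b * a := by
      obtain ⟨i, rfl⟩ := mem_zpowers_iff.1 ha
      obtain ⟨j, rfl⟩ := mem_zpowers_iff.1 hb
      exact (Commute.zpow_zpow_self x i j).eq
    have ha' : ∀ y ∈ (ConjClasses.mk a).carrier, ∃ k : ℕ, orderOf y = r ^ k := by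
      intro y hy
      have : ConjClasses.mk y = ConjClasses.mk a := ConjClasses.mem_carrier_iff_mk_eq.1 hy
      rw [orderOf_eq_of_isConj (ConjClasses.mk_eq_mk_iff_isConj.1 this)]
      obtain ⟨j, -, hj⟩ := (Nat.dvd_prime_pow hr.out).1 (orderOf_dvd_of_pow_eq_one hk)
      exact ⟨j, hj⟩
    obtain ⟨g, hg⟩ := isConj_iff.1 (ConjClasses.mk_eq_mk_iff_isConj.1 (hrep (ConjClasses.mk a)).symm)
    have hmem : g * b * g⁻¹ ∈ centralizer ({rep (ConjClasses.mk a)} : Set G) := by
      rw [mem_centralizer_singleton_iff, ← hg]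
      calc g * b * g⁻¹ * (g * a * g⁻¹) = g * (b * a) * g⁻¹ := by group
        _ = g * (a * b) * g⁻¹ := by rw [hcomm]
        _ = _ := by group
    have hb' : ∀ y ∈ (ConjClasses.mk (⟨g * b * g⁻¹, hmem⟩ :
        centralizer ({rep (ConjClasses.mk a)} : Set G))).carrier, PiEl (π.erase r) y := by
      intro y hy s hs hsy
      have := ConjClasses.mem_carrier_iff_mk_eq.1 hy
      rw [orderOf_eq_of_isConj (ConjClasses.mk_eq_mk_iff_isConj.1 this), ← Subgroup.orderOf_coe]
        at hsy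
      have e : orderOf (g * b * g⁻¹) = orderOf b :=
        (orderOf_eq_of_isConj (isConj_iff.2 ⟨g, rfl⟩)).symm
      simp only [e] at hsy
      refine Finset.mem_erase.2 ⟨?_, hx s hs (hsy.trans (orderOf_dvd_of_mem_zpowers hb))⟩
      rintro rfl
      exact hs.one_lt.ne' (Nat.Coprime.eq_one_of_dvd hbc.symm hsy)
    refine ⟨⟨⟨ConjClasses.mk a, ha'⟩, ⟨ConjClasses.mk ⟨g * b * g⁻¹, hmem⟩, hb'⟩⟩, ?_⟩
    have hd := (ConjClasses.exists_rep (ConjClasses.mk (⟨g * b * g⁻¹, hmem⟩ :
        centralizer ({rep (ConjClasses.mk a)} : Set G)))).choose_spec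
    obtain ⟨h, hh⟩ := isConj_iff.1 (ConjClasses.mk_eq_mk_iff_isConj.1 hd.symm)
    refine ConjClasses.mk_eq_mk_iff_isConj.2 (IsConj.symm (isConj_iff.2 ⟨h * g, ?_⟩))
    simp only
    rw [← hh]
    have hc := mem_centralizer_singleton_iff.1 h.2
    simp only [Subgroup.coe_mul, Subgroup.coe_inv]
    calc (h : G) * g * x * (h * g)⁻¹ = h * (g * a * g⁻¹) * (g * b * g⁻¹) * (h : G)⁻¹ := by
          rw [hab]; group
      _ = _ := by rw [hg, hc]; group
  refine h1.trans ?_
  have : Fintype A := Fintype.ofFinite A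
  rw [Nat.card_sigma]
  calc ∑ c : A, Nat.card (Bf c) ≤ ∑ _c : A, B := Finset.sum_le_sum (fun c _ => hB _)
    _ = _ := by
      rw [Finset.sum_const, smul_eq_mul, Finset.card_univ, ← Nat.card_eq_fintype_card]; rfl

theorem prod_pow_factorization_le {π : Finset ℕ} (hπ : ∀ r ∈ π, r.Prime) {m n : ℕ} (hn : n ≠ 0)
    (h : m ∣ n) : π.prod (fun r => r ^ m.factorization r) ≤ π.prod (fun r => r ^ n.factorization r) := by
  refine Finset.prod_le_prod' (fun r hr => Nat.pow_le_pow_right (hπ r hr).pos ?_)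
  have hm : m ≠ 0 := by rintro rfl; exact hn (Nat.eq_zero_of_zero_dvd h)
  exact (Nat.factorization_le_iff_dvd hm hn).2 h r

theorem kcl_pi_le_prod (π : Finset ℕ) (hπ : ∀ r ∈ π, r.Prime) :
    ∀ (G : Type u) [Group G] [Finite G],
      kcl G (PiEl π) ≤ π.prod (fun r => r ^ (Nat.card G).factorization r) := by
  classical
  induction π using Finset.induction_on with
  | empty =>
    intro G _ _
    have : kcl G (PiEl ∅) ≤ Nat.card Unit := by
      refine card_subtype_le_of_cover _ (fun _ : Unit => ConjClasses.mk (1 : G)) ?_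
      intro c hc
      obtain ⟨x, rfl⟩ := ConjClasses.exists_rep c
      have hx : PiEl ∅ x := hc x ConjClasses.mem_carrier_mk
      have : orderOf x = 1 := by
        by_contra h1
        obtain ⟨s, hs, hd⟩ := Nat.exists_prime_and_dvd h1
        simpa using hx s hs hd
      exact ⟨(), by rw [orderOf_eq_one_iff.1 this]⟩
    simpa using this
  | insert r π hr ih =>
    intro G _ _
    have : Fact r.Prime := ⟨hπ r (Finset.mem_insert_self _ _)⟩
    have hπ' : ∀ s ∈ π, s.Prime := fun s hs => hπ s (Finset.mem_insert_of_mem hs)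
    refine (kcl_pi_le (insert r π) r (π.prod (fun r => r ^ (Nat.card G).factorization r)) ?_).trans ?_
    · intro x
      rw [Finset.erase_insert hr]
      exact (ih hπ' _).trans (prod_pow_factorization_le hπ' Nat.card_pos.ne'
        (Subgroup.card_subgroup_dvd_card _))
    · rw [Finset.prod_insert hr]
      refine Nat.mul_le_mul_right _ ?_
      obtain ⟨P⟩ : Nonempty (Sylow r G) := inferInstance
      rw [← Sylow.card_eq_multiplicity P]
      exact kcl_le_card_sylow P

/-- `k_π(G) · |G|_r ≤ k_r(G) · |G|_π` for `r ∈ π` -/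
theorem kcl_pi_mul_le [Finite G] (π : Finset ℕ) (hπ : ∀ r ∈ π, r.Prime) (r : ℕ) [Fact r.Prime]
    (hr : r ∈ π) (P : Sylow r G) :
    kcl G (PiEl π) * Nat.card P ≤ kcl G (fun x => ∃ k : ℕ, orderOf x = r ^ k) *
      π.prod (fun r => r ^ (Nat.card G).factorization r) := by
  have hπ' : ∀ s ∈ π.erase r, s.Prime := fun s hs => hπ s (Finset.mem_of_mem_erase hs)
  have := kcl_pi_le (G := G) π r ((π.erase r).prod (fun r => r ^ (Nat.card G).factorization r))
    (fun x => (kcl_pi_le_prod _ hπ' _).trans (prod_pow_factorization_le hπ' Nat.card_pos.ne'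
        (Subgroup.card_subgroup_dvd_card _)))
  rw [← Finset.prod_erase_mul π _ hr, Sylow.card_eq_multiplicity P, ← mul_assoc]
  exact Nat.mul_le_mul_right _ this

end Cfsg.Agent.H80
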