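import Mathlib
import Cfsg.Prelude.Def_OddOrderLocal
import Cfsg.Agent.H3.PComplement
import Cfsg.Agent.H3.Fusion
import Cfsg.Agent.H4.CoprimeAut
import Cfsg.Agent.H42.Fusion
import Cfsg.Agent.H80.ClassCount

/-! Many classes of `p`-elements force normal complements. -/

set_option autoImplicit false

namespace Cfsg.Agent.H80

open Subgroup

variable {G : Type*} [Group G]

theorem exists_pow_two_mul_eq_of_odd {g : G} (hg : Odd (orderOf g)) : ∃ m : ℕ, (g ^ 2) ^ m = g := by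
  obtain ⟨m, hm⟩ := hg
  refine ⟨m + 1, ?_⟩
  rw [← pow_mul, show 2 * (m + 1) = orderOf g + 1 by omega, pow_succ, pow_orderOf_eq_one, one_mul]

theorem comm_of_sq_comm {g x : G} (hg : Odd (orderOf g)) (h : g ^ 2 * x = x * g ^ 2) :
    g * x = x * g := by
  obtain ⟨m, hm⟩ := exists_pow_two_mul_eq_of_odd hg
  have : Commute (g ^ 2) x := h
  rw [← hm]
  exact (this.pow_left m).eq

theorem le_mul_card_of_relIndex [Finite G] {C Q : Subgroup G} (h : C ≤ Q) {n : ℕ}
    (hn : n ≤ C.relIndex Q) : n * Nat.card C ≤ Nat.card Q := by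
  rw [← H42.card_mul_relIndex h, mul_comm]
  exact Nat.mul_le_mul_left _ hn

theorem four_mul_card_le [Finite G] {p : ℕ} [Fact p.Prime] {Q : Subgroup G} (hQ : IsPGroup p Q)
    {g : G} (hg : g ∈ normalizer (Q : Set G)) (hodd : Odd (orderOf g))
    (hcop : Nat.Coprime (orderOf g) p) (hn : g ∉ centralizer (Q : Set G)) :
    4 * Nat.card ↥(Q ⊓ centralizer ({g} : Set G)) ≤ Nat.card Q := by
  classical
  set C := Q ⊓ centralizer ({g} : Set G) with hC
  have hfix : ∀ c ∈ C, g * c * g⁻¹ = c := by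
    intro c hc
    have := mem_centralizer_singleton_iff.1 hc.2
    rw [← this]; group
  have hback : ∀ x : G, g * x * g⁻¹ ∈ C → x ∈ C := by
    intro x hx
    have h1 := hfix _ hx
    have : g * x * g⁻¹ = x := by
      calc g * x * g⁻¹ = g⁻¹ * (g * (g * x * g⁻¹) * g⁻¹) * g := by group
        _ = g⁻¹ * (g * x * g⁻¹) * g := by rw [h1]
        _ = x := by group
    rwa [this] at hx
  have hex : ∃ x ∈ Q, x⁻¹ * (g * x * g⁻¹) ∉ C := by
    by_contra hall
    push Not at hall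
    refine hn (H4.mem_centralizer_of_stabilizes (hQ.to_le (inf_le_left : C ≤ Q)) hcop ?_ hall)
    intro c hc
    exact mem_centralizer_singleton_iff.1 hc.2
  obtain ⟨x, hx, hxC⟩ := hex
  have hy : g * x * g⁻¹ ∈ Q := H42.conj_mem_of_mem_normalizer hg hx
  have hz : g * (g * x * g⁻¹) * g⁻¹ ∈ Q := H42.conj_mem_of_mem_normalizer hg hy
  have hx0 : x ∉ C := fun h => hxC (by rw [hfix x h]; simp)
  have hy0 : g * x * g⁻¹ ∉ C := fun h => hx0 (hback _ h)
  have hz0 : g * (g * x * g⁻¹) * g⁻¹ ∉ C := fun h => hy0 (hback _ h)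
  have hyz : (g * x * g⁻¹)⁻¹ * (g * (g * x * g⁻¹) * g⁻¹) ∉ C := by
    intro h
    apply hxC
    apply hback
    convert h using 1; group
  have hxz : x⁻¹ * (g * (g * x * g⁻¹) * g⁻¹) ∉ C := by
    intro h
    apply hxC
    have key : ∀ m : ℕ, x⁻¹ * ((g ^ 2) ^ m * x * ((g ^ 2) ^ m)⁻¹) ∈ C := by
      intro m
      induction m with
      | zero => simp
      | succ m ih =>
        have h2 := hfix _ ih
        have : x⁻¹ * ((g ^ 2) ^ (m + 1) * x * ((g ^ 2) ^ (m + 1))⁻¹) =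
            (x⁻¹ * (g * (g * x * g⁻¹) * g⁻¹)) *
              (g * (g * (x⁻¹ * ((g ^ 2) ^ m * x * ((g ^ 2) ^ m)⁻¹)) * g⁻¹) * g⁻¹) := by
          rw [pow_succ' (g ^ 2) m]; generalize (g ^ 2) ^ m = t; rw [sq]; group
        rw [this, h2, h2]
        exact C.mul_mem h ih
    obtain ⟨m, hm⟩ := exists_pow_two_mul_eq_of_odd hodd
    have := key m
    rwa [hm] at this
  refine le_mul_card_of_relIndex inf_le_left ?_
  have := Fintype.ofFinite (Q ⧸ C.subgroupOf Q)
  rw [relIndex, index, Nat.card_eq_fintype_card]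
  have hne : ∀ a b : Q, (a : G)⁻¹ * b ∉ C →
      (QuotientGroup.mk a : Q ⧸ C.subgroupOf Q) ≠ QuotientGroup.mk b := by
    intro a b h hab
    exact h (by simpa [mem_subgroupOf] using QuotientGroup.eq.1 hab)
  have h4 : ({QuotientGroup.mk 1, QuotientGroup.mk ⟨x, hx⟩, QuotientGroup.mk ⟨_, hy⟩,
      QuotientGroup.mk ⟨_, hz⟩} : Finset (Q ⧸ C.subgroupOf Q)).card = 4 := by
    refine Finset.card_eq_four.2 ⟨_, _, _, _, ?_, ?_, ?_, ?_, ?_, ?_, rfl⟩
    · exact hne _ _ (by simpa using hx0)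
    · exact hne _ _ (by simpa using hy0)
    · exact hne _ _ (by simpa using hz0)
    · exact hne _ _ hxC
    · exact hne _ _ hxz
    · exact hne _ _ hyz
  rw [← h4]
  exact Finset.card_le_univ _

theorem three_conj {R : Subgroup G} {g x : G} (hx : x ∈ R) (hg : ∀ y ∈ R, g * y * g⁻¹ ∈ R)
    (hodd : Odd (orderOf g)) (hn : x * g ≠ g * x) :
    ∃ y ∈ R, ∃ z ∈ R, IsConj x y ∧ IsConj x z ∧ x ≠ y ∧ x ≠ z ∧ y ≠ z := by
  refine ⟨g * x * g⁻¹, hg x hx, g * (g * x * g⁻¹) * g⁻¹, hg _ (hg x hx), isConj_iff.2 ⟨g, rfl⟩,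
    isConj_iff.2 ⟨g * g, by group⟩, ?_, ?_, ?_⟩
  · intro h; apply hn; rw [eq_mul_inv_iff_mul_eq] at h; exact h
  · intro h; apply hn; symm; apply comm_of_sq_comm hodd
    calc g ^ 2 * x = (g * (g * x * g⁻¹) * g⁻¹) * g ^ 2 := by rw [sq]; group
      _ = x * g ^ 2 := by rw [← h]
  · intro h; apply hn
    calc x * g = g⁻¹ * (g * x * g⁻¹) * g * g := by group
      _ = g⁻¹ * (g * (g * x * g⁻¹) * g⁻¹) * g * g := by rw [← h]
      _ = g * x := by group

theorem two_mul_kcl_le [Finite G] (D : G → Prop) {p : ℕ} [Fact p.Prime] {Q R : Subgroup G}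
    (hQR : Q ≤ R) (hQ : IsPGroup p Q) {g : G} (hg : g ∈ normalizer (Q : Set G))
    (hodd : Odd (orderOf g)) (hcop : Nat.Coprime (orderOf g) p)
    (hn : g ∉ centralizer (Q : Set G)) (hT : ∀ x, D x → ∃ y ∈ R, IsConj x y)
    (h2 : ∀ x ∈ R, x ∉ Q → ∃ y ∈ R, IsConj x y ∧ x ≠ y) :
    2 * kcl G D ≤ Nat.card R := by
  have h4 := four_mul_card_le hQ hg hodd hcop hn
  have := kcl_le_three D (Q ⊓ centralizer ({g} : Set G)) Q R inf_le_left hQR hT ?_ h2
  · omega
  · intro x hx hxC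
    obtain ⟨y, hy, z, hz, h⟩ := three_conj hx (fun y hy => H42.conj_mem_of_mem_normalizer hg hy)
      hodd (fun h => hxC ⟨hx, mem_centralizer_singleton_iff.2 h⟩)
    exact ⟨y, hQR hy, z, hQR hz, h⟩

/-- Frobenius' criterion can be tested on centric subgroups -/
theorem exists_centric_of_not_hasNormalPComplement [Finite G] {p : ℕ} [Fact p.Prime]
    (P : Sylow p G) (h : ¬ HasNormalPComplement p G) :
    ∃ Q : Subgroup G, Q ≤ P ∧ (P : Subgroup G) ⊓ centralizer (Q : Set G) ≤ Q ∧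
      ∃ g ∈ normalizer (Q : Set G), Nat.Coprime (orderOf g) p ∧ g ∉ centralizer (Q : Set G) := by
  by_contra hall
  push Not at hall
  apply h
  rw [H3.hasNormalPComplement_iff_sylow_controls_fusion P]
  intro x hx g hg
  refine H42.alperin P (fun a b => ∃ v ∈ P, v * a * v⁻¹ = b) ?_ ?_ ?_ ?_ hx hg
  · rintro a b ⟨v, hv, rfl⟩
    exact ⟨v⁻¹, (P : Subgroup G).inv_mem hv, by group⟩
  · rintro a b c ⟨v, hv, rfl⟩ ⟨w, hw, rfl⟩
    exact ⟨w * v, (P : Subgroup G).mul_mem hw hv, by group⟩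
  · intro a _ s hs
    exact ⟨s, hs, rfl⟩
  · intro X hX _ hc hk
    exfalso
    apply hk
    have : ((X ⊔ centralizer (X : Set G)).subgroupOf (normalizer (X : Set G))).Normal := by
      rw [normal_subgroupOf_iff_le_normalizer (H42.sup_centralizer_le_normalizer X)]
      exact H42.normalizer_le_normalizer_sup_centralizer X
    have hp : IsPGroup p (normalizer (X : Set G) ⧸
        (X ⊔ centralizer (X : Set G)).subgroupOf (normalizer (X : Set G))) := by
      rw [H3.isPGroup_quotient_iff_pResidual_le, H3.pResidual_le_iff]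
      intro n hn
      rw [mem_subgroupOf]
      exact mem_sup_right (hall X hX hc n n.2 (by rwa [Subgroup.orderOf_coe]))
    exact IsPGroup.iff_card.1 hp

theorem normalizer_le_centralizer_of_kcl [Finite G] {p : ℕ} [hp : Fact p.Prime] (P : Sylow p G)
    (h : (p + 1) * Nat.card P < 2 * p * kcl G (fun x => ∃ k : ℕ, orderOf x = p ^ k)) :
    normalizer (P : Set G) ≤ centralizer (P : Set G) := by
  set C := (P : Subgroup G) ⊓ centralizer (normalizer (P : Set G) : Set G) with hC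
  have h2 := kcl_le_two (fun x => ∃ k : ℕ, orderOf x = p ^ k) C P inf_le_left
    (exists_isConj_mem_sylow' P) (by
      intro x hx hxC
      have : ¬ ∀ n ∈ normalizer (P : Set G), n * x = x * n := fun h => hxC ⟨hx, h⟩
      push Not at this
      obtain ⟨n, hn, hne⟩ := this
      refine ⟨n * x * n⁻¹, H42.conj_mem_of_mem_normalizer (X := (P : Subgroup G)) hn hx,
        isConj_iff.2 ⟨n, rfl⟩, fun h => hne ?_⟩
      rw [eq_mul_inv_iff_mul_eq] at h; exact h.symm)
  by_contra hnle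
  have hne : C ≠ P := by
    intro e
    apply hnle
    intro n hn x hx
    have : x ∈ C := e ▸ hx
    exact (this.2 n hn).symm
  have hidx : p ≤ C.relIndex P := by
    obtain ⟨k, hk⟩ := IsPGroup.index P.isPGroup' (C.subgroupOf P)
    rcases Nat.eq_zero_or_pos k with rfl | hk0
    · exfalso
      rw [pow_zero, index_eq_one, subgroupOf_eq_top] at hk
      exact hne (le_antisymm inf_le_left hk)
    · rw [relIndex, hk]
      exact Nat.le_self_pow hk0.ne' p
  have h3 := le_mul_card_of_relIndex (inf_le_left : C ≤ P) hidx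
  have h4 := Nat.mul_le_mul_left p h2
  change p * Nat.card C ≤ Nat.card P at h3
  nlinarith

theorem exists_normal_pi_complement [Finite G] (π : Set ℕ)
    (h : ∀ (r : ℕ) [Fact r.Prime], r ∈ π →
      ∃ P : Sylow r G, normalizer (P : Set G) ≤ centralizer (P : Set G)) :
    ∃ N : Subgroup G, N.Characteristic ∧ (∀ r : ℕ, r.Prime → r ∣ Nat.card ↥N → r ∉ π) ∧
      (∀ r : ℕ, r.Prime → r ∣ N.index → r ∈ π) ∧
      ∃ H : Subgroup G, Cfsg.IsPiHall π H ∧ IsMulCommutative ↥H := by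
  set N : Subgroup G := ⨅ r : {r : ℕ // r.Prime ∧ r ∈ π}, pResidual r G with hN
  have hmem : ∀ g, g ∈ N ↔ ∀ r : ℕ, r.Prime → r ∈ π → g ∈ pResidual r G := by
    intro g
    rw [hN, mem_iInf]
    exact ⟨fun h r h1 h2 => h ⟨r, h1, h2⟩, fun h r => h r r.2.1 r.2.2⟩
  have hchar : N.Characteristic := by
    rw [characteristic_iff_le_comap]
    intro φ g hg
    rw [mem_comap, hmem]
    intro r h1 h2
    exact characteristic_iff_le_comap.1 (H3.pResidual_characteristic (p := r)) φ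
      ((hmem g).1 hg r h1 h2)
  have h1 : ∀ r : ℕ, r.Prime → r ∣ Nat.card ↥N → r ∉ π := by
    intro r hr hd hπ
    have : Fact r.Prime := ⟨hr⟩
    obtain ⟨P, hP⟩ := h r hπ
    have hc := H3.hasNormalPComplement_iff_coprime.1
      (H3.hasNormalPComplement_of_normalizer_le_centralizer P hP)
    have hle : N ≤ pResidual r G := fun g hg => (hmem g).1 hg r hr hπ
    exact hr.one_lt.ne' (Nat.Coprime.eq_one_of_dvd hc.symm (hd.trans (card_dvd_of_le hle)))
  have h2 : ∀ r : ℕ, r.Prime → r ∣ N.index → r ∈ π := by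
    intro s hs hd
    by_contra hπ
    have : Fact s.Prime := ⟨hs⟩
    obtain ⟨gb, hgb⟩ := exists_prime_orderOf_dvd_card' (G := G ⧸ N) s hd
    obtain ⟨g, rfl⟩ := QuotientGroup.mk_surjective gb
    obtain ⟨a, b, -, -, ⟨k, hk⟩, hb, rfl⟩ := H3.exists_p_part (p := s) g
    have ha : a ∈ N := by
      rw [hmem]
      intro r hr hrπ
      apply H3.mem_pResidual_of_coprime
      refine Nat.Coprime.coprime_dvd_left (orderOf_dvd_of_pow_eq_one hk) (Nat.Coprime.pow_left _ ?_)
      rw [Nat.coprime_primes hs hr]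
      rintro rfl; exact hπ hrπ
    rw [QuotientGroup.mk_mul, (QuotientGroup.eq_one_iff a).2 ha, one_mul] at hgb
    have : s ∣ orderOf b := hgb ▸ orderOf_map_dvd (QuotientGroup.mk' N) b
    exact hs.one_lt.ne' (Nat.Coprime.eq_one_of_dvd hb.symm this)
  have hcomm : ∀ x y : G, x * y * x⁻¹ * y⁻¹ ∈ N := by
    intro x y
    rw [hmem]
    intro r hr hπ
    have : Fact r.Prime := ⟨hr⟩
    obtain ⟨P, hP⟩ := h r hπ
    obtain ⟨u, hu, w, hw, rfl⟩ := H3.exists_mul_pResidual P x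
    obtain ⟨u', hu', w', hw', rfl⟩ := H3.exists_mul_pResidual P y
    have huu : u' * u = u * u' := hP (le_normalizer (H := (P : Subgroup G)) hu) u' hu'
    rw [← QuotientGroup.eq_one_iff]
    simp only [QuotientGroup.mk_mul, QuotientGroup.mk_inv, (QuotientGroup.eq_one_iff w).2 hw,
      (QuotientGroup.eq_one_iff w').2 hw', mul_one]
    rw [← QuotientGroup.mk_mul, ← huu, QuotientGroup.mk_mul]; group
  have hcop : (Nat.card N).Coprime N.index := by
    rw [Nat.coprime_iff_gcd_eq_one]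
    by_contra hg
    obtain ⟨r, hr, hd⟩ := Nat.exists_prime_and_dvd hg
    exact h1 r hr (hd.trans (Nat.gcd_dvd_left _ _)) (h2 r hr (hd.trans (Nat.gcd_dvd_right _ _)))
  obtain ⟨H, hH⟩ := exists_right_complement'_of_coprime hcop
  refine ⟨N, hchar, h1, h2, H, ⟨fun r hr hd => h2 r hr ?_, fun r hr hπ hd => h1 r hr ?_ hπ⟩, ?_⟩
  · rwa [hH.symm.index_eq_card]
  · rwa [← hH.index_eq_card]
  · refine ⟨⟨fun x y => Subtype.ext ?_⟩⟩
    have hm : (x : G) * y * (x : G)⁻¹ * (y : G)⁻¹ ∈ N ⊓ H :=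
      ⟨hcomm x y, H.mul_mem (H.mul_mem (H.mul_mem x.2 y.2) (H.inv_mem x.2)) (H.inv_mem y.2)⟩
    rw [hH.disjoint.eq_bot, mem_bot] at hm
    simp only [Subgroup.coe_mul]
    calc (x : G) * y = (x * y * (x : G)⁻¹ * (y : G)⁻¹) * (y * x) := by group
      _ = y * x := by rw [hm, one_mul]

end Cfsg.Agent.H80
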