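import Cfsg.Agent.H80.Misc
import Cfsg.Agent.H19.Nilp
import Cfsg.Agent.H31.PPart
import Cfsg.Agent.S3889
import Cfsg.Prelude.Def_Transfer

set_option autoImplicit false

namespace Cfsg.Agent.H80

open Subgroup
open scoped Pointwise

variable {G : Type*} [Group G]

/-- A minimal cover all of whose members are nilpotent. -/
def NilCover (𝓐 : Finset (Subgroup G)) : Prop :=
  ((∀ A ∈ 𝓐, A ≠ ⊤) ∧ (∀ g : G, ∃ A ∈ 𝓐, g ∈ A)) ∧
    (∀ 𝓑 : Finset (Subgroup G), (∀ A ∈ 𝓑, A ≠ ⊤) ∧ (∀ g : G, ∃ A ∈ 𝓑, g ∈ A) → 𝓐.card ≤ 𝓑.card) ∧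
    (∀ A ∈ 𝓐, Group.IsNilpotent ↥A)

theorem NilCover.eq_of_le {𝓐 : Finset (Subgroup G)} (h : NilCover 𝓐) {A B M : Subgroup G}
    (hA : A ∈ 𝓐) (hB : B ∈ 𝓐) (hM : M ≠ ⊤) (hAM : A ≤ M) (hBM : B ≤ M) : A = B := by
  classical
  let f : Subgroup G → Subgroup G := fun K => if K ≤ M then M else K
  have hle : ∀ K, K ≤ f K := by
    intro K; simp only [f]; split_ifs with h
    exacts [h, le_rfl]
  have h1 := h.2.1 (𝓐.image f) ⟨?_, ?_⟩
  · have h2 : (𝓐.image f).card = 𝓐.card := le_antisymm Finset.card_image_le h1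
    rw [Finset.card_image_iff] at h2
    apply h2 hA hB
    simp only [f, if_pos hAM, if_pos hBM]
  · intro K hK
    obtain ⟨L, hL, rfl⟩ := Finset.mem_image.1 hK
    simp only [f]; split_ifs with h'
    exacts [hM, h.1.1 L hL]
  · intro g
    obtain ⟨K, hK, hg⟩ := h.1.2 g
    exact ⟨f K, Finset.mem_image_of_mem f hK, hle K hg⟩

/-- The stabiliser of a point under a permutation representation. -/
def stab {Ω : Type*} (φ : G →* Equiv.Perm Ω) (ω : Ω) : Subgroup G :=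
  (MulAction.stabilizer (Equiv.Perm Ω) ω).comap φ

theorem mem_stab {Ω : Type*} {φ : G →* Equiv.Perm Ω} {ω : Ω} {g : G} : g ∈ stab φ ω ↔ φ g ω = ω :=
  Iff.rfl

/-- A nilpotent group containing an element with a unique fixed point fixes this point. -/
theorem le_stab_of_nilpotent {Ω : Type*} (φ : G →* Equiv.Perm Ω) {A : Subgroup G}
    (hA : Group.IsNilpotent A) {x : G} (hx : x ∈ A) {ω : Ω} (h : ∀ ω', φ x ω' = ω' ↔ ω' = ω) :
    A ≤ stab φ ω := by
  by_contra hn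
  obtain ⟨t, htA, ht, htn⟩ := H19.exists_mem_normalizer_of_lt_nilpotent (S := A ⊓ stab φ ω) hA
    (lt_of_le_of_ne inf_le_left fun e => hn (inf_eq_left.1 e))
  have h1 : t⁻¹ * x * t⁻¹⁻¹ ∈ A ⊓ stab φ ω :=
    (mem_normalizer_iff.1 (inv_mem htn) x).1 ⟨hx, (h ω).2 rfl⟩
  have h2 : φ (t⁻¹ * x * t⁻¹⁻¹) ω = ω := h1.2
  rw [inv_inv, map_mul, map_mul, map_inv, Equiv.Perm.mul_apply, Equiv.Perm.mul_apply,
    Equiv.Perm.inv_eq_iff_eq] at h2
  exact ht ⟨htA, (h _).1 h2⟩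

theorem fix_conj {Ω : Type*} (φ : G →* Equiv.Perm Ω) {x : G} {ω : Ω}
    (h : ∀ ω', φ x ω' = ω' ↔ ω' = ω) (g : G) (ω' : Ω) :
    φ (g * x * g⁻¹) ω' = ω' ↔ ω' = φ g ω := by
  rw [map_mul, map_mul, map_inv, Equiv.Perm.mul_apply, Equiv.Perm.mul_apply,
    ← Equiv.Perm.eq_inv_iff_eq, h, Equiv.Perm.inv_eq_iff_eq]

/-- All elements with the same unique fixed point lie in one member of the cover. -/
theorem NilCover.exists_mem_fix {𝓐 : Finset (Subgroup G)} (h : NilCover 𝓐) {Ω : Type*}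
    (φ : G →* Equiv.Perm Ω) {ω : Ω} (hω : stab φ ω ≠ ⊤) {x : G} (hx : ∀ ω', φ x ω' = ω' ↔ ω' = ω) :
    ∃ A ∈ 𝓐, A ≤ stab φ ω ∧ ∀ y : G, (∀ ω', φ y ω' = ω' ↔ ω' = ω) → y ∈ A := by
  obtain ⟨A, hA, hxA⟩ := h.1.2 x
  have h1 := le_stab_of_nilpotent φ (h.2.2 A hA) hxA hx
  refine ⟨A, hA, h1, fun y hy => ?_⟩
  obtain ⟨B, hB, hyB⟩ := h.1.2 y
  rwa [h.eq_of_le hA hB hω h1 (le_stab_of_nilpotent φ (h.2.2 B hB) hyB hy)]

theorem NilCover.exists_le_stab {𝓐 : Finset (Subgroup G)} (h : NilCover 𝓐) {Ω : Type*}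
    (φ : G →* Equiv.Perm Ω) (hω : ∀ ω, stab φ ω ≠ ⊤) (hx : ∀ ω, ∃ x, ∀ ω', φ x ω' = ω' ↔ ω' = ω)
    {C : Subgroup G} (hC : C ∈ 𝓐) (hfix : ∀ g ∈ C, ∃ ω, φ g ω = ω) : ∃ ω, C ≤ stab φ ω := by
  classical
  by_contra hn
  let f : Subgroup G → Subgroup G := fun K => if h : ∃ ω, K ≤ stab φ ω then stab φ h.choose else K
  have hle : ∀ K, K ≤ f K := by
    intro K; simp only [f]; split_ifs with h
    exacts [h.choose_spec, le_rfl]
  have h1 := h.2.1 ((𝓐.erase C).image f) ⟨?_, ?_⟩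
  · have h2 := h1.trans Finset.card_image_le
    exact absurd (Finset.card_erase_lt_of_mem hC) (not_lt.2 h2)
  · intro K hK
    obtain ⟨L, hL, rfl⟩ := Finset.mem_image.1 hK
    simp only [f]; split_ifs with h'
    exacts [hω _, h.1.1 L (Finset.mem_of_mem_erase hL)]
  · intro g
    obtain ⟨K, hK, hg⟩ := h.1.2 g
    by_cases hKC : K = C
    · subst hKC
      obtain ⟨ω, hgω⟩ := hfix g hg
      obtain ⟨x, hx⟩ := hx ω
      obtain ⟨A, hA, hxA⟩ := h.1.2 x
      have h2 := le_stab_of_nilpotent φ (h.2.2 A hA) hxA hx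
      refine ⟨f A, Finset.mem_image_of_mem f (Finset.mem_erase.2 ⟨?_, hA⟩), ?_⟩
      · rintro rfl
        exact hn ⟨ω, h2⟩
      · have h3 : ∃ ω, A ≤ stab φ ω := ⟨ω, h2⟩
        simp only [f, dif_pos h3]
        rw [(hx _).1 (h3.choose_spec hxA)]
        exact hgω
    · exact ⟨f K, Finset.mem_image_of_mem f (Finset.mem_erase.2 ⟨hKC, hK⟩), hle K hg⟩

theorem exists_central_of_nilpotent (A : Subgroup G) (hA : Group.IsNilpotent A) {x : G}
    (hx : x ∈ A) (h1 : x ≠ 1) : ∃ z ∈ A, z ≠ 1 ∧ ∀ y ∈ A, y * z = z * y := by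
  have : Nontrivial A := ⟨⟨⟨x, hx⟩, 1, fun h => h1 (congrArg Subtype.val h)⟩⟩
  obtain ⟨⟨⟨z, hz⟩, hzc⟩, hz1⟩ := Subgroup.ne_bot_iff_exists_ne_one.1
    (Group.IsNilpotent.center_ne_bot A)
  refine ⟨z, hz, fun h => hz1 (Subtype.ext (Subtype.ext h)), fun y hy => ?_⟩
  exact congrArg Subtype.val (Subgroup.mem_center_iff.1 hzc ⟨y, hy⟩)

theorem isPGroup_zpowers_of_pow {p k : ℕ} {x : G} (hx : x ^ p ^ k = 1) : IsPGroup p (zpowers x) := by
  rintro ⟨_, i, rfl⟩
  refine ⟨k, Subtype.ext ?_⟩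
  change (x ^ i) ^ p ^ k = 1
  rw [← zpow_natCast, zpow_comm, zpow_natCast, hx, one_zpow]

/-- With abelian Sylow `p`-subgroups, a `p`-element of a nilpotent subgroup is central in it. -/
theorem comm_of_nilpotent_of_abelian_sylow [Finite G] {p : ℕ} [hp : Fact p.Prime] (P : Sylow p G)
    (hab : IsMulCommutative (P : Subgroup G)) {A : Subgroup G} (hA : Group.IsNilpotent A) {x : G}
    (hx : x ∈ A) {k : ℕ} (hk : x ^ p ^ k = 1) {a : G} (ha : a ∈ A) : a * x = x * a := by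
  obtain ⟨u, v, rfl, -, hu, hv, ⟨j, hj⟩, hvp⟩ := H31.exists_p_parts hp.out a
  have huA := zpowers_le.2 ha hu
  have hvA := zpowers_le.2 ha hv
  have h1 : v * x = x * v := congrArg Subtype.val (H19.commute_of_coprime_pow (G := A)
    (hvp.pow_right k) ⟨v, hvA⟩ ⟨x, hx⟩ (Subtype.ext (pow_orderOf_eq_one v)) (Subtype.ext hk))
  have h2 : u * x = x * u := by
    obtain ⟨S, hS⟩ := (isPGroup_zpowers_of_pow (x := (⟨x, hx⟩ : A)) (Subtype.ext hk)).exists_le_sylow
    obtain ⟨T, hT⟩ := (isPGroup_zpowers_of_pow (x := (⟨u, huA⟩ : A)) (Subtype.ext hj)).exists_le_sylow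
    have := Sylow.unique_of_normal S inferInstance
    obtain rfl : S = T := Subsingleton.elim _ _
    obtain ⟨Q, hQ⟩ := (S.isPGroup'.map A.subtype).exists_le_sylow
    have h3 : u ∈ Q := hQ ⟨_, hT (mem_zpowers _), rfl⟩
    have h4 : x ∈ Q := hQ ⟨_, hS (mem_zpowers _), rfl⟩
    have h5 : ∀ a b : Q, a * b = b * a := fun a b => (Q.equiv P).injective (by
      rw [map_mul, map_mul]; exact hab.is_comm.comm _ _)
    exact congrArg Subtype.val (h5 ⟨u, h3⟩ ⟨x, h4⟩)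
  rw [mul_assoc, h1, ← mul_assoc, h2, mul_assoc]

theorem NilCover.eq_of_mem [Finite G] {𝓐 : Finset (Subgroup G)} (h : NilCover 𝓐)
    (hZ : center G = ⊥) {p : ℕ} [Fact p.Prime] (P : Sylow p G)
    (hab : IsMulCommutative (P : Subgroup G)) {A B : Subgroup G} (hA : A ∈ 𝓐) (hB : B ∈ 𝓐) {x : G}
    (hx1 : x ≠ 1) {k : ℕ} (hk : x ^ p ^ k = 1) (hxA : x ∈ A) (hxB : x ∈ B) : A = B := by
  refine h.eq_of_le (M := centralizer {x}) hA hB ?_ ?_ ?_
  · rw [Ne, centralizer_eq_top_iff_subset, hZ]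
    simpa using hx1
  · exact fun a ha => mem_centralizer_singleton_iff.2
      (comm_of_nilpotent_of_abelian_sylow P hab (h.2.2 A hA) hxA hk ha)
  · exact fun a ha => mem_centralizer_singleton_iff.2
      (comm_of_nilpotent_of_abelian_sylow P hab (h.2.2 B hB) hxB hk ha)

theorem NilCover.exists_sylow_le [Finite G] {𝓐 : Finset (Subgroup G)} (h : NilCover 𝓐)
    (hZ : center G = ⊥) {p : ℕ} [hp : Fact p.Prime] (P : Sylow p G)
    (hab : IsMulCommutative (P : Subgroup G))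
    (hne : ¬ (IsElementaryAbelian p (P : Subgroup G) ∧ p < Nat.card (P : Subgroup G)))
    (Q : Sylow p G) : ∃ A ∈ 𝓐, (Q : Subgroup G) ≤ A := by
  by_contra hn
  push Not at hn
  apply hne
  have h5 : ∀ a b : Q, a * b = b * a := fun a b => (Q.equiv P).injective (by
    rw [map_mul, map_mul]; exact hab.is_comm.comm _ _)
  let _ : CommGroup Q := { (inferInstance : Group Q) with mul_comm := h5 }
  have h1 := S3889.result (G := Q) ((fun A => A.subgroupOf Q) '' (𝓐 : Set (Subgroup G))) (by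
      rintro _ ⟨A, hA, rfl⟩ e
      exact hn A hA (subgroupOf_eq_top.1 e))
    (fun g => by
      obtain ⟨A, hA, hg⟩ := h.1.2 g
      exact ⟨_, ⟨A, hA, rfl⟩, hg⟩)
    (by
      rintro _ ⟨A, hA, rfl⟩ _ ⟨B, hB, rfl⟩ hAB
      rw [eq_bot_iff]
      intro x hx
      by_contra hx1
      obtain ⟨k, hk⟩ := Q.isPGroup' x
      exact hAB (by rw [h.eq_of_mem hZ P hab hA hB (x := x) (fun e => hx1 (Subtype.ext e))
        (congrArg Subtype.val hk) hx.1 hx.2]))
  obtain ⟨n, hn1⟩ := IsPGroup.iff_card.1 Q.isPGroup'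
  have h2 : Monoid.exponent Q = p := (Nat.prime_dvd_prime_iff_eq h1 hp.out).1
    (h1.dvd_of_dvd_pow (hn1 ▸ Group.exponent_dvd_nat_card))
  refine ⟨⟨hab, fun a ha => ?_⟩, ?_⟩
  · have h3 := Monoid.pow_exponent_eq_one ((Q.equiv P).symm ⟨a, ha⟩)
    rw [h2, ← map_pow, MulEquiv.map_eq_one_iff] at h3
    exact congrArg Subtype.val h3
  · rw [← Nat.card_congr (Q.equiv P).toEquiv]
    by_contra h3
    have h4 : Nat.card Q = p := le_antisymm (not_lt.1 h3)
      (Nat.le_of_dvd Nat.card_pos (h2.symm.dvd.trans Group.exponent_dvd_nat_card))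
    obtain ⟨g, hg⟩ := (isCyclic_of_prime_card h4).exists_generator
    obtain ⟨A, hA, hgA⟩ := h.1.2 g
    refine hn A hA fun y hy => ?_
    obtain ⟨i, hi⟩ := hg ⟨y, hy⟩
    rw [show y = (g : G) ^ i from (congrArg Subtype.val hi).symm]
    exact zpow_mem hgA i

theorem NilCover.centralizer_eq [Finite G] {𝓐 : Finset (Subgroup G)} (h : NilCover 𝓐)
    (hZ : center G = ⊥) {p : ℕ} [hp : Fact p.Prime] (P : Sylow p G)
    (hab : IsMulCommutative (P : Subgroup G))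
    (hne : ¬ (IsElementaryAbelian p (P : Subgroup G) ∧ p < Nat.card (P : Subgroup G)))
    {A : Subgroup G} (hA : A ∈ 𝓐) {x : G} (hx1 : x ≠ 1) {k : ℕ} (hk : x ^ p ^ k = 1) (hx : x ∈ A) :
    centralizer {x} = A := by
  refine le_antisymm (fun c hc => ?_) fun a ha => mem_centralizer_singleton_iff.2
    (comm_of_nilpotent_of_abelian_sylow P hab (h.2.2 A hA) hx hk ha)
  obtain ⟨u, v, rfl, -, hu, hv, ⟨j, hj⟩, hvp⟩ := H31.exists_p_parts hp.out c
  have huA := zpowers_le.2 hc hu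
  have hvA := zpowers_le.2 hc hv
  refine mul_mem ?_ ?_
  · have h1 : IsPGroup p ↥(zpowers u ⊔ zpowers x) := by
      refine IsPGroup.to_sup_of_normal_right' (isPGroup_zpowers_of_pow hj)
        (isPGroup_zpowers_of_pow hk) ((zpowers_le.2 ?_).trans (centralizer_le_normalizer _))
      rw [zpowers_eq_closure, centralizer_closure]
      exact huA
    obtain ⟨Q, hQ⟩ := h1.exists_le_sylow
    obtain ⟨B, hB, hQB⟩ := h.exists_sylow_le hZ P hab hne Q
    rw [h.eq_of_mem hZ P hab hA hB hx1 hk hx (hQB (hQ (mem_sup_right (mem_zpowers x))))]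
    exact hQB (hQ (mem_sup_left (mem_zpowers u)))
  · obtain ⟨B, hB, hvx⟩ := h.1.2 (v * x)
    have hc : Commute v x := mem_centralizer_singleton_iff.1 hvA
    have h1 : x ∈ B := by
      have h2 := pow_mem hvx (orderOf v)
      rw [hc.mul_pow, pow_orderOf_eq_one, one_mul] at h2
      have h3 : (orderOf v).Coprime (orderOf x) :=
        Nat.Coprime.coprime_dvd_right (orderOf_dvd_of_pow_eq_one hk) (hvp.pow_right k)
      obtain ⟨m, hm⟩ := exists_pow_eq_self_of_coprime h3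
      exact hm ▸ pow_mem h2 m
    rw [h.eq_of_mem hZ P hab hA hB hx1 hk hx h1]
    exact (mul_mem_cancel_right h1).1 hvx

theorem NilCover.sylow_structure [Finite G] {𝓐 : Finset (Subgroup G)} (h : NilCover 𝓐)
    (hZ : center G = ⊥) {p : ℕ} [hp : Fact p.Prime] (P : Sylow p G)
    (hab : IsMulCommutative (P : Subgroup G)) (hnn : ¬ (P : Subgroup G).Normal)
    (hne : ¬ (IsElementaryAbelian p (P : Subgroup G) ∧ p < Nat.card (P : Subgroup G))) :
    centralizer ((P : Subgroup G) : Set G) ∈ 𝓐 ∧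
      (∀ M : Subgroup G, M ≠ ⊤ → centralizer ((P : Subgroup G) : Set G) ≤ M →
        M ≤ normalizer ((P : Subgroup G) : Set G)) ∧
      (∀ g x : G, x ∈ P → x ∈ g • P → x ≠ 1 → g ∈ normalizer ((P : Subgroup G) : Set G)) := by
  have h1 : ∀ Q : Sylow p G, centralizer ((Q : Subgroup G) : Set G) ∈ 𝓐 ∧
      (Q : Subgroup G) ≤ centralizer ((Q : Subgroup G) : Set G) ∧
      ∀ x ∈ Q, x ≠ 1 → centralizer {x} = centralizer ((Q : Subgroup G) : Set G) := by
    intro Q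
    obtain ⟨A, hA, hQA⟩ := h.exists_sylow_le hZ P hab hne Q
    have h2 : ∀ x ∈ Q, x ≠ 1 → centralizer {x} = A := fun x hx hx1 => by
      obtain ⟨k, hk⟩ := Q.isPGroup' ⟨x, hx⟩
      exact h.centralizer_eq hZ P hab hne hA hx1 (congrArg Subtype.val hk) (hQA hx)
    have h3 : centralizer ((Q : Subgroup G) : Set G) = A := by
      obtain ⟨⟨x, hx⟩, hx1⟩ := (Q : Subgroup G).ne_bot_iff_exists_ne_one.1 (by
        intro e
        have h4 := Nat.card_congr (Q.equiv P).toEquiv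
        rw [card_eq_one.2 e] at h4
        exact hnn (card_eq_one.1 h4.symm ▸ inferInstance))
      refine le_antisymm ((centralizer_le (Set.singleton_subset_iff.2 hx)).trans
        (h2 x hx fun e => hx1 (Subtype.ext e)).le) fun a ha y hy => ?_
      by_cases hy1 : y = 1
      · simp [hy1]
      · exact (mem_centralizer_singleton_iff.1 (h2 y hy hy1 ▸ ha)).symm
    rw [h3]
    exact ⟨hA, hQA, h2⟩
  have h2 : ∀ g : G, centralizer (((g • P : Sylow p G) : Subgroup G) : Set G) =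
      centralizer ((P : Subgroup G) : Set G) → g ∈ normalizer ((P : Subgroup G) : Set G) := by
    intro g hg
    refine Sylow.smul_eq_iff_mem_normalizer.1 ?_
    have h3 : ((g • P : Sylow p G) : Subgroup G) ⊓ normalizer ((P : Subgroup G) : Set G) =
      ((g • P : Sylow p G) : Subgroup G) ⊓ P := (g • P).isPGroup'.inf_normalizer_sylow P
    rw [inf_eq_left.2 (((h1 _).2.1.trans hg.le).trans (centralizer_le_normalizer _))] at h3
    exact Sylow.ext ((g • P).is_maximal' P.isPGroup' (inf_eq_left.1 h3.symm)).symm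
  refine ⟨(h1 P).1, fun M hM hPM m hm => h2 m (h.eq_of_le (h1 _).1 (h1 _).1 hM ?_ hPM),
    fun g x hx hxg hx1 => h2 g (by rw [← (h1 _).2.2 x hx hx1, ← (h1 _).2.2 x hxg hx1])⟩
  intro c hc
  have h3 : m⁻¹ * c * m ∈ M := hPM fun y hy => by
    have h4 := hc (m * y * m⁻¹) ⟨y, hy, rfl⟩
    calc y * (m⁻¹ * c * m) = m⁻¹ * (m * y * m⁻¹ * c) * m := by group
      _ = _ := by rw [h4]; group
  exact (mul_mem_cancel_left (inv_mem hm)).1 ((mul_mem_cancel_right hm).1 h3)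

end Cfsg.Agent.H80
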