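import Mathlib

/-! The order of an irreducible module for an operator of prime order. -/

set_option autoImplicit false

namespace Cfsg.Agent.H80

theorem card_of_irreducible_add {V : Type*} [AddCommGroup V] [Finite V] [Nontrivial V] {p q : ℕ}
    (hp : p.Prime) (hq : q.Prime) (hqV : ∀ v : V, q • v = 0) (T : AddMonoid.End V)
    (hT : T ^ p = 1) (hT1 : T ≠ 1)
    (hirr : ∀ W : AddSubgroup V, (∀ w ∈ W, T w ∈ W) → W = ⊥ ∨ W = ⊤) :
    Nat.card V = q ^ orderOf (q : ZMod p) := by
  classical
  have := Fact.mk hp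
  have := Fact.mk hq
  have hfin : Finite (AddMonoid.End V) := Finite.of_injective _ DFunLike.coe_injective
  let K := Subring.centralizer ({T} : Set (AddMonoid.End V))
  have hK : ∀ k : K, T * k = k * T := fun k => k.2 T rfl
  have hinj : ∀ k : K, k ≠ 0 → ∀ v, k.1 v = 0 → v = 0 := by
    intro k hk v hv
    rcases hirr (AddMonoidHom.ker k.1) (by
      intro w hw
      change (k.1 * T) w = 0
      rw [← hK]
      change T (k.1 w) = 0
      rw [show k.1 w = 0 from hw, map_zero]) with h | h
    · exact AddSubgroup.mem_bot.1 (h ▸ hv)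
    · refine absurd (Subtype.ext (AddMonoidHom.ext fun w => ?_)) hk
      exact (h ▸ AddSubgroup.mem_top w : w ∈ AddMonoidHom.ker k.1)
  obtain ⟨v0, hv0⟩ := exists_ne (0 : V)
  have hnt : Nontrivial K := ⟨⟨1, 0, fun h => hv0 (by
    have := congrArg (fun k : K => k.1 v0) h
    exact this)⟩⟩
  have hnz : NoZeroDivisors K := ⟨fun {a b} h => by
    by_contra h1
    push Not at h1
    exact hv0 (hinj b h1.2 _ (hinj a h1.1 _ (by
      have := congrArg (fun k : K => k.1 v0) h
      exact this)))⟩
  have hdom : IsDomain K := NoZeroDivisors.to_isDomain K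
  let _ : Fintype K := Fintype.ofFinite K
  let _ : Field K := (Finite.isDomain_to_isField K).toField
  have hchar : CharP K q := by
    rw [CharP.charP_iff_prime_eq_zero hq]
    apply Subtype.ext
    ext v
    change ((q : K) : AddMonoid.End V) v = 0
    simp [hqV]
  let T' : K := ⟨T, by rintro _ rfl; rfl⟩
  let ev : K →+ V :=
    { toFun := fun k => k.1 v0
      map_zero' := rfl
      map_add' := fun _ _ => rfl }
  have hev : Function.Injective ev := by
    rw [injective_iff_map_eq_zero]
    intro k hk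
    by_contra h
    exact hv0 (hinj k h _ hk)
  have hsub : ∀ F : Subring K, T' ∈ F → F = ⊤ ∧ Function.Surjective ev := by
    intro F hF
    have h1 : F.toAddSubgroup.map ev = ⊤ := by
      refine (hirr _ ?_).resolve_left fun h => hv0 ?_
      · rintro _ ⟨k, hk, rfl⟩
        exact ⟨T' * k, F.mul_mem hF hk, rfl⟩
      · exact AddSubgroup.mem_bot.1 (h ▸ ⟨1, F.one_mem, rfl⟩)
    refine ⟨?_, fun v => ?_⟩
    · rw [eq_top_iff]
      intro k _
      obtain ⟨k', hk', e⟩ : ev k ∈ F.toAddSubgroup.map ev := h1 ▸ AddSubgroup.mem_top _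
      exact hev e ▸ hk'
    · obtain ⟨k', -, e⟩ : v ∈ F.toAddSubgroup.map ev := h1 ▸ AddSubgroup.mem_top _
      exact ⟨k', e⟩
  have hcard : Nat.card V = Fintype.card K := by
    rw [← Nat.card_eq_fintype_card]
    exact (Nat.card_congr (Equiv.ofBijective ev ⟨hev, (hsub ⊤ trivial).2⟩)).symm
  obtain ⟨d, -, hd⟩ := FiniteField.card K q
  have hTp : T' ^ p = 1 := Subtype.ext hT
  have hTo : orderOf T' = p := orderOf_eq_prime hTp fun h => hT1 (congrArg Subtype.val h)
  have hT0 : T' ≠ 0 := by
    intro h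
    rw [h, zero_pow hp.ne_zero] at hTp
    exact zero_ne_one hTp
  have h1 : (q : ZMod p) ^ (d : ℕ) = 1 := by
    have h2 := orderOf_dvd_of_pow_eq_one (FiniteField.pow_card_sub_one_eq_one T' hT0)
    rw [hTo, hd, ← Nat.modEq_iff_dvd' (Nat.one_le_pow _ _ hq.pos), ← ZMod.natCast_eq_natCast_iff] at h2
    push_cast at h2
    exact h2.symm
  set e := orderOf (q : ZMod p) with he
  have he0 : 0 < e := orderOf_pos_iff.2 (isOfFinOrder_iff_pow_eq_one.2 ⟨d, d.pos, h1⟩)
  have h3 : e ≤ d := Nat.le_of_dvd d.pos (orderOf_dvd_of_pow_eq_one h1)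
  have h4 : T' ^ q ^ e = T' := by
    have h5 : q ^ e ≡ 1 [MOD orderOf T'] := by
      rw [hTo, ← ZMod.natCast_eq_natCast_iff]
      push_cast
      exact pow_orderOf_eq_one _
    rw [pow_eq_pow_mod, h5, ← pow_eq_pow_mod, pow_one] <;> exact pow_orderOf_eq_one _
  have h5 := (hsub (RingHom.eqLocus (iterateFrobenius K q e) (RingHom.id K)) h4).1
  have h6 : Fintype.card K ≤ q ^ e := by
    have hne := FiniteField.X_pow_card_pow_sub_X_ne_zero K he0.ne' hq.one_lt
    have h7 : (Finset.univ : Finset K) ⊆ (Polynomial.X ^ q ^ e - Polynomial.X : Polynomial K).roots.toFinset := by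
      intro k _
      rw [Multiset.mem_toFinset, Polynomial.mem_roots hne]
      have : k ^ q ^ e = k := (h5 ▸ Subring.mem_top k :
        k ∈ RingHom.eqLocus (iterateFrobenius K q e) (RingHom.id K))
      simp [this]
    have h8 := (Finset.card_le_card h7).trans ((Multiset.toFinset_card_le _).trans (Polynomial.card_roots' _))
    rwa [FiniteField.X_pow_card_pow_sub_X_natDegree_eq K he0.ne' hq.one_lt] at h8
  rw [hd, Nat.pow_le_pow_iff_right hq.one_lt] at h6
  rw [hcard, hd, le_antisymm h3 h6]

open Subgroup in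
/-- group form: `x` with `x ^ p` centralizing `A` acts irreducibly and non-trivially on the
elementary abelian `q`-group `A`. -/
theorem card_of_irreducible {G : Type*} [Group G] [Finite G] {p q : ℕ} (hp : p.Prime) (hq : q.Prime)
    {A : Subgroup G} (hA : IsMulCommutative A) (hqA : ∀ a ∈ A, a ^ q = 1) {x : G}
    (hx : x ∈ normalizer (A : Set G)) (hxp : x ^ p ∈ centralizer (A : Set G))
    (hxc : x ∉ centralizer (A : Set G))
    (hirr : ∀ W : Subgroup G, W ≤ A → (∀ w ∈ W, x * w * x⁻¹ ∈ W) → W = ⊥ ∨ W = A) :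
    Nat.card A = q ^ orderOf (q : ZMod p) := by
  let _ : CommGroup A := { (inferInstance : Group A) with mul_comm := hA.is_comm.comm }
  have hnt : Nontrivial A := by
    rw [nontrivial_iff_ne_bot]
    rintro rfl
    exact hxc fun y hy => by rw [mem_bot.1 hy]; simp
  let φ : MulAut A := A.normalizerMonoidHom ⟨x, hx⟩
  have hφ : ∀ a : A, ((φ a : A) : G) = x * a * x⁻¹ := fun _ => rfl
  let T : AddMonoid.End (Additive A) := MonoidHom.toAdditive φ.toMonoidHom
  have hTn : ∀ (n : ℕ) (a : A), (((T ^ n) (Additive.ofMul a)).toMul : G) = x ^ n * a * (x ^ n)⁻¹ := by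
    intro n
    induction n with
    | zero => intro a; simp
    | succ n ih =>
      intro a
      rw [pow_succ]
      change (((T ^ n) (Additive.ofMul (φ a))).toMul : G) = _
      rw [ih, hφ, pow_succ]; group
  refine card_of_irreducible_add (V := Additive A) hp hq (fun v => ?_) T ?_ ?_ ?_
  · exact Subtype.ext (hqA _ v.toMul.2)
  · ext v
    refine (hTn p v.toMul).trans ?_
    rw [← hxp _ v.toMul.2, mul_inv_cancel_right]
    rfl
  · intro h
    apply hxc
    intro a ha
    have := hTn 1 ⟨a, ha⟩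
    rw [h, pow_one, pow_one] at this
    change a = x * a * x⁻¹ at this
    rw [eq_mul_inv_iff_mul_eq] at this
    exact this
  · intro W hW
    rcases hirr (W.toSubgroup'.map A.subtype) (map_subtype_le _) (by
      rintro _ ⟨w, hw, rfl⟩
      exact ⟨φ w, hW _ hw, rfl⟩) with h | h
    · left
      rw [eq_bot_iff]
      intro w hw
      have : ((w.toMul : A) : G) ∈ (⊥ : Subgroup G) := h ▸ ⟨w.toMul, hw, rfl⟩
      exact Subtype.ext this
    · right
      rw [eq_top_iff]
      intro w _
      obtain ⟨u, hu, e⟩ : ((w.toMul : A) : G) ∈ W.toSubgroup'.map A.subtype := h.symm ▸ w.toMul.2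
      have : u = w.toMul := Subtype.ext e
      rw [this] at hu
      exact hu

end Cfsg.Agent.H80
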