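/-
Project SGJ4, the subgroup 2^10: its normaliser is a split extension by SL(5,2).
-/
import Cfsg.Agent.H80.J4AD
import Cfsg.Agent.H62.Unitri
import Cfsg.Agent.H9.SLBasic
import Cfsg.Agent.S0051

set_option autoImplicit false

namespace Cfsg.Agent.H80.J4A

open Cfsg.Agent.H14 Cfsg.Agent.H70 Cfsg.Agent.SGJ4 Subgroup AG Matrix Setup
open scoped commutatorElement

abbrev SL5 := SpecialLinearGroup (Fin 5) (ZMod 2)

def mx (g : SL5) : Matrix (Fin 5) (Fin 5) (ZMod 2) := g.1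
theorem mx_mul (g h : SL5) : mx (g * h) = mx g * mx h := rfl
theorem mx_one : mx 1 = 1 := rfl

theorem card_SL5 : Nat.card SL5 = 9999360 := by
  have := H9.card_sl_fin (F := ZMod 2) 5 (by decide)
  rw [ZMod.card, Fin.prod_univ_five] at this
  exact (one_mul _).symm.trans this

variable {G : Type*} [Group G] (S : Setup G)

/-- the member of `A10` with given coordinates -/
noncomputable def ka (v : Vb) : G := S.th (kap v)
abbrev AA : Subgroup G := A10 S.toSetup1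
abbrev NA : Subgroup G := normalizer (AA S : Set G)

variable {S}

theorem ka_add (v w : Vb) : ka S (v + w) = ka S v * ka S w := by
  rw [ka, kap_add, th_mul (kap_mem v) (kap_mem w)]; rfl
theorem ka_zero : ka S 0 = 1 := by rw [ka, kap_zero, th_one]
theorem ka_one : ka S (Vb.of 1) = S.z := by rw [ka, kap_one, th_zN]
theorem ka_mem_H (v : Vb) : ka S v ∈ S.H := (th_mem_H (kap_mem v)).2 (gam_fst (gam_kap v))
theorem pi_ka (v : Vb) : S.pi (ka S v) = kH v := pi_th (kap_mem v) (gam_kap v)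
theorem ka_inj {v w : Vb} : ka S v = ka S w ↔ kap v = kap w := th_inj (kap_mem v) (kap_mem w)
theorem ka_eq_one {v : Vb} : ka S v = 1 ↔ zt v.val = 0 := (th_eq_one (kap_mem v)).trans kap_eq_one
theorem ka_mem : ∀ v, ka S v ∈ AA S := Vb.induction (ka_zero (S := S) ▸ one_mem _)
  (fun _ hi => Setup1.mem_pre.2 ⟨ka_mem_H _, pi_ka (S := S) _ ▸ kH_e hi⟩) fun a b ha hb =>
    ka_add (S := S) a b ▸ mul_mem ha hb
theorem ka_comm (v w : Vb) : ka S v * ka S w = ka S w * ka S v := by rw [← ka_add, add_comm, ka_add]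

theorem ncard_ka (f : ℕ → Bool) : (ka S '' {v | (Nat.ble v.val 1023 && f v.val) = true}).ncard =
    cnt2 64 64 fun n => Nat.ble n 1023 && f n := by
  rw [Set.InjOn.ncard_image fun v hv w hw h => ?_]
  · exact Vb.ncard_eq _ _ fun _ => Iff.rfl
  simp only [Set.mem_ofPred_eq, Bool.and_eq_true, ble_iff] at hv hw
  exact kap_inj (Nat.lt_succ_of_le hv.1) (Nat.lt_succ_of_le hw.1) (ka_inj.1 h)

theorem typ (v : Vb) : IsConj S.z (ka S v) ↔ zt v.val = 1 := by
  by_cases h0 : zt v.val = 0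
  · simp [ka_eq_one.2 h0, h0, S.z_ne_one]
  obtain ⟨r, hr, e1, n, hn, e2⟩ := exists_rep v
  have h1 : r ∈ [2, 3, 258, 259] := (List.mem_cons.1 hr).resolve_left fun e => h0 (by
    rw [← e1, e]; decide +kernel)
  have h2 : IsConj (ka S (Vb.of r)) (ka S v) :=
    isConj_iff.2 ⟨S.th n, by rw [ka, ka, ← th_conj (NK_le hn) (kap_mem _), e2]⟩
  rw [← e1, ← ZT_rep r h1, ← isConj_th (S := S) (kap_mem _) (orderOf_eq_prime (by rw [sq, kap_sq]) fun e => h0
    (kap_eq_one.1 (by rw [← e2, e]; simp)))]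
  exact ⟨fun h => h.trans h2.symm, fun h => h.trans h2⟩

theorem zt_conj {g : G} {v w : Vb} (h : g * ka S v * g⁻¹ = ka S w) : zt v.val = zt w.val := by
  have h1 : zt v.val = 0 ↔ zt w.val = 0 := by rw [← ka_eq_one (S := S), ← ka_eq_one (S := S), ← h, conj_eq_one_iff]
  have h2 : zt v.val = 1 ↔ zt w.val = 1 := by
    rw [← typ (S := S), ← typ (S := S)]
    exact ⟨fun k => k.trans (isConj_iff.2 ⟨g, h⟩), fun k => k.trans (isConj_iff.2 ⟨g, h⟩).symm⟩
  have := zt_lt v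
  have := zt_lt w
  omega

theorem exists_h : ∃ h : G, ∀ v, h * ka S v * h⁻¹ = ka S (hom L43 v) := by
  obtain ⟨h, h1, e⟩ := Setup1.exists_pi (S := S.toSetup1) hc_facts.1
  refine ⟨h, fun v => ?_⟩
  rw [← hom_idM v, ← (by decide +kernel : mm Bm Cm = idM), hom_mm]
  refine Vb.induction (P := fun c => h * ka S (hom Bm c) * h⁻¹ = ka S (hom L43 (hom Bm c)))
    (by simp [ka_zero]) (fun m hm => ?_) (fun a b ha hb => by
      rw [map_add, map_add, ka_add, ka_add, ← ha, ← hb, conj_mul]) _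
  obtain ⟨h2, h3, h4⟩ := hc_facts.2 m hm _ rfl
  refine ((Setup1.pi_eq_iff (Setup1.conj_mem_H h1 (ka_mem_H _)) (ka_mem_H _)).1 (by
    rw [Setup1.pi_conj h1 (ka_mem_H _), e, pi_ka, pi_ka, h2])).resolve_right fun h5 => ?_
  rw [← ka_one, ← ka_add] at h5
  have := zt_conj h5
  omega

variable [Finite G]

theorem image_ka : ka S '' {v | (Nat.ble v.val 1023 && true) = true} = AA S ∧ Nat.card (AA S) = 1024 := by
  have h1 := (ncard_ka (S := S) fun _ => true).trans (by decide +kernel : _ = 1024)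
  have h2 := Set.eq_of_subset_of_ncard_le (by rintro _ ⟨v, -, rfl⟩; exact ka_mem v)
    (h1.symm ▸ card_A10_le (S := S.toSetup1) : (AA S : Set G).ncard ≤
      (ka S '' {v | (Nat.ble v.val 1023 && true) = true}).ncard)
  exact ⟨h2, by rwa [h2] at h1⟩

theorem exists_ka {a : G} (ha : a ∈ AA S) : ∃ v : Vb, v.val ≤ 1023 ∧ ka S v = a :=
  let ⟨v, hv, e⟩ := image_ka.1.ge ha; ⟨v, by simpa using hv, e⟩

theorem mem_NA {g : G} (h : ∀ v, ∃ w, g * ka S v * g⁻¹ = ka S w) : g ∈ NA S :=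
  mem_normalizer_of_cj_le (cj_le_iff.2 fun a ha => by
    obtain ⟨v, -, rfl⟩ := exists_ka ha
    obtain ⟨w, e⟩ := h v
    exact e ▸ ka_mem w)

omit [Finite G] in
theorem th_nn {k : ℕ} (hk : k < 20) (v : Vb) :
    S.th (nn k) * ka S v * (S.th (nn k))⁻¹ = ka S (hom (nthD LL idM k) v) := by
  rw [ka, ← th_conj (nn_facts hk).2.1 (kap_mem v), (nn_facts hk).2.2, ka]

theorem th_NK {n : AG} (hn : n ∈ NK) : S.th n ∈ NA S := by
  induction hn using closure_induction with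
  | mem _ h => obtain ⟨k, hk, rfl⟩ := h; exact mem_NA fun v => ⟨_, th_nn hk v⟩
  | one => rw [th_one]; exact one_mem _
  | mul a b ha hb h1 h2 => rw [th_mul (NK_le ha) (NK_le hb)]; exact mul_mem h1 h2
  | inv a ha h => rw [th_inv (NK_le ha)]; exact inv_mem h

theorem orb {r : ℕ} (hr : r = 2 ∨ r = 3) : {x : G | ∃ n ∈ NA S, n * ka S (Vb.of r) * n⁻¹ = x} =
    ka S '' {v | (Nat.ble v.val 1023 && Nat.beq (zt v.val) (zt r)) = true} := by
  ext x
  refine ⟨fun ⟨n, hn, e⟩ => ?_, ?_⟩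
  · obtain ⟨v, hv, rfl⟩ := exists_ka (e ▸ conj_mem_of_mem_norm hn (ka_mem _))
    refine ⟨v, ?_, rfl⟩
    rw [Set.mem_ofPred_eq, Bool.and_eq_true, ble_iff, beq_iff, ← zt_conj e, Vb.val_of_lt (by omega)]
    exact ⟨hv, rfl⟩
  rintro ⟨v, hv, rfl⟩
  rw [Set.mem_ofPred_eq, Bool.and_eq_true, beq_iff] at hv
  obtain ⟨s, hs, e1, n, hn, e2⟩ := exists_rep v
  have h1 : S.th n * ka S (Vb.of s) * (S.th n)⁻¹ = ka S v := by
    rw [ka, ← th_conj (NK_le hn) (kap_mem _), e2, ka]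
  have h2 : ∀ s ∈ [0, 2, 3, 258, 259], zt s = zt r → s = r ∨ Vb.of s = hom L43 (Vb.of r) := by
    rcases hr with rfl | rfl <;> decide +kernel
  rcases h2 s hs (e1.trans hv.2) with rfl | h3
  · exact ⟨_, th_NK hn, h1⟩
  · obtain ⟨h, hh⟩ := exists_h (S := S)
    exact ⟨_, mul_mem (th_NK hn) (mem_NA fun v => ⟨_, hh v⟩), by rw [← h1, h3, ← hh]; group⟩

theorem irred {W : Subgroup G} (hW : W ≤ AA S) (hN : NA S ≤ normalizer (W : Set G)) : W = ⊥ ∨ W = AA S := by
  refine or_iff_not_imp_left.2 fun h => le_antisymm hW fun a ha => ?_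
  have k : ∀ r, r = 2 ∨ r = 3 → ∀ v w : Vb, v.val ≤ 1023 → w.val ≤ 1023 → zt v.val = zt r → zt w.val = zt r →
      ka S v ∈ W → ka S w ∈ W := fun r hr v w h1 h2 h3 h4 h5 => by
    obtain ⟨n, hn, e⟩ := (orb (S := S) hr).ge ⟨v, by simp [h1, h3], rfl⟩
    obtain ⟨m, hm, e'⟩ := (orb (S := S) hr).ge ⟨w, by simp [h2, h4], rfl⟩
    refine e' ▸ conj_mem_of_mem_norm (hN hm) ((mem_normalizer_iff.1 (hN hn) _).2 (e ▸ h5))
  obtain ⟨⟨x, hx⟩, x1⟩ := ne_bot_iff_exists_ne_one.1 h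
  obtain ⟨v, hv, rfl⟩ := exists_ka (hW hx)
  have h1 := mt ka_eq_one.2 fun e : ka S v = 1 => x1 (Subtype.ext e)
  have h2 := zt_lt v
  have z2 : zt 2 = 1 := by decide +kernel
  have z3 : zt 3 = 2 := by decide +kernel
  have h3 : ka S (Vb.of 2) ∈ W := by
    by_cases h4 : zt v.val = 1
    · exact k 2 (Or.inl rfl) v _ hv (by decide) (by omega) rfl hx
    · rw [show Vb.of 2 = Vb.of 259 + Vb.of 257 by decide, ka_add]
      exact mul_mem
        (k 3 (Or.inr rfl) v _ hv (by decide) (by omega) (by decide +kernel) hx)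
        (k 3 (Or.inr rfl) v _ hv (by decide) (by omega) (by decide +kernel) hx)
  obtain ⟨w, -, rfl⟩ := exists_ka ha
  refine Vb.induction (P := fun w => ka S w ∈ W) (ka_zero (S := S) ▸ one_mem _) (fun i hi => ?_)
    (fun a b ha hb => ka_add (S := S) a b ▸ mul_mem ha hb) w
  by_cases h5 : i < 10
  · exact k 2 (Or.inl rfl) _ _ (by decide) (by clear hi; revert i; decide +kernel) rfl
      (by clear hi; revert i; decide +kernel) h3
  · rw [ka_eq_one.2 (by revert i; decide +kernel)]; exact one_mem _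

variable (S) in
/-- the elements of the normaliser that fix the first `i` basis vectors -/
def Ci (i : ℕ) : Subgroup G := NA S ⊓ centralizer (ka S '' {v | v.val < 2 ^ i})

theorem card_Ci {i : ℕ} (hi : i < 10) :
    Nat.card (Ci S i) ≤ nthD [155, 112, 9, 4, 8, 2, 1, 1, 1, 1] 0 i * Nat.card (Ci S (i + 1)) := by
  have h12 : i < 12 := by omega
  rw [card_eq_cls_mul _ (ka S (Vb.e i)), ← cnt_cand i hi]
  refine Nat.mul_le_mul ?_ (card_le_of_le fun g hg => ⟨hg.1.1, ?_⟩)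
  · refine (Set.ncard_le_ncard ?_).trans (ncard_ka (S := S) fun y =>
      allN (2 ^ i) fun c => Nat.beq (zt (y ^^^ c)) (zt (2 ^ i ^^^ c))).le
    rintro _ ⟨g, hg, rfl⟩
    obtain ⟨y, hy, e⟩ := exists_ka (conj_mem_of_mem_norm hg.1 (ka_mem (Vb.e i)))
    refine ⟨y, ?_, e⟩
    rw [Set.mem_ofPred_eq, Bool.and_eq_true, ble_iff, allN_iff]
    refine ⟨hy, fun c hc => beq_iff.2 ?_⟩
    have h1 : c < 4096 := hc.trans (Nat.pow_lt_pow_right (by decide) h12)
    have h2 := zt_conj (S := S) (g := g) (v := Vb.e i + ⟨c, h1⟩) (w := y + ⟨c, h1⟩) (by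
      rw [ka_add, ka_add, e, ← conj_mul, ← hg.2 _ ⟨⟨c, h1⟩, hc, rfl⟩, mul_inv_cancel_right])
    rw [Vb.val_add, val_e h12] at h2
    exact h2.symm
  · rintro _ ⟨v, hv, rfl⟩
    have h1 : ∀ i < 10, ∀ n < 2 ^ (i + 1), n < 2 ^ i ∨ n ^^^ 2 ^ i < 2 ^ i := by decide +kernel
    rcases h1 i hi _ hv with h | h
    · exact hg.1.2 _ ⟨v, h, rfl⟩
    · have := hg.1.2 _ ⟨v + Vb.e i, by rwa [Set.mem_ofPred_eq, Vb.val_add, val_e h12], rfl⟩
      rwa [ka_add, mul_assoc, ← mem_centralizer_singleton_iff.1 hg.2, ← mul_assoc, ← mul_assoc,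
        mul_left_inj] at this

theorem card_NA_le : Nat.card (NA S) ≤ 1024 * 9999360 := by
  have h0 : Nat.card (NA S) ≤ Nat.card (Ci S 0) := card_le_of_le fun g hg => ⟨hg, by
    rintro _ ⟨v, hv, rfl⟩
    rw [show v = 0 from Vb.ext (Nat.lt_one_iff.1 hv), ka_zero]; simp⟩
  have h1 : Nat.card (Ci S 10) ≤ 1024 := image_ka (S := S).2 ▸ card_le_of_le fun g hg =>
    cent_A10.le fun a ha => by
      obtain ⟨v, hv, rfl⟩ := exists_ka ha
      exact hg.2 _ ⟨v, Nat.lt_succ_of_le hv, rfl⟩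
  have k0 : _ ≤ 155 * _ := card_Ci (S := S) (i := 0) (by decide)
  have k1 : _ ≤ 112 * _ := card_Ci (S := S) (i := 1) (by decide)
  have k2 : _ ≤ 9 * _ := card_Ci (S := S) (i := 2) (by decide)
  have k3 : _ ≤ 4 * _ := card_Ci (S := S) (i := 3) (by decide)
  have k4 : _ ≤ 8 * _ := card_Ci (S := S) (i := 4) (by decide)
  have k5 : _ ≤ 2 * _ := card_Ci (S := S) (i := 5) (by decide)
  have k6 : _ ≤ 1 * _ := card_Ci (S := S) (i := 6) (by decide)
  have k7 : _ ≤ 1 * _ := card_Ci (S := S) (i := 7) (by decide)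
  have k8 : _ ≤ 1 * _ := card_Ci (S := S) (i := 8) (by decide)
  have k9 : _ ≤ 1 * _ := card_Ci (S := S) (i := 9) (by decide)
  simp only [Nat.reduceAdd] at *
  omega

variable (S) in
/-- pairs of an element of the normaliser and a matrix with the same action -/
def Gm : Subgroup (G × SL5) where
  carrier := {x | x.1 ∈ NA S ∧ ∀ v w, x.1 * ka S v * x.1⁻¹ = ka S w → al w = mx x.2 * al v * (mx x.2)ᵀ}
  one_mem' := ⟨one_mem _, fun v w h => by simpa [mx_one] using (al_eq (ka_inj.1 (by simpa using h))).symm⟩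
  mul_mem' := fun {x y} hx hy => ⟨mul_mem hx.1 hy.1, fun v w h => by
    obtain ⟨u, -, e⟩ := exists_ka (conj_mem_of_mem_norm hy.1 (ka_mem v))
    rw [hx.2 u w (by rw [e, ← h, Prod.fst_mul]; group), hy.2 v u e.symm, Prod.snd_mul,
      mx_mul, transpose_mul]
    simp only [Matrix.mul_assoc]⟩
  inv_mem' := fun {x} hx => ⟨inv_mem hx.1, fun v w h => by
    have e : mx x⁻¹.2 * mx x.2 = 1 := by rw [← mx_mul, Prod.snd_inv, inv_mul_cancel, mx_one]
    rw [hx.2 w v (by rw [← h, Prod.fst_inv]; group), Matrix.mul_assoc, Matrix.mul_assoc, ← transpose_mul, e,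
      ← Matrix.mul_assoc, ← Matrix.mul_assoc, e]
    simp⟩

theorem mem_Gm {n : G} {g : SL5} {L : ℕ} (h1 : ∀ v, n * ka S v * n⁻¹ = ka S (hom L v))
    (h2 : ∀ m < 12, alN (col L m) = mx g * alN (2 ^ m) * (mx g)ᵀ) : (n, g) ∈ Gm S :=
  ⟨mem_NA fun v => ⟨_, h1 v⟩, fun v w h => by rw [← al_hom h2, al_eq (ka_inj.1 ((h1 v).symm.trans h))]⟩

theorem nn_mem_Gm {i j : Fin 5} (h : i ≠ j) (h4 : i ≠ 4) :
    (S.th (nn (5 * i + j)), SpecialLinearGroup.transvection h (1 : ZMod 2)) ∈ Gm S :=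
  mem_Gm (th_nn (by omega)) (al_LL i j h h4)

variable (S) in
def p1 : Gm S →* G := (MonoidHom.fst _ _).comp (Gm S).subtype
variable (S) in
def p2 : Gm S →* SL5 := (MonoidHom.snd _ _).comp (Gm S).subtype

theorem p1_inj : Function.Injective (p1 S) := (injective_iff_map_eq_one _).2 fun x h =>
  Subtype.ext (Prod.ext h (Subtype.ext (eq_one_of_al fun v => x.2.2 v v (by
    rw [show x.1.1 = 1 from h]; simp))))

theorem tv_mem {H : Subgroup SL5} {i j : Fin 5} (h : i ≠ j)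
    (h1 : SpecialLinearGroup.transvection h (1 : ZMod 2) ∈ H) (c : ZMod 2) :
    SpecialLinearGroup.transvection h c ∈ H := by
  rcases (by decide : ∀ c : ZMod 2, c = 0 ∨ c = 1) c with rfl | rfl
  · rw [SpecialLinearGroup.transvection_coeff_zero]; exact one_mem _
  · exact h1

theorem p2_surj : Function.Surjective (p2 S) := by
  have h1 : ∀ (i j : Fin 5) (h : i ≠ j), i ≠ 4 → SpecialLinearGroup.transvection h (1 : ZMod 2) ∈ (p2 S).range :=
    fun i j h h4 => ⟨⟨_, nn_mem_Gm h h4⟩, rfl⟩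
  obtain ⟨h, hh⟩ := exists_h (S := S)
  have h2 : SpecialLinearGroup.transvection (by decide : (4 : Fin 5) ≠ 3) (1 : ZMod 2) ∈ (p2 S).range :=
    ⟨⟨_, mem_Gm (g := SpecialLinearGroup.transvection (by decide : (4 : Fin 5) ≠ 3) 1) hh al_L43⟩, rfl⟩
  refine MonoidHom.range_eq_top.1 (H9.sl_subgroup_eq_top_of_transvection _ fun i j hij => tv_mem hij ?_)
  by_cases h4 : i = 4
  · subst h4
    by_cases h3 : j = 3
    · subst h3; exact h2
    · have h5 := h1 3 j (Ne.symm h3) (by decide)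
      have h6 := H9.commutator_transvection hij (by decide) (Ne.symm h3) (1 : ZMod 2) 1
      rw [one_mul] at h6
      rw [← h6]
      exact mul_mem (mul_mem (mul_mem h2 h5) (inv_mem h2)) (inv_mem h5)
  · exact h1 i j hij h4

theorem map_ker : (p2 S).ker.map (p1 S) = AA S := by
  ext a
  refine ⟨?_, fun ha => ⟨⟨(a, 1), le_normalizer ha, fun v w h => ?_⟩, rfl, rfl⟩⟩
  · rintro ⟨x, hx, rfl⟩
    refine cent_A10.le fun b hb => ?_
    obtain ⟨v, hv, rfl⟩ := exists_ka hb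
    obtain ⟨w, hw, e⟩ := exists_ka (conj_mem_of_mem_norm x.2.1 hb)
    have h1 := x.2.2 v w e.symm
    rw [show x.1.2 = 1 from hx, mx_one, Matrix.one_mul, transpose_one, Matrix.mul_one] at h1
    have h2 : ∀ n < 1024, alN n = 0 → n = 0 := by decide +kernel
    obtain rfl : w = v := Vb.add_eq_zero'.1 (Vb.ext (h2 _ (Nat.xor_lt_two_pow (n := 10) (Nat.lt_succ_of_le hw)
      (Nat.lt_succ_of_le hv)) ((al_add w v).trans (by rw [h1, ZModModule.add_self]))))
    exact mul_inv_eq_iff_eq_mul.1 e.symm |>.symm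
  · rw [← cent_A10.ge ha _ (ka_mem v), mul_inv_cancel_right] at h
    simpa [mx_one] using (al_eq (ka_inj.1 h)).symm

theorem range_p1 : (p1 S).range = NA S := by
  refine eq_of_le_of_card_ge (by rintro _ ⟨x, rfl⟩; exact x.2.1) (card_NA_le.trans ?_)
  rw [MonoidHom.range_eq_map, card_map_of_injective p1_inj, card_eq_ker_mul_map (p2 S), top_inf_eq,
    ← card_map_of_injective p1_inj, map_ker, image_ka.2, map_top_of_surjective _ p2_surj, card_top, card_SL5]

theorem exists_compl : ∃ B : Subgroup G, B ≤ NA S ∧ B ⊓ AA S = ⊥ ∧ B ⊔ AA S = NA S ∧ Nonempty (B ≃* SL5) := by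
  have hK : Nat.card (p2 S).ker = 1024 := by rw [← card_map_of_injective p1_inj, map_ker, image_ka.2]
  have : IsMulCommutative (p2 S).ker := ⟨⟨fun a b => Subtype.ext (p1_inj (by
    rw [coe_mul, coe_mul, map_mul, map_mul]
    exact comm_of_mul_self (fun _ => A10_sq) (map_ker.le ⟨_, a.2, rfl⟩) (map_ker.le ⟨_, b.2, rfl⟩)))⟩⟩
  have hU : Nat.card (H62.UT 5 (ZMod 2)) = 1024 := by rw [H62.card_UT, Nat.card_zmod]; rfl
  have hi : ((H62.UT 5 (ZMod 2)).comap (p2 S)).index = 9765 := by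
    have := (H62.UT 5 (ZMod 2)).card_mul_index
    rw [index_comap_of_surjective _ p2_surj]
    rw [hU, card_SL5] at this; omega
  set C := (S.im (H63.pcS pc ⊥ 10)).comap (p1 S) ⊓ (H62.UT 5 (ZMod 2)).comap (p2 S)
  have h1 : H62.UT 5 (ZMod 2) ≤ C.map (p2 S) := H62.UT_le_of_transvection fun i j hij => tv_mem hij.ne (by
    obtain ⟨l, hl, e⟩ : ∃ l < 10, nthD [4, 9, 3, 14, 8, 2, 19, 13, 7, 1] 0 l = 5 * i + j := by
      revert i j; decide +kernel
    have h4 : i ≠ 4 := by omega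
    exact ⟨⟨_, nn_mem_Gm hij.ne h4⟩, ⟨(th_mem_im (nn_facts (by omega)).2.1).2 (e ▸ H63.mem_pcS (t := pc) hl),
      H62.transvection_mem_UT hij 1⟩, rfl⟩)
  have h2 : Nat.card C ≤ 1024 := by
    rw [← card_map_of_injective p1_inj]
    refine (card_le_of_le ((map_mono inf_le_left).trans (map_comap_le _ _))).trans ?_
    rw [card_im (A := H63.pcS pc ⊥ 10) (sup_le ((closure_le _).2 ?_) bot_le)]
    · exact Nat.le_of_dvd (by decide) card_pc
    · rintro _ ⟨l, hl : l < 10, rfl⟩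
      exact (nn_facts (by revert l; decide +kernel)).2.1
  have h3 := card_le_of_le h1
  have h4 := card_eq_ker_mul_map (p2 S) C
  obtain ⟨H, hH⟩ := S0051.result (p2 S).ker ((H62.UT 5 (ZMod 2)).comap (p2 S)) (ker_le_comap _ _)
    (by rw [hK, hi]; decide) C inf_le_right ((card_le_one_iff_eq_bot _).1 (by rw [hU] at h3; nlinarith))
    (le_antisymm (sup_le (ker_le_comap _ _) inf_le_right) ((comap_mono h1).trans (by
      rw [comap_map_eq, sup_comm])))
  refine ⟨H.map (p1 S), range_p1 (S := S) ▸ map_le_range _ _, ?_, ?_, ⟨(equivMapOfInjective _ _ p1_inj).symm.trans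
    (hH.symm.QuotientMulEquiv.symm.trans (QuotientGroup.quotientKerEquivOfSurjective _ p2_surj))⟩⟩
  · rw [← map_ker, ← map_inf _ _ _ p1_inj, hH.symm.disjoint.eq_bot, Subgroup.map_bot]
  · rw [← range_p1, ← map_ker, ← Subgroup.map_sup, hH.symm.sup_eq_top, MonoidHom.range_eq_map]

theorem exists_eq_cj {A : Subgroup G} (hA : IsElementaryAbelian 2 A) (hc : Nat.card A = 2 ^ 10)
    (hs : centralizer (A : Set G) = A) : ∃ g, A = cj g (AA S) := by
  obtain ⟨g, hg⟩ := exists_cj_le (S := S.toSetup1) hA hc hs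
  refine ⟨g⁻¹, eq_of_le_of_card_ge (cj_le_iff_le_cj_inv.1 hg) ?_⟩
  rw [card_cj, image_ka.2, hc]; rfl

end Cfsg.Agent.H80.J4A
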