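/-
Project SGJ4, the subgroup 2^10: totally singular planes and the elementary abelian subgroups of
order 2^10 of the centraliser of `z`.
-/
import Cfsg.Agent.SGJ4.MainB
import Cfsg.Agent.H72.Mod

set_option autoImplicit false

namespace Cfsg.Agent.H80.J4A

open Cfsg.Agent.H14 Cfsg.Agent.H70 Cfsg.Agent.SGJ4 Subgroup AG

theorem two_le {K L : AddSubgroup Vb} (h : K < L) : 2 * Nat.card K ≤ Nat.card L := by
  obtain ⟨c, hc⟩ := AddSubgroup.card_dvd_of_le h.le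
  have h1 : Nat.card K < Nat.card L := not_le.1 fun e => h.ne (AddSubgroup.eq_of_le_of_card_ge h.le e)
  rw [hc, mul_comm] at *
  rcases c with _ | _ | c
  · omega
  · omega
  · exact Nat.mul_le_mul_left _ (by omega)

theorem four_le {K L : AddSubgroup Vb} (h : K ≤ L) {a b : Vb} (ha : a ∈ L) (hb : b ∈ L) (h1 : a ∉ K)
    (h2 : b ∉ K) (h3 : a + b ∉ K) : 4 * Nat.card K ≤ Nat.card L := by
  let M : AddSubgroup Vb :=
    { carrier := {v | v ∈ K ∨ a + v ∈ K}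
      zero_mem' := Or.inl K.zero_mem
      add_mem' := by
        rintro v w (hv | hv) (hw | hw)
        · exact Or.inl (K.add_mem hv hw)
        · exact Or.inr (add_left_comm a v w ▸ K.add_mem hv hw)
        · exact Or.inr (add_assoc a v w ▸ K.add_mem hv hw)
        · exact Or.inl (by simpa only [add_add_add_comm a v, Vb.add_self, zero_add] using K.add_mem hv hw)
      neg_mem' := fun h => h }
  have k1 : K < M := lt_of_le_of_ne (fun _ hv => Or.inl hv) fun e =>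
    h1 (e ▸ Or.inr (by rw [Vb.add_self]; exact K.zero_mem))
  have k2 : M < L := lt_of_le_of_ne (fun v hv => hv.elim (fun hv => h hv) fun hv =>
    Vb.add_add_cancel a v ▸ L.add_mem ha (h hv)) fun e => (e.ge hb).elim h2 h3
  have := two_le k1
  have := two_le k2
  omega

/-- invariant under the scalar of order 3 -/
def Om (K : AddSubgroup Vb) : Prop := ∀ v ∈ K, om.m v ∈ K

theorem Om.inf {K L : AddSubgroup Vb} (h1 : Om K) (h2 : Om L) : Om (K ⊓ L) :=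
  fun v hv => ⟨h1 v hv.1, h2 v hv.2⟩

theorem eq_of_om {K L : AddSubgroup Vb} (h : K ≤ L) (h1 : Om K) (h2 : Om L)
    (hc : Nat.card L < 4 * Nat.card K) : K = L := by
  by_contra e
  obtain ⟨x, hx, h3⟩ := SetLike.exists_of_lt (lt_of_le_of_ne h e)
  exact hc.not_ge (four_le h hx (h2 x hx) h3 (fun k => h3 (om_cube x ▸ h1 _ (h1 _ k)))
    fun k => h3 (om_cube x ▸ h1 _ (by rwa [om_om])))

/-- fixed vectors -/
def Fx (a : AG) : AddSubgroup Vb := a.m.toAddMonoidHom.eqLocus (AddMonoidHom.id _)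
theorem mem_Fx {a : AG} {v : Vb} : v ∈ Fx a ↔ a.m v = v := Iff.rfl
theorem om_Fx {a : AG} (ha : a ∈ Hb) (hi : Inner a) : Om (Fx a) := fun v hv =>
  (inner_m ha hi v).trans (congrArg om.m hv)

/-- fixed vectors of a packed matrix -/
def fxM (M : ℕ) : AddSubgroup Vb := (hom M).eqLocus (AddMonoidHom.id _)
theorem mem_fxM {M : ℕ} {v : Vb} : v ∈ fxM M ↔ ap M v.val = v.val := Vb.val_inj.symm
theorem card_fxM (M : ℕ) : Nat.card (fxM M) = cnt2 64 64 fun n => Nat.beq (ap M n) n :=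
  Vb.ncard_eq (fun v => v ∈ fxM M) _ fun _ => by rw [beq_iff, mem_fxM]
theorem fix_fxM {M : ℕ} {a : AG} (h : mm (cA (cd a)) M = M) {v : Vb} (hv : v ∈ fxM M) : a.m v = v :=
  Vb.ext (by rw [val_m, ← mem_fxM.1 hv, ← ap_mm, h])

def perp (A : AddSubgroup Vb) : AddSubgroup Vb where
  carrier := {w | ∀ v ∈ A, B v w = 0}
  zero_mem' := fun v _ => B_zero_right v
  add_mem' := fun h1 h2 v hv => by rw [B_add_right, h1 v hv, h2 v hv, add_zero]
  neg_mem' := fun h => h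

theorem card_perp (A : AddSubgroup Vb) : Nat.card A * Nat.card (perp A) = 4096 :=
  card_mul_card_perp A _ fun _ => Iff.rfl

theorem iso_of_q {A : AddSubgroup Vb} (h : ∀ v ∈ A, q v = 0) : A ≤ perp A := fun w hw v hv => by
  rw [B, h _ (A.add_mem hv hw), h v hv, h w hw]; rfl

/-- totally singular planes -/
structure Pl (P : AddSubgroup Vb) : Prop where
  om : Om P
  q0 : ∀ v ∈ P, q v = 0
  card : Nat.card P = 64

theorem Pl.perp_eq {P : AddSubgroup Vb} (h : Pl P) : P = perp P :=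
  AddSubgroup.eq_of_le_of_card_ge (iso_of_q h.q0) (by
    have := card_perp P; rw [h.card] at *; omega)

/-- the elements that act trivially on `P` with translation part in `P` -/
def AP (P : AddSubgroup Vb) : Subgroup AG where
  carrier := {a | a ∈ Hb ∧ a.v ∈ P ∧ ∀ y ∈ P, a.m y = y}
  one_mem' := ⟨Hb.one_mem, P.zero_mem, fun _ _ => rfl⟩
  mul_mem' := fun {a b} ha hb => ⟨Hb.mul_mem ha.1 hb.1, by
    rw [mul_v, ha.2.2 _ hb.2.1]; exact P.add_mem ha.2.1 hb.2.1, fun y hy => by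
    rw [mul_m, hb.2.2 y hy, ha.2.2 y hy]⟩
  inv_mem' := fun {a} ha => by
    have k : ∀ y ∈ P, a⁻¹.m y = y := fun y hy => by conv_lhs => rw [← ha.2.2 y hy, inv_m_m]
    exact ⟨Hb.inv_mem ha.1, by rw [inv_v', k _ ha.2.1]; exact ha.2.1, k⟩

theorem tr_mem_AP {P : AddSubgroup Vb} {v : Vb} : tr v ∈ AP P ↔ v ∈ P :=
  ⟨fun h => h.2.1, fun h => ⟨tr_mem_Hb v, h, fun _ _ => rfl⟩⟩

theorem Pl.inner {P : AddSubgroup Vb} (h : Pl P) {a : AG} (ha : a ∈ AP P) : Inner a := by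
  by_contra hi
  have : P = ⊥ := (AddSubgroup.eq_bot_iff_forall _).2 fun v hv =>
    eq_zero_of_outer ha.1 hi (ha.2.2 v hv) (ha.2.2 _ (h.om v hv))
  simpa [this] using h.card

theorem Pl.lin_sq {P : AddSubgroup Vb} (h : Pl P) {a : AG} (ha : a ∈ AP P) : lin a * lin a = 1 :=
  eq_one_of_m (X.mul_mem ha.1 ha.1) fun w => by
    have := ha.2.2 (w + a.m w) (h.perp_eq.ge fun v hv => by
      rw [B_add_right, ← B_m ha.1 v w, ha.2.2 v hv, z2_add_self])
    rw [map_add, add_comm w, add_right_inj] at this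
    exact this

def SP1 : ℕ := nat_lit 0xa3b63a0001090a1051000000000007000000
def SP2 : ℕ := nat_lit 0x81448f21419400005603c000000000000000
def SR : ℕ := nat_lit 0xa3c69b0001a8000056000000000000000000

theorem pl_of {M : ℕ} (h : all2 64 64 (fun n => bimp (Nat.beq (ap M n) n) (force (ap (cA cw3) n) fun m =>
    Nat.beq (ap M m) m && Nat.ble (ty n) 2)) = true) (hc : cnt2 64 64 (fun n => Nat.beq (ap M n) n) = 64) :
    Pl (fxM M) := by
  have k := fun v (hv : v ∈ fxM M) => bimp_iff.1 (all2_iff.1 h _ v.lt) (beq_iff.2 (mem_fxM.1 hv))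
  simp only [force_eq, Bool.and_eq_true, beq_iff, ble_iff, ← cd_om, ← val_m] at k
  exact ⟨fun v hv => mem_fxM.2 (k v hv).1, fun v hv => q_eq_zero.2 (by have := (k v hv).2; omega),
    (card_fxM M).trans hc⟩

theorem pl1 : Pl (fxM SP1) := pl_of (by decide +kernel) (by decide +kernel)
theorem pl2 : Pl (fxM SP2) := pl_of (by decide +kernel) (by decide +kernel)
theorem pl0 : Pl Wb := ⟨fun _ => om_mem_Wb, q_Wb, card_Wb⟩
theorem card_R : Nat.card (fxM SR) = 16 := (card_fxM _).trans (by decide +kernel)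

theorem R_facts {v : Vb} (hv : v ∈ fxM SR) : om.m v ∈ fxM SR ∧ v ∈ Wb ∧ v ∈ fxM SP1 ∧ v ∈ fxM SP2 ∧
    ∀ w, u0.m w = w → B v w = 0 := by
  have h : all2 64 64 (fun n => bimp (Nat.beq (ap SR n) n) (force (ap (cA cw3) n) fun m =>
      Nat.beq (ap SR m) m && Nat.beq (bt WT n) 1 && Nat.beq (ap SP1 n) n && Nat.beq (ap SP2 n) n &&
      anyL [0, 1, 2, 3, 8, 9, 10, 11, 16, 17, 18, 19, 24, 25, 26, 27] fun x =>
        Nat.beq (x ^^^ ap (cA (nthD gH cone 7)) x) n)) = true := by decide +kernel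
  have k := bimp_iff.1 (all2_iff.1 h _ v.lt) (beq_iff.2 (mem_fxM.1 hv))
  simp only [force_eq, Bool.and_eq_true, beq_iff, ← cd_om, ← val_m, anyL_iff, ← cd_eH] at k
  obtain ⟨⟨⟨⟨k1, k2⟩, k3⟩, k4⟩, x, hx, e⟩ := k
  refine ⟨mem_fxM.2 k1, mem_Wb.2 k2, mem_fxM.2 k3, mem_fxM.2 k4, fun w hw => ?_⟩
  have h1 : x < 4096 := by clear e; revert x; decide
  rw [show v = ⟨x, h1⟩ + u0.m ⟨x, h1⟩ from Vb.ext (by rw [← e, Vb.val_add, val_m]; rfl), B_add_left,
    ← B_m (X_le_Hb u0_mem) _ w, hw, z2_add_self]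

theorem plane_cases {v : Vb} (h1 : u0.m v = v) (h2 : q v = 0) : v ∈ Wb ∨ v ∈ fxM SP1 ∨ v ∈ fxM SP2 := by
  have h : all2 64 64 (fun n => bimp (Nat.beq (ap (cA (nthD gH cone 7)) n) n) (Nat.beq (ty n) 3 ||
      Nat.beq (bt WT n) 1 || Nat.beq (ap SP1 n) n || Nat.beq (ap SP2 n) n)) = true := by decide +kernel
  have k := bimp_iff.1 (all2_iff.1 h _ v.lt) (beq_iff.2 (by rw [← cd_eH, ← val_m]; exact congrArg _ h1))
  simp only [Bool.or_eq_true, beq_iff, ← mem_Wb, ← mem_fxM, or_assoc] at k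
  exact k.resolve_left (q_eq_zero.1 h2)

theorem u0_sq : u0 * u0 = 1 := u0_eq ▸ Ub_mul_self (ub_mem (by decide))
theorem u0_ne : u0 ≠ 1 := u0_eq ▸ mt (ub_eq_one (by decide)).1 (by decide)
theorem u0_mem_AP : u0 ∈ AP (fxM SP1) := ⟨X_le_Hb u0_mem, v_of_mem_X _ u0_mem ▸ zero_mem _,
  fun _ => fix_fxM (by rw [u0, cd_eH]; decide +kernel)⟩

theorem conj_AP {a : AG} (ha : a ∈ AP (fxM SP2)) : eH 9 * a * (eH 9)⁻¹ ∈ AP (fxM SP1) := by
  have hx : eH 9 ∈ X := (inS_gH_X 9 (by decide)).ofC_mem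
  have h : all2 64 64 (fun n => force (ap (cA (nthD gH cone 9)) n) fun m =>
      Nat.beq (ap SP1 m) m == Nat.beq (ap SP2 n) n) = true := by decide +kernel
  have k : ∀ v, (eH 9).m v ∈ fxM SP1 ↔ v ∈ fxM SP2 := fun v => by
    have := all2_iff.1 h _ v.lt
    rw [force_eq, beq_iff_eq, ← cd_eH, ← val_m] at this
    rw [mem_fxM, mem_fxM, ← beq_iff, this, beq_iff]
  refine ⟨mul_mem (mul_mem (X_le_Hb hx) ha.1) (inv_mem (X_le_Hb hx)), ?_, fun y hy => ?_⟩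
  · rw [mul_v, mul_v, v_of_mem_X _ hx, v_of_mem_X _ (inv_mem hx), map_zero, add_zero, zero_add, k]
    exact ha.2.1
  · rw [mul_m, mul_m, ha.2.2 _ ((k _).1 (by rwa [m_inv_m])), m_inv_m]

/-- the model version of the classification -/
theorem exists_plane {A : Subgroup AG} (hA : A ≤ Hb) (h2 : ∀ a ∈ A, a * a = 1) (hq : ∀ v ∈ trP A, q v = 0)
    (hB : ∀ a ∈ A, Inner a → a.v ∈ perp (trP A)) (hc : Nat.card A = 512) (hu : u0 ∈ A.map lin) :
    A ≤ AP Wb ∨ A ≤ AP (fxM SP1) ∨ A ≤ AP (fxM SP2) := by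
  have c1 := card_eq_trP_mul A
  have c2 := card_le_of_isotropic _ fun v hv w hw => iso_of_q hq hw v hv
  set F := A.map lin
  set Y := trP A
  have hx : F ≤ X := by rintro _ ⟨a, ha, rfl⟩; exact lin_mem_X (hA ha)
  have h3 : ∀ a ∈ F, a * a = 1 := by rintro _ ⟨a, ha, rfl⟩; exact lin_mul_self (h2 a ha)
  have hy : F ≤ Yb := fun a ha => mem_Yb_of_comm (X_le_Hb (hx ha)) (congrArg AG.p (comm_of_mul_self h3 ha hu))
  have h4 : ∀ a ∈ F, Y ≤ Fx a := by
    rintro _ ⟨a, ha, rfl⟩ v hv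
    have := conj_tr a v
    rw [comm_of_mul_self h2 ha hv, mul_inv_cancel_right, tr_inj] at this
    exact this.symm
  have c3 := Nat.le_of_dvd (by decide) (card_inner_dvd (inf_le_left.trans hx) (inf_le_left.trans hy)
    inf_le_right fun a ha => h3 a ha.1).1
  have c5 := card_le_two_mul_inner (hx.trans X_le_Hb)
  obtain ⟨u, hu1, u1, u2⟩ : ∃ u ∈ F ⊓ SGJ4.Inn, u ≠ 1 ∧ u ≠ u0 := by
    obtain ⟨a, ha, b, hb, a1, b1, e⟩ := exists_two_ne_one (F ⊓ SGJ4.Inn) (by nlinarith)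
    by_cases h : a = u0
    exacts [⟨b, hb, b1, h ▸ e.symm⟩, ⟨a, ha, a1, h⟩]
  have o0 := om_Fx (X_le_Hb u0_mem) inner_u0
  have oD := o0.inf (om_Fx (X_le_Hb (hx hu1.1)) hu1.2)
  have hY : Y ≤ Fx u0 ⊓ Fx u := le_inf (h4 _ hu) (h4 _ hu1.1)
  set D := Fx u0 ⊓ Fx u
  have c6 : Nat.card D ≤ 64 := not_lt.1 fun h => u2 (eq_of_fix u0_mem (hx hu1.1) inner_u0 hu1.2 u0_sq
    (h3 u hu1.1) u0_ne u1 fun v hv => ((eq_of_om (K := D) inf_le_left oD o0 (by
      rw [show Nat.card (Fx u0) = 256 from ncard_fix_inner u0_mem inner_u0 u0_sq u0_ne]; omega)).ge hv).2).symm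
  have h5 : F ≤ SGJ4.Inn := fun l hl => by
    by_contra h
    have := sq_le_ncard Y (fun v h1 h2 => eq_zero_of_outer (X_le_Hb (hx hl)) h (h4 l hl h1) (h4 l hl h2))
      (S := D) fun v h1 w h2 => D.add_mem (hY h1) (oD _ (hY h2))
    have h6 : Nat.card Y ≤ 8 := by change _ ≤ Nat.card D at this; nlinarith
    nlinarith
  rw [inf_eq_left.2 h5] at c3
  have c7 : 32 ≤ Nat.card Y := by nlinarith
  have oR : Om (fxM SR) := fun v hv => (R_facts hv).1
  have hR : fxM SR ≤ D := by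
    have h6 := H72.card_sup_mul_card_inf_add Y (fxM SR)
    have h7 := card_le_of_isotropic (Y ⊔ fxM SR) fun v hv w hw => by
      obtain ⟨v1, a1, v2, a2, rfl⟩ := AddSubgroup.mem_sup.1 hv
      obtain ⟨w1, b1, w2, b2, rfl⟩ := AddSubgroup.mem_sup.1 hw
      rw [B_add_left, B_add_right, B_add_right, iso_of_q hq b1 _ a1, B_comm v1, (R_facts b2).2.2.2.2 _ (hY a1).1,
        (R_facts a2).2.2.2.2 _ (hY b1).1, iso_of_q q_Wb (R_facts b2).2.1 _ (R_facts a2).2.1]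
      rfl
    have h8 := AddSubgroup.card_le_of_le (inf_le_inf_right (fxM SR) hY)
    rw [card_R] at h6
    exact inf_eq_right.1 (eq_of_om inf_le_right (oD.inf oR) oR (by rw [card_R]; nlinarith))
  obtain ⟨y, hy1, hy2⟩ : ∃ y ∈ Y, y ∉ fxM SR := SetLike.not_le_iff_exists.1 fun h => by
    have := AddSubgroup.card_le_of_le h
    rw [card_R] at this; omega
  suffices k : ∀ P, Pl P → fxM SR ≤ P → y ∈ P → A ≤ AP P by
    rcases plane_cases (hY hy1).1 (hq y hy1) with h | h | h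
    exacts [Or.inl (k _ pl0 (fun _ h => (R_facts h).2.1) h),
      Or.inr (Or.inl (k _ pl1 (fun _ h => (R_facts h).2.2.1) h)),
      Or.inr (Or.inr (k _ pl2 (fun _ h => (R_facts h).2.2.2.1) h))]
  intro P hP p1 p2
  have c8 : 64 ≤ Nat.card ↥(D ⊓ P) := not_lt.1 fun h => hy2 ((eq_of_om (le_inf hR p1) oR (oD.inf hP.om)
    (by rw [card_R]; omega)).ge ⟨hY hy1, p2⟩)
  have hD : D = P := (AddSubgroup.eq_of_le_of_card_ge inf_le_left (c6.trans c8)).symm.trans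
    (AddSubgroup.eq_of_le_of_card_ge inf_le_right (hP.card.le.trans c8))
  have h6 : ∀ a ∈ A, ∀ v ∈ P, a.m v = v := fun a ha v hv => by
    have h7 : lin a ∈ F := ⟨a, ha, rfl⟩
    have h8 := AddSubgroup.card_le_of_le (le_inf (h4 _ h7) (hY.trans hD.le))
    exact ((eq_of_om inf_le_right ((om_Fx (X_le_Hb (hx h7)) (h5 h7)).inf hP.om) hP.om (by
      rw [hP.card]; omega)).ge hv).1
  refine fun a ha => ⟨hA ha, by_contra fun h7 => ?_, h6 a ha⟩
  have h8 : ∀ b ∈ A, b.v ∈ perp Y := fun b hb => hB b hb (h5 (x := lin b) ⟨b, hb, rfl⟩)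
  have h9 : ∀ b ∈ A, b.v ∈ P → b.m a.v = a.v := fun b hb h => by
    have := congrArg AG.v (comm_of_mul_self h2 ha hb)
    rwa [mul_v, mul_v, h6 a ha _ h, add_comm, add_right_inj, eq_comm] at this
  have h10 : ∀ b ∈ A, b.m a.v = a.v := fun b hb => by
    by_cases h : b.v ∈ P
    · exact h9 b hb h
    refine a.m.injective ((h9 _ (mul_mem ha hb) (by_contra fun h11 => ?_)).trans (fix_of_mul_self (h2 a ha)).symm)
    have h12 := four_le (L := perp Y) (b := a.m b.v) (fun v hv w hw => hP.perp_eq.le hv w (hD.le (hY hw)))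
      (h8 a ha) (by simpa only [mul_v, Vb.add_add_cancel] using add_mem (h8 a ha) (h8 _ (mul_mem ha hb))) h7
      (fun k => h (by rwa [a.m.injective (h6 a ha _ k)] at k)) h11
    have := card_perp Y
    rw [hP.card] at h12
    nlinarith
  obtain ⟨b, hb, e1⟩ := hu
  obtain ⟨c, hc, e2⟩ := hu1.1
  exact h7 (hD.le ⟨by rw [← e1]; exact h10 b hb, by rw [← e2]; exact h10 c hc⟩)

variable {G : Type*} [Group G] {S : Setup1 G}

open Setup1

theorem Pl.sq {P : AddSubgroup Vb} (h : Pl P) {g : G} (hg : g ∈ S.pre (AP P)) : g * g = 1 := by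
  obtain ⟨hg, h1⟩ := mem_pre.1 hg
  obtain ⟨f, hf, l, hl, e1, e2, e⟩ := decomp hg
  have hi : Inner (S.pi l) := e2 ▸ inner_lin.2 (h.inner h1)
  have c1 := cent_of_fix hl (e2 ▸ h1.1) hi hf e1 (e2 ▸ h1.2.2 _ h1.2.1)
  have c2 := inner_lift hl (e2 ▸ h1.1) hi (e2 ▸ h.lin_sq h1)
  have c3 := sq_of_pi hf e1
  rw [h.q0 _ h1.2.1, zp_zero] at c3
  rw [e, mul_assoc, ← mul_assoc l, c1, mul_assoc, c2, mul_one, c3]

theorem B_of_comm {g e : G} (hg : g ∈ S.H) (he : e ∈ S.H) {v : Vb} (ev : S.pi e = tr v)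
    (hi : Inner (S.pi g)) (h : g * e = e * g) : (S.pi g).m v = v ∧ B v (S.pi g).v = 0 := by
  have h1 := pi_conj_tr hg he ev
  rw [h, mul_inv_cancel_right, ev, tr_inj] at h1
  obtain ⟨f, hf, l, hl, e1, e2, e3⟩ := decomp hg
  have c1 := cent_of_fix hl (e2 ▸ pi_mem g) (e2 ▸ hi) he ev (e2 ▸ h1.symm)
  rw [e3, mul_assoc, c1, ← mul_assoc, ← mul_assoc, mul_left_inj] at h
  exact ⟨h1.symm, B_eq_zero_of_comm he hf ev e1 h.symm⟩

theorem Pl.cent {P : AddSubgroup Vb} (h : Pl P) : centralizer (S.pre (AP P) : Set G) = S.pre (AP P) := by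
  refine le_antisymm (fun g hg => ?_) fun g hg a ha => comm_of_mul_self (fun _ => h.sq) ha hg
  have h1 : g ∈ S.H := S.mem_H.2 (hg _ (z_mem_pre _)).symm
  have h2 : ∀ v ∈ P, ∃ e ∈ S.H, S.pi e = tr v ∧ g * e = e * g := fun v hv =>
    let ⟨e, he, ev⟩ := exists_tr (S := S) v
    ⟨e, he, ev, (hg e (mem_pre.2 ⟨he, ev ▸ tr_mem_AP.2 hv⟩)).symm⟩
  have h3 : ∀ v ∈ P, (S.pi g).m v = v := fun v hv => by
    obtain ⟨e, he, ev, h4⟩ := h2 v hv
    have := pi_conj_tr h1 he ev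
    rwa [h4, mul_inv_cancel_right, ev, tr_inj, eq_comm] at this
  have hi : Inner (S.pi g) := h.inner (a := lin (S.pi g)) ⟨X_le_Hb (pi_mem g), P.zero_mem, h3⟩
  exact mem_pre.2 ⟨h1, pi_mem g, h.perp_eq.ge fun v hv =>
    let ⟨_, he, ev, h4⟩ := h2 v hv; (B_of_comm h1 he ev hi h4).2, h3⟩

variable (S) in
/-- the elementary abelian subgroup of order 2^10 -/
def A10 : Subgroup G := S.pre (AP (fxM SP1))

theorem A10_sq {g : G} (h : g ∈ A10 S) : g * g = 1 := pl1.sq h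
theorem cent_A10 : centralizer (A10 S : Set G) = A10 S := pl1.cent
theorem A10_ea : IsElementaryAbelian 2 (A10 S) :=
  ⟨⟨⟨fun a b => Subtype.ext (comm_of_mul_self (fun _ => A10_sq) a.2 b.2)⟩⟩, fun _ h => by rw [sq, A10_sq h]⟩

variable [Finite G]

theorem card_A10_le : Nat.card (A10 S) ≤ 1024 := by
  have h1 : (AP (fxM SP1)).map lin ≤ X := by rintro _ ⟨a, ha, rfl⟩; exact ha.1
  have h2 : ∀ a ∈ (AP (fxM SP1)).map lin, a * a = 1 := by rintro _ ⟨a, ha, rfl⟩; exact pl1.lin_sq ha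
  have h3 : (AP (fxM SP1)).map lin ≤ Yb := fun a ha => mem_Yb_of_comm (X_le_Hb (h1 ha))
    (congrArg AG.p (comm_of_mul_self h2 ha ⟨u0, u0_mem_AP, lin_of_mem_X u0_mem⟩))
  have h4 := (card_inner_dvd h1 h3 (by rintro _ ⟨a, ha, rfl⟩; exact inner_lin.2 (pl1.inner ha)) h2).1
  have h5 := card_eq_trP_mul (AP (fxM SP1))
  rw [show trP (AP (fxM SP1)) = fxM SP1 from AddSubgroup.ext fun _ => tr_mem_AP, pl1.card] at h5
  have h6 := card_pre (S := S) (A := AP (fxM SP1)) fun _ h => h.1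
  have h7 : Nat.card (A10 S) ≠ 2 ^ 11 := fun e => by
    obtain ⟨g, hg, eg⟩ := exists_tr (S := S) (Vb.of 7)
    have := (mem_V1.1 ((eq_V1_of_le_Y1 (pre_mono fun a ha => lin_mem_Yb.1 (h3 ⟨a, ha, rfl⟩)) A10_ea e).le
      (mem_pre.2 ⟨hg, eg ▸ tr_mem_AP.2 (mem_fxM.2 (by decide +kernel))⟩))).2
    rw [eg, tr_mem_VB, mem_Wb] at this
    exact absurd this (by decide +kernel)
  rw [A10] at *
  have := Nat.le_of_dvd (by decide) h4
  generalize Nat.card ((AP (fxM SP1)).map lin) = n at *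
  interval_cases n <;> omega

theorem exists_cj_le {A : Subgroup G} (hA : IsElementaryAbelian 2 A) (hc : Nat.card A = 2 ^ 10)
    (hs : centralizer (A : Set G) = A) : ∃ g, cj g A ≤ A10 S := by
  have key : ∀ A : Subgroup G, (∀ a ∈ A, a * a = 1) → Nat.card A = 2 ^ 10 → centralizer (A : Set G) = A →
      A ≤ S.H → (Nat.card (S.bar A) = 512 ∧ ∀ v ∈ trP (S.bar A), q v = 0) ∧
        (u0 ∈ (S.bar A).map lin → ∃ g, cj g A ≤ A10 S) := fun A h2 hc hs hH => by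
    have hz : S.z ∈ A := hs.le fun a ha => S.mem_H.1 (hH ha)
    have c1 : Nat.card (S.bar A) = 512 := by have := card_of_z_mem hH hz; omega
    have hq : ∀ v ∈ trP (S.bar A), q v = 0 := fun v hv => by
      obtain ⟨g, h1, h3, e⟩ := mem_bar.1 hv
      rw [← zp_eq_one S.z_ne_one, ← sq_of_pi h3 e, h2 g h1]
    refine ⟨⟨c1, hq⟩, fun hu => ?_⟩
    have k : ∀ P, S.bar A ≤ AP P → A ≤ S.pre (AP P) := fun P h a ha => mem_pre.2 ⟨hH ha, h (pi_mem_bar ha (hH ha))⟩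
    rcases exists_plane (bar_le_Hb A) (fun b hb => by
        obtain ⟨g, h1, h3, rfl⟩ := mem_bar.1 hb; rw [← pi_mul h3 h3, h2 g h1, pi_one]) hq
      (fun b hb hi v hv => by
        obtain ⟨g, h1, h3, rfl⟩ := mem_bar.1 hb
        obtain ⟨e, h4, h5, ev⟩ := mem_bar.1 hv
        exact (B_of_comm h3 h5 ev hi (comm_of_mul_self h2 h1 h4)).2) c1 hu with h | h | h
    · have h3 : S.V1 ≤ A := fun g hg => hs.le fun a ha => comm_of_mul_self (fun _ => pl0.sq) (k _ h ha)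
        (pre_mono (A' := AP Wb) (fun b hb => ⟨VB_le_Hb hb, hb.1, fun _ => Ub_fix (a := lin b) hb.2⟩) hg)
      have := card_le_of_le h3
      rw [card_V1, hc] at this; omega
    · exact ⟨1, by simpa [A10] using k _ h⟩
    · obtain ⟨x, hx, e⟩ := exists_pi (S := S) (eH_mem 9)
      exact ⟨x, cj_le_iff.2 fun a ha => mem_pre.2 ⟨conj_mem_H hx (hH ha), by
        rw [pi_conj hx (hH ha), e]; exact conj_AP (h (pi_mem_bar ha (hH ha)))⟩⟩
  have k2 : ∀ g, (∀ a ∈ cj g A, a * a = 1) ∧ Nat.card (cj g A) = 2 ^ 10 ∧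
      centralizer (cj g A : Set G) = cj g A := fun g =>
    ⟨fun a ha => by rw [← sq, (ea_cj hA g).2 a ha], by rw [card_cj, hc], by rw [← cj_centralizer, hs]⟩
  obtain ⟨g, hg⟩ := S.exists_cj_le_Y1 (IsPGroup.of_card hc)
  replace hg := hg.trans Y1_le_H
  obtain ⟨h2, h3, h4⟩ := k2 g
  obtain ⟨c1, hq⟩ := (key _ h2 h3 h4 hg).1
  have c2 := card_eq_trP_mul (S.bar (cj g A))
  have c3 := card_le_of_isotropic _ fun v hv w hw => iso_of_q hq hw v hv
  have hx : (S.bar (cj g A)).map lin ≤ X := by rintro _ ⟨a, ha, rfl⟩; exact bar_le_Hb _ ha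
  have c4 := card_le_two_mul_inner (hx.trans X_le_Hb)
  obtain ⟨u, ⟨⟨_, hb, rfl⟩, hi⟩, u1⟩ := exists_ne_one ((S.bar (cj g A)).map lin ⊓ SGJ4.Inn) (by nlinarith)
  obtain ⟨a, h5, h6, rfl⟩ := mem_bar.1 hb
  obtain ⟨x, hx1, -, hx2⟩ := inner_inv_conj (pi_mem a) hi
    (lin_mul_self (by rw [← pi_mul h6 h6, h2 a h5, pi_one])) u1
  obtain ⟨x, hx3, rfl⟩ := exists_pi (S := S) (X_le_Hb hx1)
  obtain ⟨h7, h8, h9⟩ := k2 (x * g)
  obtain ⟨y, hy⟩ := (key _ h7 h8 h9 (cj_mul x g A ▸ cj_le_of_mem hx3 hg)).2 ⟨_, pi_mem_bar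
    (cj_mul x g A ▸ conj_mem_cj x h5) (conj_mem_H hx3 h6), by
      rw [pi_conj hx3 h6, map_mul, map_mul, map_inv, lin_of_mem_X hx1, hx2]⟩
  exact ⟨_, cj_mul y _ A ▸ hy⟩

end Cfsg.Agent.H80.J4A
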