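/-
Project SGJ4, the prime 3: facts in the two models.
-/
import Cfsg.Agent.H80.J4T
import Cfsg.Agent.SGJ4.XInv
import Cfsg.Agent.SGJ4.NFacts
import Cfsg.Agent.H2.Basic

set_option autoImplicit false

namespace Cfsg.Agent.H80.J4

open Cfsg.Agent.H14 Cfsg.Agent.SGJ4 Subgroup AG

theorem card_inf_comap {A B : Type*} [Group A] [Group B] (f : A →* B) {U : Subgroup A} {K : Subgroup B}
    (h : K ≤ U.map f) : Nat.card ↥(U ⊓ K.comap f) = Nat.card ↥(U ⊓ f.ker) * Nat.card K := by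
  have h1 : (U ⊓ K.comap f).map f = K := le_antisymm
    (map_le_iff_le_comap.2 inf_le_right) fun k hk =>
      let ⟨u, hu, e⟩ := h hk; ⟨u, ⟨hu, show f u ∈ K from e ▸ hk⟩, e⟩
  rw [← H2.card_inf_mul_relIndex f.ker (U ⊓ K.comap f), relIndex_ker, h1, inf_left_comm,
    inf_eq_left.2 (ker_le_comap f K)]

theorem om_cube : om ^ 3 = 1 := by rw [← orderOf_om, pow_orderOf_eq_one]
theorem om_inv : om⁻¹ = om * om := inv_eq_of_mul_eq_one_right (by rw [← om_cube, pow_three])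
theorem om_ne_inv : om ≠ om⁻¹ := fun h => by
  have : orderOf om ∣ 2 := orderOf_dvd_of_pow_eq_one (by rw [pow_two]; nth_rw 1 [h]; simp)
  rw [orderOf_om] at this; omega
theorem om_ne_one : om ≠ 1 := fun h => om_ne_inv (by rw [h, inv_one])

theorem mem_zpowers_om {a : AG} : a ∈ zpowers om ↔ a = 1 ∨ a = om ∨ a = om * om := by
  refine ⟨fun h => ker_X a (zpowers_le.2 om_mem h) (zpowers_le (H := pr.ker).2 om_p h), ?_⟩
  rintro (rfl | rfl | rfl)
  exacts [one_mem _, mem_zpowers _, mul_mem (mem_zpowers _) (mem_zpowers _)]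

theorem X_inf_ker : X ⊓ pr.ker = zpowers om :=
  le_antisymm (fun a h => mem_zpowers_om.2 (ker_X a h.1 h.2)) (zpowers_le.2 ⟨om_mem, om_p⟩)

theorem card_X_comap {K : Subgroup (Equiv.Perm GolayPt)} (h : K ≤ M22x) :
    Nat.card ↥(X ⊓ K.comap pr) = 3 * Nat.card K := by
  rw [card_inf_comap pr fun g hg => exists_lift g (h hg), X_inf_ker, Nat.card_zpowers, orderOf_om]

theorem eq_zero_of_om {v : Vb} (h : om.m v = v) : v = 0 := by
  have := om_om v
  rw [h, h, Vb.add_self] at this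
  exact this

/-- the normaliser of the scalars -/
theorem mem_X_of_norm {a : AG} (ha : a ∈ Hb) (h : a * om * a⁻¹ ∈ zpowers om) : a ∈ X := by
  have h1 : a * om = a * om * a⁻¹ * a := by group
  have h2 := congrArg AG.v h1
  have h3 : a.v = 0 := by
    rw [mul_v, v_of_mem_X om om_mem, map_zero, add_zero] at h2
    rcases mem_zpowers_om.1 h with e | e | e
    · exact absurd (conj_eq_one_iff.1 e) om_ne_one
    · rw [e, mul_v, v_of_mem_X om om_mem, zero_add] at h2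
      exact eq_zero_of_om h2.symm
    · rw [e, mul_v, v_of_mem_X _ (mul_mem om_mem om_mem), zero_add, mul_m, om_om] at h2
      exact om.m.injective (by rw [map_zero]; exact left_eq_add.1 h2)
  rw [← lin_eq_self.2 h3]; exact ha

/-- the inner part 3 M22 of `X` -/
def X0 : Subgroup AG := X ⊓ Spor.M22.comap pr

theorem mem_X0 {a : AG} : a ∈ X0 ↔ a ∈ X ∧ Inner a :=
  and_congr_right fun h => mem_M22_iff (p_mem_M22x a (X_le_Hb h))

theorem X0_le_X : X0 ≤ X := inf_le_left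
theorem X0_le_Hb : X0 ≤ Hb := X0_le_X.trans X_le_Hb
theorem card_X0 : Nat.card X0 = 1330560 := by rw [X0, card_X_comap M22_le_M22x, card_M22]
theorem om_mem_X0 : om ∈ X0 := ⟨om_mem, show om.p ∈ Spor.M22 by rw [om_p]; exact one_mem _⟩

theorem mem_X0_iff {a : AG} (ha : a ∈ Hb) : a ∈ X0 ↔ a * om = om * a := by
  refine ⟨fun h => inner_comm h.1 (mem_X0.1 h).2, fun h => ?_⟩
  have h1 := mem_X_of_norm ha (by rw [h, mul_inv_cancel_right]; exact mem_zpowers _)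
  refine mem_X0.2 ⟨h1, by_contra fun h2 => om_ne_inv ?_⟩
  exact mul_right_cancel (h.symm.trans (outer_comm h1 h2))

theorem exists_lift0 {g : Equiv.Perm GolayPt} (hg : g ∈ Spor.M22) : ∃ a ∈ X0, a.p = g :=
  let ⟨a, ha, e⟩ := exists_lift g (M22_le_M22x hg); ⟨a, ⟨ha, show a.p ∈ _ from e ▸ hg⟩, e⟩

theorem eH17 : eH 17 = om := cd_inj.1 (by rw [cd_eH, cd_om]; decide +kernel)
theorem eH0 : eH 0 = 1 := cd_inj.1 (by rw [cd_eH, cd_one]; decide +kernel)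
theorem eN17_cube : eN 17 ^ 3 = 1 := cd_inj.1 (by rw [cd_pow, cd_eN, cd_one]; decide +kernel)

noncomputable def xb : AG := eH 18 * eH 19 * eH 21 * eH 22
noncomputable def nb : AG := eN 18 * eN 19 * eN 21 * eN 22
noncomputable def yb : AG := eH 18 * eH 19

theorem eH_mem_X {i : ℕ} (h : i ∈ [7, 8, 9, 10, 17, 18, 19, 20, 21, 22]) : eH i ∈ X :=
  (inS_gH_X i h).ofC_mem

theorem cd_xb : cd xb = 0x16d1f21d5bedf9f89c7dc423d4cb7dedf1d9bc44ba5a4c2c0ce9b6a87a8e41a420 := by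
  simp only [xb, cd_mul, cd_eH]; decide +kernel
theorem cd_yb : cd yb = 0x9857cdef74d275f18034934cf42f50692d28bd9266ca2c9c1ee51c445968345420 := by
  simp only [yb, cd_mul, cd_eH]; decide +kernel
theorem cd_nb : cd nb = 0x204006e3d4b01049f004008080800c751008d862805cf9dc145d528918ad530e4 := by
  simp only [nb, cd_mul, cd_eN]; decide +kernel

theorem gam_nb : (nb, xb) ∈ Gam :=
  Gam.mul_mem (Gam.mul_mem (Gam.mul_mem (gam_e 18) (gam_e 19)) (gam_e 21)) (gam_e 22)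
theorem nb_mem : nb ∈ Ns := (gam_fst gam_nb).1
theorem xb_p : xb.p = xt := GE.pk_injective (by rw [← cP_cd, cd_xb, pk_xt]; decide +kernel)
theorem yb_p : yb.p = yt := GE.pk_injective (by rw [← cP_cd, cd_yb, pk_yt]; decide +kernel)
theorem yb_mem_X : yb ∈ X := mul_mem (eH_mem_X (by decide)) (eH_mem_X (by decide))
theorem xb_mem_X : xb ∈ X := mul_mem (mul_mem yb_mem_X (eH_mem_X (by decide))) (eH_mem_X (by decide))
theorem xb_cube : xb ^ 3 = 1 := cd_inj.1 (by rw [cd_pow, cd_xb, cd_one]; decide +kernel)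
theorem yb_cube : yb ^ 3 = 1 := cd_inj.1 (by rw [cd_pow, cd_yb, cd_one]; decide +kernel)
theorem nb_cube : nb ^ 3 = 1 := cd_inj.1 (by rw [cd_pow, cd_nb, cd_one]; decide +kernel)
theorem xb_yb : xb * yb = om * (yb * xb) := cd_inj.1 (by
  rw [cd_mul, cd_mul, cd_mul, cd_xb, cd_yb, cd_om]; decide +kernel)

theorem nb_conj : ∃ c ∈ Ns, c * eN 17 = nb * c := by
  obtain ⟨c, hc, e⟩ := inS_Ns (c := 0xc75200002e3a001080d4b1ed9b349f004ecc055ab64c47205c62cac382151a25f7)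
    (by decide +kernel)
  refine ⟨c⁻¹, inv_mem hc, ?_⟩
  rw [inv_mul_eq_iff_eq_mul, ← mul_assoc, eq_mul_inv_iff_mul_eq]
  exact cd_inj.1 (by rw [cd_mul, cd_mul, e, cd_nb, cd_eN]; decide +kernel)

/-- the Sylow 3-subgroup of `X` -/
def Rb : Subgroup AG := X ⊓ T3.comap pr

theorem Rb_le_X0 : Rb ≤ X0 := inf_le_inf_left _ (comap_mono T3_le_M22)
theorem card_Rb : Nat.card Rb = 27 := by rw [Rb, card_X_comap (T3_le_M22.trans M22_le_M22x), card_T3]
theorem xb_mem : xb ∈ Rb := ⟨xb_mem_X, show xb.p ∈ _ from xb_p ▸ xt_mem⟩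
theorem yb_mem : yb ∈ Rb := ⟨yb_mem_X, show yb.p ∈ _ from yb_p ▸ yt_mem⟩
theorem om_mem_Rb : om ∈ Rb := ⟨om_mem, show om.p ∈ T3 by rw [om_p]; exact one_mem _⟩

/-- the 3-elements of `X0` -/
theorem three_X0 {a : AG} (ha : a ∈ X0) (h3 : a.p ^ 3 = 1) :
    a ∈ zpowers om ∨ ∃ b ∈ X0, b * a * b⁻¹ = xb := by
  by_cases h1 : a.p = 1
  · exact Or.inl (mem_zpowers_om.2 (ker_X a ha.1 h1))
  obtain ⟨g, hg, e⟩ := m22_three ha.2 h3 h1
  obtain ⟨b, hb, rfl⟩ := exists_lift0 hg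
  have hy := Rb_le_X0 yb_mem
  have h2 := (mem_X0_iff (X0_le_Hb hy)).1 hy
  have h4 : yb * (om * xb) * yb⁻¹ = xb * om⁻¹ * om := by
    have h5 := (mem_X0_iff (X0_le_Hb (Rb_le_X0 xb_mem))).1 (Rb_le_X0 xb_mem)
    rw [← mul_assoc yb, h2, mul_assoc om, ← xb_yb]; group
  rw [inv_mul_cancel_right] at h4
  have h5 := ker_X (b * a * b⁻¹ * xb⁻¹) (mul_mem (mul_mem (mul_mem hb.1 ha.1) (inv_mem hb.1))
    (inv_mem xb_mem_X)) (by rw [mul_p, mul_p, mul_p, inv_p, inv_p, xb_p, mul_inv_eq_one]; exact e)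
  simp only [mul_inv_eq_iff_eq_mul, one_mul] at h5
  refine Or.inr ?_
  rcases h5 with h5 | h5 | h5
  · exact ⟨b, hb, by rw [h5, mul_inv_cancel_right]⟩
  · exact ⟨yb * b, mul_mem hy hb, by rw [← h4, mul_assoc yb b, h5]; group⟩
  · refine ⟨yb * yb * b, mul_mem (mul_mem hy hy) hb, ?_⟩
    rw [mul_assoc _ b, h5]
    conv_rhs => rw [← h4, ← h4, ← mul_assoc om, ← mul_assoc om, ← h2]
    group

theorem cube_X0 {a : AG} (ha : a ∈ X0) (h3 : a.p ^ 3 = 1) : a ^ 3 = 1 := by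
  rcases three_X0 ha h3 with ⟨k, rfl⟩ | ⟨b, -, h⟩
  · rw [← zpow_natCast, ← zpow_mul, mul_comm, zpow_mul, zpow_natCast, om_cube, one_zpow]
  · have := xb_cube
    rwa [← h, conj_pow, conj_eq_one_iff] at this

theorem cube_Rb {a : AG} (ha : a ∈ Rb) : a ^ 3 = 1 := cube_X0 (Rb_le_X0 ha) (cube_of_mem_T3 ha.2)

theorem xb_yb_ne : xb * yb ≠ yb * xb := fun h => om_ne_one (by simpa [h] using xb_yb)

/-- the normaliser of `Rb` -/
def NRb : Subgroup AG := X ⊓ K3.comap pr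

theorem card_NRb : Nat.card NRb = 432 := by
  rw [NRb, card_X_comap (K3_le.trans inf_le_left), card_K3]

theorem mem_NRb {a : AG} (ha : a ∈ X) : a ∈ NRb ↔ ∀ r ∈ Rb, a * r * a⁻¹ ∈ Rb := by
  refine ⟨fun h r hr => ⟨X.mul_mem (X.mul_mem ha hr.1) (inv_mem ha),
    (mem_normalizer_iff.1 (K3_le h.2).2 r.p).1 hr.2⟩, fun h => ⟨ha, ?_⟩⟩
  change a.p ∈ K3
  rw [← norm_T3]
  refine ⟨p_mem_M22x a (X_le_Hb ha), mem_normalizer_fintype fun t ht => ?_⟩
  obtain ⟨r, hr, rfl⟩ := exists_lift t (M22_le_M22x (T3_le_M22 ht))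
  exact (h r ⟨hr, ht⟩).2

/-- duads on the six fixed points of `eN 17` -/
theorem duad_facts : ∀ n ∈ [0x600, 0x7da, 0x1da, 0x8bc, 0xdfe], IsDuad (Vb.of n) ∧
    tr (Vb.of n) * eN 17 = eN 17 * tr (Vb.of n) := by
  intro n hn
  have := allL_iff.1 (show allL [0x600, 0x7da, 0x1da, 0x8bc, 0xdfe] (fun n => Nat.beq (bt DT (n % 4096)) 1 &&
    Nat.beq (cmul (ctr (n % 4096)) (nthD gN cone 17)) (cmul (nthD gN cone 17) (ctr (n % 4096)))) = true by
    decide +kernel) n hn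
  simp only [Bool.and_eq_true, beq_iff] at this
  exact ⟨isDuad_iff.2 this.1, cd_inj.1 (by rw [cd_mul, cd_mul, cd_tr, cd_eN]; exact this.2)⟩

theorem eN7 : eN 7 = tr (Vb.of 0x600) := cd_inj.1 (by rw [cd_eN, cd_tr]; decide +kernel)

/-- the sextet of `eN 7 * zN` has a duad fixed by `eN 17` inside a tetrad -/
theorem exists_sextet : ∃ a ∈ Ns, ∃ w v, a * zN * a⁻¹ = eN 7 * zN ∧ (w, tr v) ∈ Gam ∧ v ≠ 0 ∧
    a * w * a⁻¹ = tr (Vb.of 0x8bc) := by
  obtain ⟨a, ha, e⟩ := inS_Ns (c := 0x100046e3b1d0403da0200024001edb660018386a9222db1cac25c1414c2f5a4d5)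
    (by decide +kernel)
  refine ⟨a, ha, tr (Vb.of 0x42), Vb.of 0x6cd, ?_, gam_of_cw [1, 2, 4, 5] ?_ ?_, by decide, ?_⟩
  · rw [mul_inv_eq_iff_eq_mul]
    exact cd_inj.1 (by rw [cd_mul, cd_mul, cd_mul, zN, cd_tr, cd_eN, e]; decide +kernel)
  · rw [cd_tr]; decide +kernel
  · rw [cd_tr]; decide +kernel
  · rw [mul_inv_eq_iff_eq_mul]
    exact cd_inj.1 (by rw [cd_mul, cd_mul, cd_tr, cd_tr, e]; decide +kernel)

end Cfsg.Agent.H80.J4
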