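/-
Project SGJ4, the prime 3: the centraliser of `p`.
-/
import Cfsg.Agent.H80.J4X
import Cfsg.Agent.SGJ4.Setup
import Cfsg.Agent.H8.ZStar
import Cfsg.Agent.H43.Dih
import Cfsg.Agent.H46.Generation

set_option autoImplicit false

namespace Cfsg.Agent.H80.J4

open Cfsg.Agent.H14 Cfsg.Agent.SGJ4 Subgroup AG Setup1 Setup

theorem oddIso_of_commute {G : Type*} [Group G] [Finite G] {u : G} (hu : u * u = 1)
    (h : ∀ v, IsConj u v → Commute u v → v = u) : H8.OddIso u := by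
  refine ⟨hu, fun g => ?_⟩
  have hv : (g * u * g⁻¹) * (g * u * g⁻¹) = 1 := by rw [conj_mul, hu]; simp
  by_contra hodd
  rw [Nat.not_odd_iff_even] at hodd
  obtain ⟨h1, h2, -⟩ := H8.central_involution hu hv hodd
  have hc : IsConj u (u * (u * (g * u * g⁻¹)) ^ (orderOf (u * (g * u * g⁻¹)) / 2)) := by
    rcases H8.isConj_refl hu hv ((orderOf (u * (g * u * g⁻¹)) / 2 : ℕ) : ℤ) with h | h
    · rwa [zpow_natCast] at h
    · rw [zpow_natCast] at h
      exact (isConj_iff.mpr ⟨g, rfl⟩).trans h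
  exact H8.ne_one_of_orderOf_two h1 (by simpa using h _ hc ((Commute.refl u).mul_right h2.symm))

section One

variable {G : Type*} [Group G] {S : Setup1 G}

theorem p_cube : S.p ^ 3 = 1 := by rw [← S.ord_p, pow_orderOf_eq_one]

theorem eq_of_pi_of_odd {a b : G} {n : ℕ} (hn : Odd n) (ha : a ∈ S.H) (hb : b ∈ S.H) (h1 : a ^ n = 1)
    (h2 : b ^ n = 1) (h : S.pi a = S.pi b) : a = b := by
  refine ((pi_eq_iff ha hb).1 h).resolve_right fun e => S.z_ne_one ?_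
  obtain ⟨k, rfl⟩ := hn
  rwa [e, Commute.mul_pow (S.mem_H.1 hb), h2, one_mul, pow_succ, pow_mul, pow_two, S.z_mul_z, one_pow,
    one_mul] at h1

theorem exists_lift_three {b : AG} (hb : b ∈ Hb) (h : b ^ 3 = 1) : ∃ g ∈ S.H, S.pi g = b ∧ g ^ 3 = 1 := by
  obtain ⟨g, hg, rfl⟩ := exists_pi (S := S) hb
  refine ⟨g ^ 4, pow_mem hg 4, by rw [pi_pow hg, pow_succ, h, one_mul], ?_⟩
  rw [← pi_pow hg, pi_eq_one (pow_mem hg 3)] at h
  rw [← pow_mul, mul_comm, pow_mul]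
  rcases h with h | h <;> rw [h]
  · exact one_pow _
  · rw [show 4 = 2 * 2 from rfl, pow_mul, pow_two S.z, S.z_mul_z, one_pow]

theorem conj_eq_of_pi {g a b : G} (hg : g ∈ S.H) (ha : a ∈ S.H) (hb : b ∈ S.H) (h1 : a ^ 3 = 1)
    (h2 : b ^ 3 = 1) (h : S.pi g * S.pi a * (S.pi g)⁻¹ = S.pi b) : g * a * g⁻¹ = b :=
  eq_of_pi_of_odd (n := 3) (by decide) (mul_mem (mul_mem hg ha) (inv_mem hg)) hb
    (by rw [conj_pow, h1]; simp) h2 (by rw [pi_conj hg ha, h])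

theorem mem_pre_X0 {g : G} : g ∈ S.pre X0 ↔ g ∈ S.H ∧ g * S.p = S.p * g := by
  rw [mem_pre]
  refine and_congr_right fun hg => (mem_X0_iff (pi_mem g)).trans ⟨fun h => ?_, fun h => ?_⟩
  · exact mul_inv_eq_iff_eq_mul.1 (conj_eq_of_pi hg S.p_mem S.p_mem p_cube p_cube
      (by rw [pi_p, h, mul_inv_cancel_right]))
  · rw [← pi_p (S := S), ← pi_mul hg S.p_mem, h, pi_mul S.p_mem hg]

theorem pre_X0 : S.pre X0 = S.H ⊓ centralizer {S.p} :=
  Subgroup.ext fun _ => mem_pre_X0.trans (and_congr_right fun _ => mem_centralizer_singleton_iff.symm)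

theorem p_mem_pre {A : Subgroup AG} (h : om ∈ A) : S.p ∈ S.pre A := mem_pre.2 ⟨S.p_mem, by rwa [pi_p]⟩

theorem card_pre_X0 : Nat.card (S.pre X0) = 2661120 := by rw [card_pre X0_le_Hb, card_X0]

theorem mem_zpowers_p {g : G} (hg : g ∈ S.H) (h3 : g ^ 3 = 1) (h : S.pi g ∈ zpowers om) :
    g ∈ zpowers S.p := by
  obtain ⟨k, hk⟩ := h
  have h1 := zpow_mem S.p_mem k
  refine ⟨k, eq_of_pi_of_odd (n := 3) (by decide) h1 hg ?_ h3 ?_⟩
  · rw [← zpow_natCast, ← zpow_mul, mul_comm, zpow_mul, zpow_natCast, p_cube, one_zpow]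
  · rw [← hk, S.pi_eq h1, ← S.π_p]
    exact map_zpow S.π ⟨S.p, S.p_mem⟩ k

theorem pre_X : S.pre X = S.H ⊓ normalizer (zpowers S.p : Set G) := by
  ext g
  rw [mem_pre, mem_inf]
  refine and_congr_right fun hg => ⟨fun h => ?_, fun h => mem_X_of_norm (pi_mem g) ?_⟩
  · have : Finite (zpowers S.p : Set G) := finite_zpowers.2 (orderOf_pos_iff.1 (by rw [S.ord_p]; decide))
    refine mem_normalizer_fintype ?_
    rintro _ ⟨k, rfl⟩
    rw [← conj_zpow]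
    refine zpow_mem (mem_zpowers_p (mul_mem (mul_mem hg S.p_mem) (inv_mem hg))
      (by rw [conj_pow, p_cube]; simp) ?_) k
    rw [pi_conj hg S.p_mem, pi_p]
    by_cases h1 : Inner (S.pi g)
    · rw [inner_comm h h1, mul_inv_cancel_right]; exact mem_zpowers _
    · rw [outer_comm h h1, mul_inv_cancel_right]; exact inv_mem (mem_zpowers _)
  · obtain ⟨k, hk⟩ := (mem_normalizer_iff.1 h S.p).1 (mem_zpowers _)
    rw [← pi_p (S := S), ← pi_conj hg S.p_mem, ← hk, S.pi_eq (zpow_mem S.p_mem k), S.pi_eq S.p_mem]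
    exact ⟨k, (map_zpow S.π ⟨S.p, S.p_mem⟩ k).symm⟩

theorem isConj_p_inv : IsConj S.p S.p⁻¹ := by
  obtain ⟨g, hg, e⟩ := exists_pi (S := S) (X_le_Hb l1_mem)
  refine isConj_iff.2 ⟨g, conj_eq_of_pi hg S.p_mem (inv_mem S.p_mem) p_cube (by rw [inv_pow, p_cube, inv_one]) ?_⟩
  rw [pi_inv S.p_mem, pi_p, e, outer_comm l1_mem outer_l1, mul_inv_cancel_right]

end One

variable {G : Type*} [Group G] {S : Setup G}

theorem th_gam {a b : AG} (h : (a, b) ∈ Gam) : S.th a ∈ S.H ∧ S.pi (S.th a) = b :=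
  ⟨(th_mem_H (gam_fst h).1).2 (gam_fst h), pi_th (gam_fst h).1 h⟩

theorem th_eN17 : S.th (eN 17) = S.p :=
  eq_of_pi_of_odd (n := 3) (by decide) (th_gam (gam_e 17)).1 S.p_mem
    (by rw [← th_pow (eN_mem 17), eN17_cube, th_one]) p_cube (by rw [(th_gam (gam_e 17)).2, pi_p, eH17])

theorem IsDuad.ne_zero {v : Vb} (h : IsDuad v) : v ≠ 0 := by
  obtain ⟨a, -, rfl⟩ := duad_trans h
  exact fun e => absurd (a.m.injective (e.trans (map_zero _).symm)) (by decide)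

theorem orderOf_tr {v : Vb} (h : v ≠ 0) : orderOf (tr v) = 2 :=
  H8.orderOf_two_of (tr_mul_self v) fun e => h (tr_eq_one.1 e)

theorem not_isConj_duad {v : Vb} (h : IsDuad v) : ¬ IsConj S.z (S.th (tr v)) := by
  rw [isConj_th (tr_mem_Ns.2 h.mem_Ev) (orderOf_tr (IsDuad.ne_zero h))]
  rintro (h1 | h1)
  exacts [h1.2 h, h1.1 rfl]

theorem isConj_sextet {v : Vb} (h : v ∈ Ev) (h0 : v ≠ 0) (h1 : ¬ IsDuad v) : IsConj S.z (S.th (tr v)) :=
  (isConj_th (tr_mem_Ns.2 h) (orderOf_tr h0)).2 (Or.inl ⟨rfl, h1⟩)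

theorem cent_duad_le {v : Vb} (h : IsDuad v) : centralizer {S.th (tr v)} ≤ S.N := by
  obtain ⟨a, ha, rfl⟩ := duad_trans h
  have ha := Ks_le_Ns ha
  intro g hg
  rw [← conj_tr, ← tN, th_conj ha tN_mem, mem_centralizer_singleton_iff] at hg
  have h1 : S.th a ∈ S.N := mem_N.2 ⟨a, ha, rfl⟩
  have h2 := cent_t_le (S := S) ((mem_centralizer_singleton_iff (g := S.th tN)
    (k := (S.th a)⁻¹ * g * S.th a)).2 (by
    calc _ = (S.th a)⁻¹ * (g * (S.th a * S.th tN * (S.th a)⁻¹)) * S.th a := by group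
      _ = _ := by rw [hg]; group))
  exact (mul_mem_cancel_left (inv_mem h1)).1 ((mul_mem_cancel_right h1).1 h2)

theorem th_tr_mem_H {v : Vb} (h : v ∈ Ev) : S.th (tr v) ∈ S.H :=
  (th_mem_H (tr_mem_Ns.2 h)).2 ⟨tr_mem_Ns.2 h, mem_centralizer_singleton_iff.2 (tr_comm _ _)⟩

theorem th_tr_add {v w : Vb} (h : v ∈ Ev) (h' : w ∈ Ev) : S.th (tr (v + w)) = S.th (tr v) * S.th (tr w) := by
  rw [tr_add, th_mul (tr_mem_Ns.2 h) (tr_mem_Ns.2 h')]

theorem th_tr_sq {v : Vb} (h : v ∈ Ev) : S.th (tr v) * S.th (tr v) = 1 := by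
  rw [← th_tr_add h h, Vb.add_self, tr_zero, th_one]

theorem duad_mem {n : ℕ} (hn : n ∈ [0x600, 0x7da, 0x1da, 0x8bc, 0xdfe]) : S.th (tr (Vb.of n)) ∈ S.pre X0 := by
  obtain ⟨h1, h2⟩ := duad_facts n hn
  have h3 := tr_mem_Ns.2 h1.mem_Ev
  exact mem_pre_X0.2 ⟨th_tr_mem_H h1.mem_Ev, by
    rw [← th_eN17, ← th_mul h3 (eN_mem 17), h2, th_mul (eN_mem 17) h3]⟩

/-- the involutions of the centraliser of `p` in `H` -/
theorem inv_pre_X0 {x : G} (hx : x ∈ S.pre X0) (h2 : x * x = 1) : x = 1 ∨ x = S.z ∨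
    ∃ g ∈ S.pre X0, g * x * g⁻¹ = S.th (eN 7) ∨ g * x * g⁻¹ = S.th (eN 7) * S.z := by
  obtain ⟨h3, h4⟩ := mem_pre.1 hx
  by_cases h1 : S.pi x = 1
  · exact or_assoc.1 (Or.inl ((pi_eq_one h3).1 h1))
  obtain ⟨y, hy, hi, e⟩ := inner_inv_conj h4.1 (mem_X0.1 h4).2 (by rw [← pi_mul h3 h3, h2, pi_one]) h1
  obtain ⟨g, hg, rfl⟩ := exists_pi (S := S.toSetup1) (X_le_Hb hy)
  exact Or.inr (Or.inr ⟨g, mem_pre.2 ⟨hg, mem_X0.2 ⟨hy, hi⟩⟩,
    (pi_eq_iff (mul_mem (mul_mem hg h3) (inv_mem hg)) (th_gam (gam_e 7)).1).1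
      (by rw [pi_conj hg h3, e, (th_gam (gam_e 7)).2]; rfl)⟩)

theorem isolated {g : G} (hg : g * S.p = S.p * g) (h : g * S.z * g⁻¹ ∈ S.H) : g * S.z * g⁻¹ = S.z := by
  have hz := (mem_pre_X0.1 (z_mem_pre (S := S.toSetup1) X0)).2
  rcases inv_pre_X0 (mem_pre_X0.2 ⟨h, ((Commute.mul_left hg hz).mul_left (Commute.inv_left hg) :)⟩)
    (by rw [conj_mul, S.z_mul_z]; simp) with h1 | h1 | ⟨l, hl, h1 | h1⟩
  · exact absurd (conj_eq_one_iff.1 h1) S.z_ne_one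
  · exact h1
  · rw [eN7] at h1
    exact absurd (isConj_iff.2 ⟨l * g, by rw [← h1]; group⟩) (not_isConj_duad (duad_facts _ (by decide)).1)
  obtain ⟨a, ha, w, v, h2, h3, h4, h5⟩ := exists_sextet
  have h6 : S.th a * S.z * (S.th a)⁻¹ = l * g * S.z * (l * g)⁻¹ := by
    rw [← th_zN, ← th_conj ha zN_mem, h2, th_mul (eN_mem 7) zN_mem, th_zN, ← h1]; group
  have h7 : (l * g)⁻¹ * S.th a ∈ S.H := S.mem_H.2 (by
    rw [mul_assoc, inv_mul_eq_iff_eq_mul, mul_inv_eq_iff_eq_mul.1 h6]; group)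
  obtain ⟨h8, h9⟩ := th_gam (S := S) h3
  have h10 := (mem_pre_X0.1 (duad_mem (S := S) (n := 0x8bc) (by decide))).2
  rw [← h5, th_conj ha (gam_fst h3).1] at h10
  have h11 : Commute (l * g) S.p := Commute.mul_left (mem_pre_X0.1 hl).2 hg
  have h12 := (mem_pre.1 (mem_pre_X0.2 ⟨mul_mem (mul_mem h7 h8) (inv_mem h7), by
    have := (h11.inv_left.mul_left h10).mul_left h11
    convert this.eq using 2 <;> group⟩)).2
  rw [pi_conj h7 h8, h9, conj_tr] at h12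
  exact absurd (AddEquiv.injective _ ((v_of_mem_X _ h12.1).trans (map_zero _).symm)) h4

theorem cent_p_le [Finite G] : centralizer {S.p} ≤ S.H := by
  let C := centralizer ({S.p} : Set G)
  have h0 : S.pre X0 ≤ C := pre_X0.le.trans inf_le_right
  let z : C := ⟨S.z, h0 (z_mem_pre _)⟩
  have h1 : H8.OddIso z := oddIso_of_commute (Subtype.ext S.z_mul_z) fun v hv hc => by
    obtain ⟨g, rfl⟩ := isConj_iff.1 hv
    exact Subtype.ext (isolated (mem_centralizer_singleton_iff.1 g.2)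
      (S.mem_H.2 (congrArg Subtype.val hc.symm.eq)))
  have hd := duad_facts
  let a : C := ⟨_, h0 (duad_mem (n := 0x600) (by decide))⟩
  let b : C := ⟨_, h0 (duad_mem (n := 0x7da) (by decide))⟩
  have ha := (hd 0x600 (by decide)).1
  have hb := (hd 0x7da (by decide)).1
  have hab : (a * b : C) = S.th (tr (Vb.of 0x1da)) := (th_tr_add ha.mem_Ev hb.mem_Ev).symm
  have h2 : ∀ v, IsDuad v → S.th (tr v) ≠ 1 := fun v hv e =>
    IsDuad.ne_zero hv (tr_eq_one.1 ((th_eq_one (tr_mem_Ns.2 hv.mem_Ev)).1 e))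
  have haa : a * a = 1 := Subtype.ext (th_tr_sq ha.mem_Ev)
  have hbb : b * b = 1 := Subtype.ext (th_tr_sq hb.mem_Ev)
  have ha1 : a ≠ 1 := fun e => h2 _ ha (congrArg Subtype.val e)
  have hb1 : b ≠ 1 := fun e => h2 _ hb (congrArg Subtype.val e)
  have hne : a ≠ b := fun e => h2 _ (hd 0x1da (by decide)).1 (by
    rw [← hab, e]; exact congrArg Subtype.val hbb)
  have hK := H43.isKleinFour_sup haa hbb ha1 (fun h => by
    rcases (H8.mem_zpowers_of_orderOf_two (H8.orderOf_two_of haa ha1)).1 h with e | e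
    exacts [hb1 e, hne e.symm]) (Subtype.ext ((th_tr_add ha.mem_Ev hb.mem_Ev).symm.trans
      (by rw [add_comm]; exact th_tr_add hb.mem_Ev ha.mem_Ev)))
  have hO := H8.odd_card_pPrimeCore (G := C)
  have h3 : ∀ y ∈ pPrimeCore 2 C, y * y = 1 → y = 1 := fun y hy h =>
    H8.eq_one_of_sq_of_odd (hO.of_dvd_nat (orderOf_dvd_natCard _ hy)) h
  have h4 : pPrimeCore 2 C ≤ S.H.subgroupOf C := by
    refine H46.le_of_forall_element (p := 2) (IsPGroup.of_card (n := 2) hK.card_four)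
      IsKleinFour.isMulCommutative hK.not_isCyclic hO.not_two_dvd_nat le_normalizer_of_normal ?_
    intro c hc hc1 x hx
    have h5 : (x : G) ∈ S.N := by
      have h6 : (x : G) ∈ centralizer {(c : G)} := mem_centralizer_singleton_iff.2
        (congrArg Subtype.val (mem_centralizer_singleton_iff.1 hx.2))
      rcases H43.klein_cases hK (mem_sup_left (mem_zpowers a)) (mem_sup_right (mem_zpowers b)) hc ha1 hb1 hne
        with e | rfl | rfl | rfl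
      exacts [absurd e hc1, cent_duad_le ha h6, cent_duad_le hb h6,
        cent_duad_le (hd 0x1da (by decide)).1 (hab ▸ h6)]
    have h6 : S.z ∈ S.V := mem_V.2 ⟨zs, tr_mem_Ns.1 zN_mem, th_zN⟩
    obtain ⟨v, hv, e⟩ := mem_V.1 (mul_mem h6 ((mem_normalizer_iff.1 (N_eq (S := S) ▸ h5) _).1 h6))
    have h7 := h3 _ (h1.comm_eq x ▸ H8.zstar h1 x) (Subtype.ext (by
      have := th_tr_sq (S := S) hv
      rwa [e] at this))
    exact S.mem_H.2 (mul_inv_eq_iff_eq_mul.1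
      ((eq_inv_of_mul_eq_one_right (congrArg Subtype.val h7)).trans S.z_inv))
  intro g hg
  have h5 := h1.comm_eq ⟨g, hg⟩ ▸ H8.zstar h1 ⟨g, hg⟩
  refine S.mem_H.2 (mul_inv_eq_iff_eq_mul.1 (isolated (mem_centralizer_singleton_iff.1 hg) ?_))
  exact (mul_mem_cancel_left S.z_mem).1 (h4 h5)

theorem cent_p_eq [Finite G] : centralizer {S.p} = S.pre X0 := by rw [pre_X0, inf_eq_right.2 cent_p_le]

end Cfsg.Agent.H80.J4
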