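/-
Project SGJ4, the prime 3: structure of `C(p)`, the Sylow 3-subgroup, fusion of elements of order 3.
-/
import Cfsg.Agent.H80.J4C
import Cfsg.Agent.H14.Mathieu
import Cfsg.Agent.H36.Simple
import Cfsg.Agent.H73.PCube

set_option autoImplicit false

namespace Cfsg.Agent.H80.J4

open Cfsg.Agent.H14 Cfsg.Agent.SGJ4 Subgroup AG Setup1 Setup H4
open scoped commutatorElement

theorem commutator_M22 : commutator Spor.M22 = ⊤ :=
  have := simple_M22
  H36.commutator_eq_top_of_simple (by rw [card_M22]; norm_num)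

theorem center_M22 : center Spor.M22 = ⊥ := by
  have := simple_M22
  refine (inferInstance : (center Spor.M22).Normal).eq_bot_or_eq_top.resolve_right fun h => ?_
  refine bot_ne_top (α := Subgroup Spor.M22) (commutator_M22 ▸ (commutator_eq_bot_iff_le_centralizer.2 ?_).symm)
  rw [coe_top, centralizer_univ, h]

section One

variable {G : Type*} [Group G] {S : Setup1 G}

/-- the map from `C(p)` onto M22 -/
noncomputable def toM22 (S : Setup1 G) : S.pre X0 →* Spor.M22 where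
  toFun g := ⟨(S.pi g).p, (mem_pre.1 g.2).2.2⟩
  map_one' := Subtype.ext (congrArg AG.p pi_one)
  map_mul' a b := Subtype.ext (congrArg AG.p (pi_mul (mem_pre.1 a.2).1 (mem_pre.1 b.2).1))

theorem toM22_surj : Function.Surjective (toM22 S) := fun g => by
  obtain ⟨a, ha, e⟩ := exists_lift0 g.2
  obtain ⟨x, hx, rfl⟩ := exists_pi (S := S) (X0_le_Hb ha)
  exact ⟨⟨x, mem_pre.2 ⟨hx, ha⟩⟩, Subtype.ext e⟩

theorem mem_ker_toM22 {g : S.pre X0} : g ∈ (toM22 S).ker ↔ S.pi g ∈ zpowers om := by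
  rw [← X_inf_ker]
  exact ⟨fun h => ⟨(mem_pre.1 g.2).2.1, congrArg Subtype.val h⟩, fun h => Subtype.ext h.2⟩

theorem mem_pre_om {g : G} (h : g ∈ S.pre (zpowers om)) : ∃ k : ℤ, g = S.p ^ k ∨ g = S.p ^ k * S.z := by
  obtain ⟨h1, k, hk⟩ := mem_pre.1 h
  refine ⟨k, (pi_eq_iff h1 (zpow_mem S.p_mem k)).1 ?_⟩
  rw [← hk, S.pi_eq (zpow_mem S.p_mem k), ← S.π_p]
  exact (map_zpow S.π ⟨S.p, S.p_mem⟩ k).symm

theorem ker_toM22 : (toM22 S).ker = center (S.pre X0) := by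
  refine le_antisymm (fun g hg => mem_center_iff.2 fun h => Subtype.ext ?_) fun g hg => ?_
  · obtain ⟨h1, h2⟩ := mem_pre_X0.1 h.2
    obtain ⟨k, e | e⟩ := mem_pre_om (mem_pre.2 ⟨(mem_pre.1 g.2).1, mem_ker_toM22.1 hg⟩) <;>
      rw [coe_mul, coe_mul, e]
    · exact Commute.zpow_right h2 k
    · exact (Commute.zpow_right h2 k).mul_right (S.mem_H.1 h1)
  · refine center_M22.le (mem_center_iff.2 fun m => ?_)
    obtain ⟨h, rfl⟩ := toM22_surj (S := S) m
    rw [← map_mul, ← map_mul, mem_center_iff.1 hg]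

theorem card_center : Nat.card (center (S.pre X0)) = 6 := by
  have := (toM22 S).ker.card_mul_index
  rw [index_ker, MonoidHom.range_eq_top.2 toM22_surj, card_top, card_M22, card_pre_X0, ker_toM22] at this
  omega

theorem isCyclic_center : IsCyclic (center (S.pre X0)) := by
  have : Finite (center (S.pre X0)) := Nat.finite_of_card_ne_zero (by rw [card_center]; decide)
  refine isCyclic_of_orderOf_eq_card ⟨⟨S.p * S.z, mul_mem (p_mem_pre om_mem_X0) (z_mem_pre _)⟩,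
    ker_toM22.le (mem_ker_toM22.2 (by rw [pi_mul_z S.p_mem, pi_p]; exact mem_zpowers _))⟩ ?_
  rw [card_center, ← orderOf_coe, ← orderOf_coe,
    Commute.orderOf_mul_eq_mul_orderOf_of_coprime (S.mem_H.1 S.p_mem) (by rw [S.ord_p, S.ord_z]; decide),
    S.ord_p, S.ord_z]

theorem isoM22_quot : Spor.IsoM22 (S.pre X0 ⧸ center (S.pre X0)) :=
  ⟨(QuotientGroup.quotientMulEquivOfEq ker_toM22.symm).trans
    (QuotientGroup.quotientKerEquivOfSurjective _ toM22_surj)⟩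

theorem card_H : Nat.card S.H = 21799895040 := by rw [← pre_Hb, card_pre le_rfl, card_Hb]

variable [Finite G]

theorem exists_R3 : ∃ R : Subgroup G, Nat.card R = 27 ∧ ∀ g, g ∈ R ↔ g ∈ S.pre Rb ∧ g ^ 3 = 1 := by
  have := Fact.mk Nat.prime_three
  have h0 := Rb_le_X0.trans X0_le_Hb
  obtain ⟨R, hR, -⟩ := IsSylowIn.exists_le (K := S.pre Rb) (p := 3) IsPGroup.of_bot bot_le
  have h1 : Nat.card R = 27 := by
    rw [hR.card_eq, card_pre h0, card_Rb]; decide +kernel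
  have h2 : S.z ∉ R := fun h => by
    have := orderOf_dvd_natCard _ h
    rw [h1, S.ord_z] at this; omega
  have h3 : ∀ g ∈ R, g ^ 3 = 1 := fun g hg => by
    obtain ⟨h3, h4⟩ := mem_pre.1 (hR.le hg)
    exact ((pi_eq_one (pow_mem h3 3)).1 (by rw [pi_pow h3, cube_Rb h4])).resolve_right
      fun e => h2 (e ▸ pow_mem hg 3)
  have h4 : S.bar R = Rb := eq_of_le_of_card_ge (fun b hb => by
    obtain ⟨g, hg, -, rfl⟩ := mem_bar.1 hb
    exact (mem_pre.1 (hR.le hg)).2)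
    (by rw [← card_of_z_not_mem (hR.le.trans (pre_le_H _)) h2, h1, card_Rb])
  refine ⟨R, h1, fun g => ⟨fun hg => ⟨hR.le hg, h3 g hg⟩, fun hg => ?_⟩⟩
  obtain ⟨r, hr, h5, e⟩ := mem_bar.1 (h4.ge (mem_pre.1 hg.1).2)
  rwa [← eq_of_pi_of_odd (n := 3) (by decide) h5 (mem_pre.1 hg.1).1 (h3 r hr) hg.2 e]

/-- the Sylow 3-subgroup -/
noncomputable def R3 (S : Setup1 G) : Subgroup G := (exists_R3 (S := S)).choose

theorem card_R3 : Nat.card (R3 S) = 27 := exists_R3.choose_spec.1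
theorem mem_R3 {g : G} : g ∈ R3 S ↔ g ∈ S.pre Rb ∧ g ^ 3 = 1 := exists_R3.choose_spec.2 g
theorem isPGroup_R3 : IsPGroup 3 (R3 S) := IsPGroup.of_card (n := 3) card_R3
theorem R3_le : R3 S ≤ S.pre X0 := fun _ h => pre_mono Rb_le_X0 (mem_R3.1 h).1
theorem R3_le_H : R3 S ≤ S.H := R3_le.trans (pre_le_H _)
theorem p_mem_R3 : S.p ∈ R3 S := mem_R3.2 ⟨p_mem_pre om_mem_Rb, p_cube⟩

theorem exists_R3_lift {b : AG} (hb : b ∈ Rb) : ∃ g ∈ R3 S, S.pi g = b :=
  let ⟨g, h1, h2, h3⟩ := exists_lift_three (S := S) (X0_le_Hb (Rb_le_X0 hb)) (cube_Rb hb)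
  ⟨g, mem_R3.2 ⟨mem_pre.2 ⟨h1, h2 ▸ hb⟩, h3⟩, h2⟩

theorem exists_comm_p : ∃ x ∈ R3 S, ∃ y ∈ R3 S, ⁅x, y⁆ = S.p := by
  obtain ⟨x, hx, e1⟩ := exists_R3_lift (S := S) xb_mem
  obtain ⟨y, hy, e2⟩ := exists_R3_lift (S := S) yb_mem
  have h1 : ⁅x, y⁆ ∈ R3 S := mul_mem (mul_mem (mul_mem hx hy) (inv_mem hx)) (inv_mem hy)
  refine ⟨x, hx, y, hy, eq_of_pi_of_odd (n := 3) (by decide) (R3_le_H h1) S.p_mem (mem_R3.1 h1).2 p_cube ?_⟩
  have h2 := R3_le_H hx
  have h3 := R3_le_H hy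
  rw [commutatorElement_def, pi_mul (mul_mem (mul_mem h2 h3) (inv_mem h2)) (inv_mem h3), pi_conj h2 h3,
    pi_inv h3, e1, e2, pi_p, xb_yb]
  group

theorem R3_not_comm : ∃ x y : R3 S, x * y ≠ y * x := by
  obtain ⟨x, hx, y, hy, e⟩ := exists_comm_p (S := S)
  refine ⟨⟨x, hx⟩, ⟨y, hy⟩, fun h => ?_⟩
  rw [commutatorElement_eq_one_iff_mul_comm.2 (congrArg Subtype.val h)] at e
  simpa [← e] using S.ord_p

theorem norm_R3_le : normalizer (R3 S : Set G) ≤ normalizer (zpowers S.p : Set G) := by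
  have := Fact.mk Nat.prime_three
  have h1 : zpowers S.p = (center (R3 S)).map (R3 S).subtype := eq_of_le_of_card_ge
    (zpowers_le.2 ⟨⟨_, p_mem_R3⟩, mem_center_iff.2 fun g => Subtype.ext (mem_pre_X0.1 (R3_le g.2)).2, rfl⟩)
    (by rw [card_subtype, (H73.isExtraspecial_of_card_eq_cube (p := 3) card_R3 R3_not_comm).2, Nat.card_zpowers, S.ord_p])
  intro g hg
  refine mem_normalizer_of_conj_mem ?_
  rw [h1]
  rintro _ ⟨c, hc, rfl⟩
  refine ⟨⟨_, (mem_normalizer_iff.1 hg _).1 c.2⟩, mem_center_iff.2 fun r => Subtype.ext ?_, rfl⟩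
  have := congrArg Subtype.val (mem_center_iff.1 hc ⟨_, (mem_normalizer_iff''.1 hg _).1 r.2⟩)
  simp only [coe_mul] at this ⊢
  calc _ = g * (g⁻¹ * r * g * c) * g⁻¹ := by group
    _ = _ := by rw [this]; group

theorem isSylowIn_R3_H : IsSylowIn 3 (R3 S) S.H := by
  refine ⟨R3_le_H, isPGroup_R3, ?_⟩
  have := H2.card_inf_mul_relIndex (R3 S) S.H
  rw [inf_eq_left.2 R3_le_H, card_R3, card_H] at this
  omega

omit [Finite G] in
/-- the elements of order 3 of `C(p)` -/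
theorem three_pre_X0 {x a : G} (hx : x ∈ S.H) (hx3 : x ^ 3 = 1) (e : S.pi x = xb) (ha : a ∈ S.pre X0)
    (h3 : a ^ 3 = 1) : a ∈ zpowers S.p ∨ ∃ g ∈ S.pre X0, g * a * g⁻¹ = x := by
  obtain ⟨h1, h2⟩ := mem_pre.1 ha
  rcases three_X0 h2 (by rw [← pr_apply, ← map_pow, ← pi_pow h1, h3, pi_one, map_one]) with h | ⟨b, hb, h⟩
  · exact Or.inl (mem_zpowers_p h1 h3 h)
  obtain ⟨g, hg, rfl⟩ := exists_pi (S := S) (X0_le_Hb hb)
  exact Or.inr ⟨g, mem_pre.2 ⟨hg, hb⟩, conj_eq_of_pi hg h1 hx h3 hx3 (h.trans e.symm)⟩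

end One

variable {G : Type*} [Group G] [Finite G] {S : Setup G}

theorem norm_p_le : normalizer (zpowers S.p : Set G) ≤ S.H := by
  intro g hg
  have h0 : S.pre X0 = centralizer (zpowers S.p : Set G) := by
    rw [zpowers_eq_closure, centralizer_closure, cent_p_eq]
  have h1 : g ∈ normalizer (S.pre X0 : Set G) := by
    rw [h0]
    refine mem_normalizer_of_conj_mem fun x hx r hr => ?_
    calc _ = g * (g⁻¹ * r * g * x) * g⁻¹ := by group
      _ = _ := by rw [hx _ ((mem_normalizer_iff''.1 hg _).1 hr)]; group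
  have h2 := (mem_normalizer_iff.1 h1 _).1 (z_mem_pre (S := S.toSetup1) X0)
  have h3 := mem_ker_toM22.1 (ker_toM22.ge (mem_center_iff (z := ⟨_, h2⟩).2 fun r => Subtype.ext (by
    have := S.mem_H.1 (mem_pre.1 ((mem_normalizer_iff''.1 h1 _).1 r.2)).1
    simp only [coe_mul]
    calc _ = g * (g⁻¹ * r * g * S.z) * g⁻¹ := by group
      _ = _ := by rw [this]; group)))
  have h4 := (mem_pre.1 h2).1
  have h5 : S.pi (g * S.z * g⁻¹) = 1 := by
    have h6 : orderOf (S.pi (g * S.z * g⁻¹)) ∣ 2 := orderOf_dvd_of_pow_eq_one (by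
      rw [← pi_pow h4, conj_pow, pow_two, S.z_mul_z]; simpa using pi_one)
    have h7 := orderOf_dvd_of_mem_zpowers h3
    rw [orderOf_om] at h7
    exact orderOf_eq_one_iff.1 (Nat.eq_one_of_dvd_coprimes (by decide) h6 h7)
  exact S.mem_H.2 (mul_inv_eq_iff_eq_mul.1
    (((pi_eq_one h4).1 h5).resolve_left fun e => S.z_ne_one (conj_eq_one_iff.1 e)))

theorem norm_p_eq : normalizer (zpowers S.p : Set G) = S.pre X := by rw [pre_X, inf_eq_right.2 norm_p_le]

theorem norm_R3 : normalizer (R3 S.toSetup1 : Set G) = S.pre NRb := by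
  ext g
  refine ⟨fun hg => ?_, fun hg => mem_normalizer_of_conj_mem fun r hr => ?_⟩
  · obtain ⟨h1, h2⟩ := mem_pre.1 (norm_p_eq.le (norm_R3_le hg))
    refine mem_pre.2 ⟨h1, (mem_NRb h2).2 fun b hb => ?_⟩
    obtain ⟨r, hr, rfl⟩ := exists_R3_lift (S := S.toSetup1) hb
    rw [← pi_conj h1 (R3_le_H hr)]
    exact (mem_pre.1 (mem_R3.1 ((mem_normalizer_iff.1 hg _).1 hr)).1).2
  · obtain ⟨h1, h2⟩ := mem_pre.1 hg
    obtain ⟨h3, h4⟩ := mem_pre.1 (mem_R3.1 hr).1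
    refine mem_R3.2 ⟨mem_pre.2 ⟨mul_mem (mul_mem h1 h3) (inv_mem h1), ?_⟩, by
      rw [conj_pow, (mem_R3.1 hr).2]; simp⟩
    rw [pi_conj h1 h3]
    exact (mem_NRb h2.1).1 h2 _ h4

theorem card_norm_R3 : Nat.card (normalizer (R3 S.toSetup1 : Set G)) = 864 := by
  rw [norm_R3, card_pre (A := NRb) (inf_le_left.trans X_le_Hb), card_NRb]

theorem isSylowIn_R3 : IsSylowIn 3 (R3 S.toSetup1) ⊤ := by
  have := Fact.mk Nat.prime_three
  refine IsSylowIn.of_maximal le_top isPGroup_R3 fun Q hQ _ h => by_contra fun e => ?_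
  have h1 := lt_inf_normalizer hQ (lt_of_le_of_ne h (Ne.symm e))
  exact h1.ne' (isSylowIn_R3_H.eq_of_le (hQ.to_le inf_le_left)
    (inf_le_right.trans (norm_R3_le.trans norm_p_le)) h1.le)

omit [Finite G] in
theorem isConj_p_nb : IsConj S.p (S.th nb) := by
  obtain ⟨c, hc, e⟩ := nb_conj
  refine isConj_iff.2 ⟨S.th c, ?_⟩
  rw [← th_eN17, ← th_conj hc (eN_mem 17), e, mul_inv_cancel_right]

theorem conj_three {x : G} (h : orderOf x = 3) : IsConj S.p x := by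
  classical
  have := Fact.mk Nat.prime_three
  obtain ⟨g, -, hg⟩ := (isSylowIn_R3 (S := S)).exists_conj (Q := zpowers x)
    (IsPGroup.of_card (n := 1) (by rw [Nat.card_zpowers, h, pow_one])) le_top
  have h1 := hg x (mem_zpowers x)
  refine IsConj.trans ?_ (isConj_iff.2 ⟨g, rfl⟩).symm
  rcases three_pre_X0 (th_gam gam_nb).1 (by rw [← th_pow nb_mem, nb_cube, th_one]) (th_gam gam_nb).2
    (R3_le h1) (mem_R3.1 h1).2 with h2 | ⟨l, -, h2⟩
  · rw [← mem_powers_iff_mem_zpowers, mem_powers_iff_mem_range_orderOf, S.ord_p] at h2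
    obtain ⟨k, hk, e⟩ := Finset.mem_image.1 h2
    rw [Finset.mem_range] at hk
    rw [← e]
    interval_cases k
    · rw [pow_zero, eq_comm, conj_eq_one_iff] at e
      simp [e] at h
    · rw [pow_one]
    · rw [show S.p ^ 2 = S.p⁻¹ from eq_inv_of_mul_eq_one_left (by rw [← pow_succ, p_cube])]
      exact isConj_p_inv
  · exact isConj_p_nb.trans (isConj_iff.2 ⟨l, h2⟩).symm

theorem perfect_pre_X0 : ⁅S.pre X0, S.pre X0⁆ = S.pre X0 := by
  set D := ⁅S.pre X0, S.pre X0⁆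
  have hE : ∀ n ∈ [0x600, 0x7da, 0x1da, 0x8bc, 0xdfe], Vb.of n ∈ Ev := fun n hn => (duad_facts n hn).1.mem_Ev
  have h1 : ∀ n ∈ [0x600, 0x7da, 0x1da, 0x8bc, 0xdfe],
      S.th (tr (Vb.of 0x600)) * (S.th (tr (Vb.of n)))⁻¹ ∈ D := fun n hn => by
    have h2 := (duad_facts n hn).1
    rcases inv_pre_X0 (duad_mem (S := S) hn) (th_tr_sq h2.mem_Ev) with e | e | ⟨g, hg, e | e⟩
    · exact absurd (tr_eq_one.1 ((th_eq_one (tr_mem_Ns.2 h2.mem_Ev)).1 e)) (IsDuad.ne_zero h2)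
    · exact absurd (by rw [e]) (not_isConj_duad (S := S) h2)
    · rw [← eN7, ← e]
      exact commutator_mem_commutator hg (duad_mem hn)
    · refine absurd (IsConj.trans ?_ (isConj_iff.2 ⟨g, e⟩).symm) (not_isConj_duad (S := S) h2)
      rw [eN7, ← th_zN, zN, ← th_tr_add (hE _ (by decide)) (tr_mem_Ns.1 zN_mem)]
      exact th_zN (S := S) ▸ isConj_sextet (mem_Ev'.2 (by decide +kernel)) (by decide)
        (by rw [isDuad_iff]; decide +kernel)
  have h2 : S.th (tr (Vb.of 0x1da)) ∈ D := by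
    have := h1 0x7da (by decide)
    rwa [inv_eq_of_mul_eq_one_right (th_tr_sq (hE _ (by decide))),
      ← th_tr_add (hE _ (by decide)) (hE _ (by decide))] at this
  have h3 := (mul_mem_cancel_right (inv_mem h2)).1 (h1 0x1da (by decide))
  have h4 : ∀ n ∈ [0x600, 0x7da, 0x1da, 0x8bc, 0xdfe], S.th (tr (Vb.of n)) ∈ D := fun n hn =>
    inv_mem_iff.1 ((mul_mem_cancel_left h3).1 (h1 n hn))
  have hz : S.z ∈ D := by
    have := mul_mem (mul_mem h3 (h4 0x8bc (by decide))) (h4 0xdfe (by decide))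
    rwa [← th_tr_add (hE _ (by decide)) (hE _ (by decide)), ← th_tr_add (Ev.add_mem (hE _ (by decide))
      (hE _ (by decide))) (hE _ (by decide)), show Vb.of 0x600 + Vb.of 0x8bc + Vb.of 0xdfe = zs by decide,
      ← zN, th_zN] at this
  have hp : S.p ∈ D := by
    obtain ⟨x, hx, y, hy, e⟩ := exists_comm_p (S := S.toSetup1)
    exact e ▸ commutator_mem_commutator (R3_le hx) (R3_le hy)
  refine le_antisymm (commutator_le.2 fun a ha b hb =>
    mul_mem (mul_mem (mul_mem ha hb) (inv_mem ha)) (inv_mem hb)) fun g hg => ?_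
  have h5 : toM22 S.toSetup1 ⟨g, hg⟩ ∈ (commutator (S.pre X0)).map (toM22 S.toSetup1) := by
    rw [map_commutator_eq, MonoidHom.range_eq_top.2 toM22_surj]
    exact commutator_M22.ge trivial
  obtain ⟨c, hc, e⟩ := h5
  have h6 : (c : G) ∈ D := (map_subtype_commutator (S.pre X0)).le ⟨c, hc, rfl⟩
  have h7 : c⁻¹ * ⟨g, hg⟩ ∈ (toM22 S.toSetup1).ker := by
    rw [MonoidHom.mem_ker, map_mul, map_inv, e, inv_mul_cancel]
  refine (mul_mem_cancel_left (inv_mem h6)).1 ?_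
  obtain ⟨k, e | e⟩ := mem_pre_om (mem_pre.2 ⟨(mem_pre.1 (c⁻¹ * ⟨g, hg⟩).2).1, mem_ker_toM22.1 h7⟩)
  · rw [show (c : G)⁻¹ * g = _ from e]; exact zpow_mem hp k
  · rw [show (c : G)⁻¹ * g = _ from e]; exact mul_mem (zpow_mem hp k) hz

/-- every Sylow 3-subgroup of `G` inside `H` is conjugate to `R3` in `H` -/
theorem exists_conj_R3 (R : Sylow 3 G) (hR : (R : Subgroup G) ≤ S.H) :
    ∃ g ∈ S.H, (R : Subgroup G) = (R3 S.toSetup1).map (MulAut.conj g).toMonoidHom := by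
  have := Fact.mk Nat.prime_three
  obtain ⟨g, hg, h⟩ := (isSylowIn_R3_H (S := S.toSetup1)).exists_conj R.2 hR
  refine ⟨g⁻¹, inv_mem hg, eq_of_le_of_card_ge (fun x hx => mem_map_conj.2 (by simpa using h x hx)) ?_⟩
  rw [card_map_conj]
  exact (isSylowIn_top R).card_le isPGroup_R3 le_top

end Cfsg.Agent.H80.J4
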