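import Mathlib
import Cfsg.Agent.H80.MCSub

/-! Power subgroups of metacyclic `p`-groups, `p` odd. -/

set_option autoImplicit false

namespace Cfsg.Agent.H80

open Subgroup

variable {G : Type*} [Group G] {p : ℕ}

namespace MC

variable (M : MC p G) [Finite G] [hp : Fact p.Prime] {n : ℕ}

omit [Finite G] in
theorem nsmul_phi_eq_zero_iff (hp2 : p ≠ 2) (hq : orderOf M.c = p ^ n) {s : ℕ} (hs : s ≤ n)
    (i j : ℕ) : p ^ (n - s) • M.phi (p ^ n) (M.a ^ i * M.b ^ j) = 0 ↔ p ^ s ∣ i ∧ p ^ s ∣ j := by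
  have key : ∀ t : ℕ, p ^ (n - s) • (t : ZMod (p ^ n)) = 0 ↔ p ^ s ∣ t := by
    intro t
    rw [nsmul_eq_mul, ← Nat.cast_mul, ZMod.natCast_eq_zero_iff]
    conv_lhs => rw [show p ^ n = p ^ (n - s) * p ^ s by rw [← pow_add, Nat.sub_add_cancel hs]]
    exact Nat.mul_dvd_mul_iff_left (pow_pos hp.out.pos _)
  rw [M.phi_eq hq, Prod.smul_mk, Prod.mk_eq_zero, key, key, br, pow_dvd_geo_iff hp.out hp2 M.dvd]

theorem mem_closure_pow_iff (hp2 : p ≠ 2) (hq : orderOf M.c = p ^ n) {s : ℕ} (hs : s ≤ n) (g : G) :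
    g ∈ closure {x : G | ∃ y : G, y ^ p ^ s = x} ↔ p ^ (n - s) • M.phi (p ^ n) g = 0 := by
  constructor
  · intro h
    have : closure {x : G | ∃ y : G, y ^ p ^ s = x} ≤
        M.pre hq (nsmulAddMonoidHom (p ^ (n - s))).ker := by
      rw [closure_le]
      rintro _ ⟨y, rfl⟩
      obtain ⟨i, j, rfl⟩ := M.gen y
      change p ^ (n - s) • M.phi (p ^ n) _ = 0
      rw [M.pow_eq, M.nsmul_phi_eq_zero_iff hp2 hq hs, M.r_pow]
      exact ⟨Dvd.dvd.mul_left ((pow_dvd_geo_iff hp.out hp2 (M.dvd_mul_br j) _ _).2 dvd_rfl) _,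
        Dvd.intro_left _ rfl⟩
    exact this h
  · intro h
    obtain ⟨i, j, rfl⟩ := M.gen g
    obtain ⟨⟨u, rfl⟩, ⟨v, rfl⟩⟩ := (M.nsmul_phi_eq_zero_iff hp2 hq hs i j).1 h
    refine mul_mem (subset_closure ⟨M.a ^ u, ?_⟩) (subset_closure ⟨M.b ^ v, ?_⟩) <;>
    rw [← pow_mul, mul_comm]

end MC

end Cfsg.Agent.H80
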