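import Cfsg.Agent.H80.Cover
import Cfsg.Agent.H4.ZJe
import Cfsg.Agent.H4.SCN
import Cfsg.Agent.H20.Frattini
import Cfsg.Agent.H2.MinNormal
import Cfsg.Agent.H2.Basic
import Cfsg.Agent.S0117
import Cfsg.Agent.S0035
import Cfsg.Agent.S0039
import Cfsg.Agent.H2.FpfCyclic
import Cfsg.Agent.H22.Core
import Cfsg.Agent.H3.NilpotentHall

/-! Normal subgroups whose non-central elements have maximal centralisers. -/

set_option autoImplicit false

namespace Cfsg.Agent.H80

open Subgroup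
open scoped commutatorElement

variable {G : Type*} [Group G]

theorem centralizer_mul_le [Finite G] {x y : G} (h : Commute x y) (hc : (orderOf x).Coprime (orderOf y)) :
    centralizer {x * y} ≤ centralizer {x} := by
  have h1 : x ∈ zpowers (x * y) := by
    have h2 := npow_mem_zpowers (x * y) (orderOf y)
    rw [h.mul_pow, pow_orderOf_eq_one, mul_one] at h2
    obtain ⟨m, hm⟩ := exists_pow_eq_self_of_coprime hc.symm
    have h3 := pow_mem h2 m
    rwa [hm] at h3
  rw [← centralizer_closure {x * y}, ← zpowers_eq_closure]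
  exact centralizer_le (Set.singleton_subset_iff.2 h1)

theorem exists_primary_not_mem [Finite G] {H : Subgroup G} {g : G} (hg : g ∉ H) :
    ∃ (r k : ℕ) (u : G), r.Prime ∧ u ∈ zpowers g ∧ u ∉ H ∧ orderOf u = r ^ k := by
  induction hn : orderOf g using Nat.strong_induction_on generalizing g with | _ n ih =>
  subst hn
  obtain ⟨r, hr, hd⟩ := Nat.exists_prime_and_dvd (mt orderOf_eq_one_iff.1 fun e : g = 1 => hg (e ▸ one_mem H))
  obtain ⟨u, v, h1, -, hu, hv, ⟨j, hj⟩, hvp⟩ := H31.exists_p_parts hr g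
  by_cases h2 : u ∈ H
  · obtain ⟨s, k, w, hs, hw, h3⟩ := ih _ (lt_of_le_of_ne (Nat.le_of_dvd (orderOf_pos g)
      (orderOf_dvd_of_mem_zpowers hv)) fun e => (hr.coprime_iff_not_dvd.1 hvp.symm) (e ▸ hd))
      (g := v) (fun h => hg (h1 ▸ mul_mem h2 h)) rfl
    exact ⟨s, k, w, hs, zpowers_le.2 hv hw, h3⟩
  · obtain ⟨k, -, hk⟩ := (Nat.dvd_prime_pow hr).1 (orderOf_dvd_of_pow_eq_one hj)
    exact ⟨r, k, u, hr, hu, h2, hk⟩

theorem exists_pow_not_mem {H : Subgroup G} {g : G} {p k : ℕ} (hg : g ∉ H) (hk : g ^ p ^ k ∈ H) :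
    ∃ j, g ^ p ^ j ∉ H ∧ (g ^ p ^ j) ^ p ∈ H := by
  induction k with
  | zero => exact absurd (by simpa using hk) hg
  | succ k ih =>
    by_cases h : g ^ p ^ k ∈ H
    · exact ih h
    · exact ⟨k, h, by rwa [← pow_mul, ← pow_succ]⟩

/-- The hypothesis: elements of `N` outside `C(N)` have maximal centralisers. -/
def MaxCent (N : Subgroup G) : Prop :=
  ∀ x ∈ N, x ∉ centralizer (N : Set G) → IsCoatom (centralizer ({x} : Set G))

variable [Finite G] {N : Subgroup G}

theorem MaxCent.eq (h : MaxCent N) {x y : G} (hx : x ∈ N) (hy : y ∈ N) (hx1 : x ∉ centralizer (N : Set G))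
    (hy1 : y ∉ centralizer (N : Set G)) (hxy : Commute x y) (hc : (orderOf x).Coprime (orderOf y)) :
    centralizer {x} = centralizer ({y} : Set G) := by
  have h1 := centralizer_mul_le hxy hc
  have h2 := h (x * y) (mul_mem hx hy) fun e => hx1 fun n hn =>
    mem_centralizer_singleton_iff.1 (h1 (mem_centralizer_singleton_iff.2 (e n hn)))
  have h3 := centralizer_mul_le hxy.symm hc.symm
  rw [← hxy.eq] at h3
  rw [(h2.le_iff_eq (h x hx hx1).1).1 h1, (h2.le_iff_eq (h y hy hy1).1).1 h3]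

theorem exists_normal_pgroup (N : Subgroup G) (hN : N.Normal) (h1 : N ≠ ⊥)
    (h : ∀ x ∈ N, x ≠ 1 → IsCoatom (centralizer ({x} : Set G))) :
    ∃ (p : ℕ) (K : Subgroup G), p.Prime ∧ K.Normal ∧ K ≠ ⊥ ∧ K ≤ N ∧ IsPGroup p K := by
  induction hn : Nat.card N using Nat.strong_induction_on generalizing N with | _ n ih =>
  subst hn
  by_contra hne
  have h2 : ∀ p : ℕ, p.Prime → ∀ K : Subgroup G, K.Normal → K ≤ N → IsPGroup p K → K = ⊥ :=
    fun p hp K h1 h2 h3 => by_contra fun h4 => hne ⟨p, K, hp, h1, h4, h2, h3⟩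
  obtain ⟨p, hp, hpd, hp2⟩ : ∃ p : ℕ, p.Prime ∧ p ∣ Nat.card N ∧ p ≠ 2 := by
    by_contra h3
    push Not at h3
    exact h1 (h2 2 Nat.prime_two N hN le_rfl (IsPGroup.of_card
      (Nat.eq_prime_pow_of_unique_prime_dvd Nat.card_pos.ne' fun hq hd => h3 _ hq hd)))
  have := Fact.mk hp
  obtain ⟨S⟩ : Nonempty (Sylow p N) := inferInstance
  have hP := H4.IsSylowIn.of_sylow S
  set P := (S : Subgroup N).map N.subtype with hPdef
  have hP1 : P ≠ ⊥ := fun e => hP.not_dvd (by rwa [e, relIndex_bot_left])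
  obtain ⟨x, hx, hx1, hxc⟩ := exists_central_of_nilpotent P hP.isPGroup.isNilpotent
    (ne_bot_iff_exists_ne_one.1 hP1).choose.2
    (fun e => (ne_bot_iff_exists_ne_one.1 hP1).choose_spec (Subtype.ext e))
  obtain ⟨k, hk⟩ := IsPGroup.iff_orderOf.1 hP.isPGroup ⟨x, hx⟩
  rw [← orderOf_coe] at hk
  have hM := h x (hP.le hx) hx1
  have hT : Group.IsNilpotent ↥(centralizer {x} ⊓ N) := by
    have h3 : IsPGroup p (↥(centralizer {x} ⊓ N) ⧸ center _) := fun t => by
      obtain ⟨t, rfl⟩ := QuotientGroup.mk_surjective t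
      obtain ⟨u, v, h1, h2, hu, hv, ⟨j, hj⟩, hvp⟩ := H31.exists_p_parts hp t
      refine ⟨j, ?_⟩
      rw [← QuotientGroup.mk_pow, QuotientGroup.eq_one_iff, h1, h2.mul_pow, hj, one_mul]
      refine pow_mem (mem_center_iff.2 fun g => Subtype.ext ?_) _
      by_cases hv1 : (v : G) = 1
      · simp [hv1]
      have h4 : Commute x v := (mem_centralizer_singleton_iff.1 v.2.1).symm
      have h5 : (orderOf x).Coprime (orderOf (v : G)) := by
        rw [hk, orderOf_coe]; exact hvp.symm.pow_left k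
      have h6 := h (x * v) (mul_mem (hP.le hx) v.2.2) fun e => hx1 (by
        rwa [eq_inv_of_mul_eq_one_right e, orderOf_inv, Nat.coprime_self, orderOf_eq_one_iff] at h5)
      have h7 := centralizer_mul_le h4.symm h5.symm
      rw [← h4.eq, ← (h6.le_iff_eq hM.1).1 (centralizer_mul_le h4 h5)] at h7
      exact mem_centralizer_singleton_iff.1 (h7 g.2.1)
    have := h3.isNilpotent
    exact Subgroup.isNilpotent_of_ker_le_center (QuotientGroup.mk' (center _)) (QuotientGroup.ker_mk' _).le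
  have hPT := hP.mono (L := centralizer {x} ⊓ N)
    (le_inf (fun y hy => mem_centralizer_singleton_iff.2 (hxc y hy)) hP.le) inf_le_right
  have h3 : centralizer {x} ≤ normalizer (P : Set G) := fun m hm => by
    refine H4.mem_normalizer_of_conj_mem fun y hy => ?_
    obtain ⟨g, hg, h4⟩ := hPT.exists_conj (Q := P.map (MulAut.conj m).toMonoidHom) (hP.isPGroup.map _) (by
      rintro _ ⟨z, hz, rfl⟩
      exact mem_inf.2 ⟨mul_mem (mul_mem hm (mem_inf.1 (hPT.le hz)).1) (inv_mem hm), hN.conj_mem _ (hP.le hz) m⟩)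
    have h5 : (P.subgroupOf (centralizer {x} ⊓ N)).Normal := hPT.coe_toSylow ▸ inferInstance
    exact (mem_normalizer_iff.1 ((normal_subgroupOf_iff_le_normalizer hPT.le).1 h5 hg) _).2
      (h4 _ ⟨y, hy, rfl⟩)
  have h4 := (hM.le_iff_eq (b := normalizer (centerThompsonOf p P : Set G)) fun e =>
    H4.centerThompsonOf_ne_bot hP.isPGroup hP1 (h2 p hp _ (normalizer_eq_top_iff.1 e)
      ((H4.centerThompsonOf_le p P).trans hP.le)
      (hP.isPGroup.to_le (H4.centerThompsonOf_le p P)))).1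
    (h3.trans (H4.normalizer_le_normalizer_centerThompsonOf p P))
  have h5 : HasNormalPComplement p N := by
    refine (S0117.result hp2 S).2 (H3.hasNormalPComplement_of_injective
      ((N.subtype.comp (Subgroup.subtype _)).codRestrict (centralizer {x} ⊓ N) fun n => ⟨?_, n.1.2⟩)
      (fun a b e => Subtype.ext (Subtype.ext (congrArg (fun g : ↥(centralizer {x} ⊓ N) => (g : G)) e)))
      H3.hasNormalPComplement_of_isNilpotent)
    rw [← h4, hPdef, ← H4.centerThompsonOf_map_of_disjoint p (by simp)]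
    exact le_normalizer_map _ ⟨n.1, n.2, rfl⟩
  have h6 := H3.hasNormalPComplement_iff_coprime.1 h5
  have h7 : ((pResidual p N).map N.subtype).Normal := inferInstance
  rw [← card_map_of_injective N.subtype_injective] at h6
  by_cases h8 : (pResidual p N).map N.subtype = ⊥
  · refine h1 (h2 p hp N hN le_rfl ?_)
    rw [map_eq_bot_iff_of_injective _ N.subtype_injective] at h8
    obtain ⟨T, K, hK, hc⟩ := h5
    rw [H3.eq_pResidual_of_isComplement' T K hc, h8, isComplement'_bot_left] at hc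
    exact (hc ▸ T.isPGroup').of_equiv topEquiv
  · obtain ⟨q, K, h9, h10, h11, h12, h13⟩ := ih _ (H2.card_lt_of_lt (lt_of_le_of_ne (map_subtype_le _)
      fun e => hp.coprime_iff_not_dvd.1 h6.symm (e.symm ▸ hpd))) _ h7 h8
      (fun y hy => h y (map_subtype_le _ hy)) rfl
    exact hne ⟨q, K, h9, h10, h11, h12.trans (map_subtype_le _), h13⟩

theorem MaxCent.exists_min [hN : N.Normal] (h : MaxCent N) (h1 : ¬ N ≤ centralizer (N : Set G)) :
    ∃ (p : ℕ) (K : Subgroup G), p.Prime ∧ K.Normal ∧ N ⊓ centralizer (N : Set G) < K ∧ K ≤ N ∧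
      (∀ a ∈ K, a ^ p ∈ centralizer (N : Set G)) ∧ (∀ a ∈ K, ∀ b ∈ K, ⁅a, b⁆ ∈ centralizer (N : Set G)) ∧
      ∀ L : Subgroup G, L.Normal → N ⊓ centralizer (N : Set G) ≤ L → L ≤ K →
        L = N ⊓ centralizer (N : Set G) ∨ L = K := by
  set Z := N ⊓ centralizer (N : Set G) with hZ
  let f := QuotientGroup.mk' Z
  have hf : Function.Surjective f := QuotientGroup.mk'_surjective Z
  have hker : f.ker = Z := QuotientGroup.ker_mk' Z
  obtain ⟨K, hK, hK1, hKN, hKs⟩ : ∃ K : Subgroup (G ⧸ Z), K.Normal ∧ K ≠ ⊥ ∧ K ≤ N.map f ∧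
      Group.IsSolvable K := by
    by_cases h2 : N.map f ⊓ center _ = ⊥
    · obtain ⟨p, K, hp, h3, h4, h5, h6⟩ := exists_normal_pgroup (N.map f) (hN.map f hf) (by
          rw [Ne, Subgroup.map_eq_bot_iff, hker]; exact fun e => h1 (e.trans inf_le_right)) (by
        rintro _ ⟨x, hx, rfl⟩ hx1
        have h3 := H2.isCoatom_map_of_surjective hf (h x hx fun e =>
          hx1 ((QuotientGroup.eq_one_iff x).2 ⟨hx, e⟩))
          (hker.le.trans fun z hz => mem_centralizer_singleton_iff.2 (hz.2 x hx).symm)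
        rwa [(h3.le_iff_eq (b := centralizer {f x}) fun e => hx1 (h2.le ⟨⟨x, hx, rfl⟩,
          centralizer_eq_top_iff_subset.1 e rfl⟩)).1 ?_]
        rintro _ ⟨c, hc, rfl⟩
        rw [mem_centralizer_singleton_iff, ← map_mul, mem_centralizer_singleton_iff.1 hc, map_mul])
      have := Fact.mk hp
      have := h6.isNilpotent
      exact ⟨K, h3, h4, h5, inferInstance⟩
    · have : IsMulCommutative ↥(N.map f ⊓ center _) :=
        H2.isMulCommutative_of_forall fun x _ y hy => mem_center_iff.1 hy.2 x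
      exact ⟨_, normal_inf_normal _ _ (hH := hN.map f hf), h2, inf_le_left,
        Group.isSolvable_of_comm this.is_comm.comm⟩
  obtain ⟨M, p, hp, hM, hM1, hMK, hMc, -, hMe, hmin⟩ :=
    H2.exists_minimal_normal_le_of_solvable K hK hKs hK1
  have h2 : Z ≤ M.comap f := QuotientGroup.le_comap_mk' Z M
  refine ⟨p, M.comap f, hp, inferInstance, lt_of_le_of_ne h2 fun e => hM1 ?_, ?_, fun a ha => ?_,
    fun a ha b hb => ?_, fun L hL h3 h4 => ?_⟩
  · rw [← map_comap_eq_self_of_surjective hf M, ← e, QuotientGroup.map_mk'_self]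
  · exact (comap_mono (hMK.trans hKN)).trans (by rw [comap_map_eq, hker, sup_eq_left.2 inf_le_left])
  · exact ((QuotientGroup.eq_one_iff (N := Z) _).1 (hMe _ ha)).2
  · refine ((QuotientGroup.eq_one_iff (N := Z) _).1 ?_).2
    exact (map_commutatorElement f a b).trans
      (commutatorElement_eq_one_iff_mul_comm.2 (H2.mul_comm_of_mem hMc ha hb))
  · refine (hmin (L.map f) (hL.map f hf) (map_le_iff_le_comap.2 h4)).imp (fun e => ?_) fun e => ?_
    · exact le_antisymm (hker ▸ (Subgroup.map_eq_bot_iff _).1 e) h3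
    · rw [← e, comap_map_eq, hker, sup_eq_left.2 h3]

theorem MaxCent.elementary [hN : N.Normal] (h : MaxCent N) {p : ℕ} (hp : p.Prime)
    (h1 : ∀ x ∈ N, ∃ k, x ^ p ^ k ∈ centralizer (N : Set G)) :
    (∀ a ∈ N, a ^ p ∈ centralizer (N : Set G)) ∧ ∀ a ∈ N, ∀ b ∈ N, ⁅a, b⁆ ∈ centralizer (N : Set G) := by
  have := Fact.mk hp
  let f := QuotientGroup.mk' (centralizer (N : Set G))
  have hf : Function.Surjective f := QuotientGroup.mk'_surjective _
  have hn := hN.map f hf
  have h2 := (H3.map_frattini_le_iff (H := N.map f) (by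
    rintro ⟨_, x, hx, rfl⟩
    obtain ⟨k, hk⟩ := h1 x hx
    exact ⟨k, Subtype.ext ((QuotientGroup.eq_one_iff _).2 hk)⟩)).1 (H20.map_frattini_le (N.map f))
  have key : ∀ a ∈ N, f a ∈ frattini _ → a ∈ centralizer (N : Set G) := fun a haN ha x hx => by
    by_cases hx1 : x ∈ centralizer (N : Set G)
    · exact (hx1 a haN).symm
    have h3 : f.ker ≤ centralizer {x} := (QuotientGroup.ker_mk' _).le.trans
      (centralizer_le (Set.singleton_subset_iff.2 hx))
    have h4 := H3.mem_frattini_iff.1 ha _ (H2.isCoatom_map_of_surjective hf (h x hx hx1) h3)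
    rw [← mem_comap, comap_map_eq, sup_eq_left.2 h3] at h4
    exact (mem_centralizer_singleton_iff.1 h4).symm
  exact ⟨fun a ha => key _ (pow_mem ha p) (h2.2 _ ⟨a, ha, rfl⟩), fun a ha b hb => key _
    (commutator_le_left N N (commutator_mem_commutator ha hb)) (h2.1 (by
    rw [map_commutatorElement]; exact commutator_mem_commutator ⟨a, ha, rfl⟩ ⟨b, hb, rfl⟩))⟩

theorem MaxCent.structure [hN : N.Normal] (h : MaxCent N) :
    (∃ p : ℕ, p.Prime ∧ (∀ a ∈ N, a ^ p ∈ centralizer (N : Set G)) ∧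
      ∀ a ∈ N, ∀ b ∈ N, ⁅a, b⁆ ∈ centralizer (N : Set G)) ∨
    ∃ (p q : ℕ) (K : Subgroup G) (y : G), p.Prime ∧ q.Prime ∧ p ≠ q ∧ K.Normal ∧
      N ⊓ centralizer (N : Set G) < K ∧ K ⊔ zpowers y = N ∧ y ∉ K ∧ y ^ q ∈ centralizer (N : Set G) ∧
      (∀ a ∈ K, a ^ p ∈ centralizer (N : Set G)) ∧ (∀ a ∈ K, ∀ b ∈ K, Commute a b) ∧
      (∀ a ∈ K, Commute a y → a ∈ centralizer (N : Set G)) ∧
      ∀ L : Subgroup G, L.Normal → N ⊓ centralizer (N : Set G) ≤ L → L ≤ K →
        L = N ⊓ centralizer (N : Set G) ∨ L = K := by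
  by_cases h0 : N ≤ centralizer (N : Set G)
  · exact Or.inl ⟨2, Nat.prime_two, fun a ha => h0 (pow_mem ha 2), fun a ha b hb =>
      h0 (commutator_le_left N N (commutator_mem_commutator ha hb))⟩
  obtain ⟨p, K, hp, hK, hZK, hKN, hKe, hKc, hmin⟩ := h.exists_min h0
  by_cases h1 : ∀ x ∈ N, ∃ k, x ^ p ^ k ∈ centralizer (N : Set G)
  · exact Or.inl ⟨p, hp, h.elementary hp h1⟩
  right
  set D := centralizer (N : Set G) with hD
  have hDc : ∀ x ∈ N, D ≤ centralizer {x} := fun x hx => centralizer_le (Set.singleton_subset_iff.2 hx)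
  have hpp : ∀ x : G, ∃ u v : G, x = u * v ∧ u ∈ zpowers x ∧ v ∈ zpowers x ∧ (∃ k, orderOf u = p ^ k) ∧
      (∃ k, x ^ p ^ k = v ^ p ^ k) ∧ (orderOf v).Coprime p := fun x => by
    obtain ⟨u, v, h1, h2, hu, hv, ⟨j, hj⟩, hvp⟩ := H31.exists_p_parts hp x
    obtain ⟨k, -, hk⟩ := (Nat.dvd_prime_pow hp).1 (orderOf_dvd_of_pow_eq_one hj)
    exact ⟨u, v, h1, hu, hv, ⟨k, hk⟩, ⟨j, by rw [h1, h2.mul_pow, hj, one_mul]⟩, hvp⟩
  have hvK : ∀ v ∈ K, (orderOf v).Coprime p → v ∈ D := fun v hv hc => by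
    obtain ⟨m, hm⟩ := exists_pow_eq_self_of_coprime hc.symm
    exact hm ▸ pow_mem (hKe v hv) m
  -- a good `p'`-element of prime power order
  obtain ⟨q0, k0, y0, hq0, hq0p, hy0N, hy0D, hy0⟩ : ∃ (q k : ℕ) (y : G), q.Prime ∧ q ≠ p ∧ y ∈ N ∧ y ∉ D ∧
      orderOf y = q ^ k := by
    push Not at h1
    obtain ⟨x, hx, h1⟩ := h1
    obtain ⟨u, v, -, -, hv, -, ⟨j, hj⟩, hvp⟩ := hpp x
    obtain ⟨q, k, y, hq, hy, hyD, hk⟩ := exists_primary_not_mem (H := D) (g := v)
      fun e => h1 j (hj ▸ pow_mem e _)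
    refine ⟨q, k, y, hq, ?_, zpowers_le.2 (zpowers_le.2 hx hv) hy, hyD, hk⟩
    rintro rfl
    have h2 := Nat.Coprime.coprime_dvd_left (orderOf_dvd_of_mem_zpowers hy) hvp
    rcases k with _ | k
    · exact hyD (orderOf_eq_one_iff.1 hk ▸ one_mem _)
    · exact hq.coprime_iff_not_dvd.1 h2.symm (hk ▸ dvd_pow_self q k.succ_ne_zero)
  have hcop : ∀ {a b : G} {r s i j : ℕ}, r.Prime → s.Prime → r ≠ s → orderOf a = r ^ i → orderOf b = s ^ j →
      (orderOf a).Coprime (orderOf b) := fun hr hs hrs ha hb =>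
    ha ▸ hb ▸ Nat.coprime_pow_primes _ _ hr hs hrs
  have htop : ∀ x ∈ N, x ∉ D → ∀ L : Subgroup G, ¬ L ≤ centralizer {x} → centralizer {x} ⊔ L = ⊤ :=
    fun x hx hxD L hL => (h x hx hxD).2 _ (left_lt_sup.2 hL)
  have hNc : ∀ x ∈ N, x ∉ D → ¬ N ≤ centralizer {x} := fun x _ hxD e =>
    hxD fun n hn => mem_centralizer_singleton_iff.1 (e hn)
  -- central `p`-elements of `N` are central in `G`
  have hZ : ∀ z ∈ N, z ∈ D → ∀ k, orderOf z = p ^ k → z ∈ center G := fun z hz hzD k hk => by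
    have h2 := centralizer_mul_le (show Commute y0 z from hzD y0 hy0N) (hcop hq0 hp hq0p hy0 hk)
    have h3 := centralizer_mul_le (show Commute y0 z from hzD y0 hy0N).symm (hcop hp hq0 hq0p.symm hk hy0)
    rw [← hzD y0 hy0N, ← ((h _ (mul_mem hy0N hz) (by rwa [mul_mem_cancel_right hzD])).le_iff_eq
      (h y0 hy0N hy0D).1).1 h2] at h3
    have h4 := (htop y0 hy0N hy0D N (hNc y0 hy0N hy0D)).ge.trans
      (sup_le h3 fun n hn => mem_centralizer_singleton_iff.2 (hzD n hn))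
    exact mem_center_iff.2 fun g => mem_centralizer_singleton_iff.1 (h4 (mem_top g))
  have hKx : ∀ x ∈ K, ∀ k, orderOf x = p ^ k → K ≤ centralizer {x} := fun x hx k hk => by
    by_cases hxD : x ∈ D
    · exact fun a ha => mem_centralizer_singleton_iff.2 (hxD a (hKN ha))
    have hM := h x (hKN hx) hxD
    have h2 : K ≤ normalizer (centralizer {x} : Subgroup G) := fun a ha => by
      have h3 := hKc a ha x hx
      have h4 : ⁅a, x⁆ ^ p ^ k = 1 := by
        rw [← H3.commutator_pow_right_of_commute (h3 x (hKN hx)), ← hk, pow_orderOf_eq_one,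
          commutatorElement_one_right]
      obtain ⟨j, -, hj⟩ := (Nat.dvd_prime_pow hp).1 (orderOf_dvd_of_pow_eq_one h4)
      have h5 := mem_center_iff.1 (hZ _ (commutator_le_left N N
        (commutator_mem_commutator (hKN ha) (hKN hx))) (by
          exact h3) j hj)
      refine inv_mem_iff.1 (H4.mem_normalizer_of_conj_mem fun c hc => ?_)
      rw [mem_centralizer_singleton_iff] at hc ⊢
      have h6 : a * x * a⁻¹ = ⁅a, x⁆ * x := by rw [commutatorElement_def]; group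
      calc a⁻¹ * c * a⁻¹⁻¹ * x = a⁻¹ * (c * (a * x * a⁻¹)) * a := by group
        _ = a⁻¹ * ((a * x * a⁻¹) * c) * a := by rw [h6, ← mul_assoc c, h5 c, mul_assoc _ c, hc, mul_assoc _ x]
        _ = _ := by group
    rcases hM.le_iff.1 (le_normalizer (H := centralizer {x})) with h3 | h3
    · have := normalizer_eq_top_iff.1 h3
      rcases hmin (K ⊓ centralizer {x}) inferInstance
        (le_inf hZK.le (inf_le_right.trans (hDc x (hKN hx)))) inf_le_left with h4 | h4
      · exact absurd (h4.le ⟨hx, mem_centralizer_singleton_iff.2 rfl⟩).2 hxD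
      · exact inf_eq_left.1 h4
    · exact h3 ▸ h2
  have hKa : ∀ a ∈ K, ∀ b ∈ K, Commute a b := fun a ha b hb => by
    obtain ⟨u, v, rfl, hu, hv, ⟨k, hk⟩, -, hvp⟩ := hpp b
    exact Commute.mul_right (mem_centralizer_singleton_iff.1 (hKx u (zpowers_le.2 hb hu) k hk ha))
      (hvK v (zpowers_le.2 hb hv) hvp a (hKN ha))
  obtain ⟨x, k, hx, hxD, hk⟩ : ∃ (x : G) (k : ℕ), x ∈ K ∧ x ∉ D ∧ orderOf x = p ^ k := by
    obtain ⟨b, hb, hbD⟩ := SetLike.exists_of_lt hZK
    obtain ⟨u, v, rfl, hu, hv, ⟨k, hk⟩, -, hvp⟩ := hpp b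
    exact ⟨u, k, zpowers_le.2 hb hu, fun e => hbD ⟨hKN hb, D.mul_mem e (hvK v (zpowers_le.2 hb hv) hvp)⟩, hk⟩
  have hM := h x (hKN hx) hxD
  by_cases h2 : ∀ (q j : ℕ) (y : G), q.Prime → q ≠ p → y ∈ N → y ∉ D → orderOf y = q ^ j →
      K ≤ centralizer {y}
  · exfalso
    have h3 : ∀ (q j : ℕ) (y : G), q.Prime → q ≠ p → y ∈ N → y ∉ D → orderOf y = q ^ j →
        centralizer {y} = centralizer ({x} : Set G) := fun q j y hq hqp hy hyD hj =>
      h.eq hy (hKN hx) hyD hxD (mem_centralizer_singleton_iff.1 (h2 q j y hq hqp hy hyD hj hx)).symm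
        (hcop hq hp hqp hj hk)
    obtain ⟨g0, hg0, hg0x⟩ := SetLike.not_le_iff_exists.1 (hNc x (hKN hx) hxD)
    obtain ⟨r, i, g, hr, hg, hgx, hi⟩ := exists_primary_not_mem hg0x
    replace hg := zpowers_le.2 hg0 hg
    have hgD : g ∉ D := fun e => hgx (hDc x (hKN hx) e)
    obtain rfl : r = p := by
      by_contra e
      exact hgx (h3 r i g hr e hg hgD hi ▸ mem_centralizer_singleton_iff.2 rfl)
    have h4 : ∀ t : G, centralizer {t * y0 * t⁻¹} = centralizer ({x} : Set G) := fun t =>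
      h3 q0 k0 _ hq0 hq0p (hN.conj_mem _ hy0N t) (fun e => hy0D (by simpa [mul_assoc] using Normal.conj_mem' inferInstance _ e t))
        (by rw [← hy0]; exact (MulAut.conj t).orderOf_eq y0)
    have h5 : normalClosure {y0} ≤ centralizer (centralizer ({x} : Set G)) := by
      rw [normalClosure, closure_le]
      intro w hw
      obtain ⟨_, rfl, hw'⟩ := Group.mem_conjugatesOfSet_iff.1 hw
      obtain ⟨t, rfl⟩ := isConj_iff.1 hw'
      exact fun c hc => mem_centralizer_singleton_iff.1 (h4 t ▸ hc)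
    have h6 : normalClosure {y0} ≤ centralizer {x} := h5.trans
      (centralizer_le (Set.singleton_subset_iff.2 (mem_centralizer_singleton_iff.2 rfl)))
    have hQ : IsMulCommutative (normalClosure ({y0} : Set G)) :=
      H2.isMulCommutative_of_forall fun a ha b hb => h5 hb a (h6 ha)
    have := H2.powKer_normal _ hQ (orderOf y0)
    have h7 : normalClosure {y0} ≤ H2.powKer _ hQ (orderOf y0) := normalClosure_le_normal
        (Set.singleton_subset_iff.2 (H2.mem_powKer.2 ⟨subset_normalClosure rfl, pow_orderOf_eq_one y0⟩))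
    have h8 := htop g hg hgD (normalClosure {y0}) fun e => hgx (by
      rw [← h3 q0 k0 y0 hq0 hq0p hy0N hy0D hy0, h.eq hy0N hg hy0D hgD
        (mem_centralizer_singleton_iff.1 (e (subset_normalClosure rfl))) (hcop hq0 hp hq0p hy0 hi)]
      exact mem_centralizer_singleton_iff.2 rfl)
    have h9 : x ∈ ((centralizer {g} ⊔ normalClosure {y0} : Subgroup G) : Set G) := h8 ▸ mem_top x
    rw [mul_normal] at h9
    obtain ⟨c, hc, l, hl, h9⟩ := h9
    have h10 : x⁻¹ * (g * x * g⁻¹) = l⁻¹ * (g * l * g⁻¹) := by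
      rw [← h9]
      simp only
      rw [← mul_assoc g, ← mem_centralizer_singleton_iff.1 hc]
      group
    have h11 := (H2.mem_powKer.1 (h7 (h10 ▸ mul_mem (inv_mem hl) (Normal.conj_mem inferInstance l hl g)))).2
    have h12 : (x⁻¹ * (g * x * g⁻¹)) ^ orderOf x = 1 := by
      rw [(hKa _ (inv_mem hx) _ (hK.conj_mem x hx g)).mul_pow, conj_pow, inv_pow, pow_orderOf_eq_one]
      simp
    have h13 := orderOf_eq_one_iff.1 (Nat.eq_one_of_dvd_coprimes (hcop hq0 hp hq0p hy0 hk)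
      (orderOf_dvd_of_pow_eq_one h11) (orderOf_dvd_of_pow_eq_one h12))
    rw [inv_mul_eq_one, eq_mul_inv_iff_mul_eq] at h13
    exact hgx (mem_centralizer_singleton_iff.2 h13.symm)
  push Not at h2
  obtain ⟨q, j, y, hq, hqp, hy, hyD, hj, hKy⟩ := h2
  have hG := htop y hy hyD K hKy
  have h3 : K ⊓ centralizer {y} = N ⊓ D := by
    refine (hmin _ (normalizer_eq_top_iff.1 (eq_top_iff.2 (hG.ge.trans (sup_le ?_ ?_))))
      (le_inf hZK.le (inf_le_right.trans (hDc y hy))) inf_le_left).resolve_right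
      fun e => hKy (inf_eq_left.1 e)
    · exact fun c hc => H4.mem_normalizer_of_conj_mem fun a ha => mem_inf.2
        ⟨hK.conj_mem a ha.1 c, mul_mem (mul_mem hc (mem_inf.1 ha).2) (inv_mem hc)⟩
    · exact fun c hc => H4.mem_normalizer_of_conj_mem fun a ha => by
        rwa [(hKa c hc a ha.1).eq, mul_inv_cancel_right]
  have hxy : x ∉ centralizer {y} := fun e => hxD (h3.le ⟨hx, e⟩).2
  have h4 : centralizer {x} ⊓ N ≤ K := by
    intro n hn
    have h5 : n ∈ ((centralizer {y} ⊔ K : Subgroup G) : Set G) := hG ▸ mem_top n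
    rw [mul_normal] at h5
    obtain ⟨c, hc, a, ha, rfl⟩ := h5
    refine K.mul_mem ?_ ha
    by_contra hcK
    obtain ⟨r, i, u, hr, hu, huK, hi⟩ := exists_primary_not_mem hcK
    have h5 : u ∈ centralizer {x} := zpowers_le.2 ((mul_mem_cancel_right (hKx x hx k hk ha)).1 hn.1) hu
    have h6 : u ∈ N := zpowers_le.2 ((mul_mem_cancel_right (hKN ha)).1 hn.2) hu
    have h7 := mem_centralizer_singleton_iff.1 (zpowers_le.2 hc hu)
    have h8 : u ∉ D := fun e => huK (hZK.le ⟨h6, e⟩)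
    by_cases hrp : r = p
    · subst hrp
      exact hxy (h.eq h6 hy h8 hyD h7 (hcop hr hq hqp.symm hi hj) ▸
        mem_centralizer_singleton_iff.2 (mem_centralizer_singleton_iff.1 h5).symm)
    · refine hxy (mem_centralizer_singleton_iff.2 (mem_centralizer_singleton_iff.1 ?_).symm)
      exact h.eq h6 (hKN hx) h8 hxD (mem_centralizer_singleton_iff.1 h5) (hcop hr hp hrp hi hk) ▸
        mem_centralizer_singleton_iff.2 h7.symm
  have hcq : ∀ w ∈ zpowers y, w ∈ K → w ∈ D := fun w hw hwK => hvK w hwK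
    (Nat.Coprime.coprime_dvd_left (orderOf_dvd_of_mem_zpowers hw)
      (hj ▸ ((Nat.coprime_primes hq hp).2 hqp).pow_left j))
  obtain ⟨i, h5, h6⟩ := exists_pow_not_mem (H := K) (p := q) (k := j) (fun e => hyD (hcq y (mem_zpowers y) e))
    (by rw [← hj, pow_orderOf_eq_one]; exact one_mem _)
  have h7 : y ^ q ^ i ∉ D := fun e => h5 (hZK.le ⟨pow_mem hy _, e⟩)
  have h8 : centralizer {y ^ q ^ i} = centralizer ({y} : Set G) :=
    (((h y hy hyD).le_iff_eq (h _ (pow_mem hy _) h7).1).1 fun c hc => mem_centralizer_singleton_iff.2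
      (Commute.pow_right (mem_centralizer_singleton_iff.1 hc) _))
  refine ⟨p, q, K, y ^ q ^ i, hp, hq, hqp.symm, hK, hZK, ?_, h5,
    hcq _ (pow_mem (npow_mem_zpowers y _) q) h6, hKe, hKa,
    fun a ha hc => (h3.le ⟨ha, h8 ▸ mem_centralizer_singleton_iff.2 hc⟩).2, hmin⟩
  have h9 : (K ⊔ zpowers (y ^ q ^ i)).Normal := H4.normal_sup_zpowers fun g => by
    have h5 : g ∈ ((centralizer {y} ⊔ K : Subgroup G) : Set G) := hG ▸ mem_top g
    rw [mul_normal, ← h8] at h5
    obtain ⟨c, hc, a, ha, rfl⟩ := h5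
    have h10 : ⁅y ^ q ^ i, c * a⁆ = c * (y ^ q ^ i * a * (y ^ q ^ i)⁻¹ * a⁻¹) * c⁻¹ := by
      rw [commutatorElement_def, ← mul_assoc _ c, ← mem_centralizer_singleton_iff.1 hc]
      group
    exact h10 ▸ hK.conj_mem _ (mul_mem (hK.conj_mem a ha _) (inv_mem ha)) c
  refine le_antisymm (sup_le hKN (zpowers_le.2 (pow_mem hy _))) fun n hn => ?_
  have h10 : n ∈ ((centralizer {x} ⊔ (K ⊔ zpowers (y ^ q ^ i)) : Subgroup G) : Set G) :=
    htop x (hKN hx) hxD _ (fun e => h5 (h4 ⟨e (mem_sup_right (mem_zpowers _)), pow_mem hy _⟩)) ▸ mem_top n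
  rw [mul_normal] at h10
  obtain ⟨c, hc, a, ha, rfl⟩ := h10
  exact mul_mem (mem_sup_left (h4 ⟨hc, (mul_mem_cancel_right
    (sup_le hKN (zpowers_le.2 (pow_mem hy _)) ha)).1 hn⟩)) ha

omit [Finite G] in
theorem commute_of_commutator_mem {p q : ℕ} (hp : p.Prime) (hq : q.Prime) (hpq : p ≠ q) {a y : G}
    (ha : a ∈ N) (hy : y ∈ N) (hap : a ^ p ∈ centralizer (N : Set G)) (hyq : y ^ q ∈ centralizer (N : Set G))
    (h : ⁅a, y⁆ ∈ centralizer (N : Set G)) : Commute a y := by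
  have h1 : ⁅a, y⁆ ^ p = 1 := by
    rw [← H3.commutator_pow_left_of_commute (h a ha), commutatorElement_eq_one_iff_mul_comm]
    exact (hap y hy).symm
  have h2 : ⁅a, y⁆ ^ q = 1 := by
    rw [← H3.commutator_pow_right_of_commute (h y hy), commutatorElement_eq_one_iff_mul_comm]
    exact hyq a ha
  exact commutatorElement_eq_one_iff_commute.1 (orderOf_eq_one_iff.1 (Nat.eq_one_of_dvd_coprimes
    ((Nat.coprime_primes hp hq).2 hpq) (orderOf_dvd_of_pow_eq_one h1) (orderOf_dvd_of_pow_eq_one h2)))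

theorem frob_of_prime {p q : ℕ} (hp : p.Prime) (hq : q.Prime) (hpq : p ≠ q) (K : Subgroup G) [K.Normal]
    {y : G} (hK1 : K ≠ ⊥) (hsup : K ⊔ zpowers y = ⊤) (hy : y ≠ 1) (hyq : y ^ q = 1)
    (hKe : ∀ a ∈ K, a ^ p = 1) (hfpf : ∀ a ∈ K, Commute a y → a = 1) :
    IsFrobeniusComplement (zpowers y) ∧ Nat.card (zpowers y) = q ∧ K.index = q ∧
      (K : Set G) = frobeniusKernel (zpowers y) := by
  have := Fact.mk hp
  have := Fact.mk hq
  have h1 := orderOf_eq_prime hyq hy
  have hK := H2.isPGroup_of_forall_pow_eq_one hKe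
  have h2 : Nat.card (zpowers y) = q := by rw [Nat.card_zpowers, h1]
  have hC := H2.isComplement'_of_normal_of_sup_of_inf K (zpowers y) hsup
    (H22.inf_eq_bot_of_pgroup_coprime hK (h2 ▸ (Nat.coprime_primes hq hp).2 hpq.symm))
  have hF : IsFrobeniusComplement (zpowers y) := by
    refine (S0039.result K _ hC hK1 (by rwa [Ne, zpowers_eq_bot])).2 fun c hc hc1 =>
      eq_bot_iff.2 fun x hx => hfpf x hx.1 ?_
    obtain ⟨i, rfl⟩ := (H2.zpowers_eq_of_mem_of_prime (h1 ▸ hq) hc hc1).ge (mem_zpowers y)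
    exact Commute.zpow_right (mem_centralizer_singleton_iff.1 hx.2) i
  obtain ⟨M, hM, hMn, hMC⟩ := S0035.result _ hF
  refine ⟨hF, h2, hC.symm.index_eq_card.trans h2,
    hM ▸ congrArg _ (eq_of_le_of_card_ge (H19.le_normal_of_coprime_index K M ?_) ?_)⟩
  · obtain ⟨k, hk⟩ := hK.exists_card_eq
    rw [hMC.symm.index_eq_card, h2, hk]
    exact ((Nat.coprime_primes hp hq).2 hpq).pow_left k
  · rw [← hMC.index_eq_card, hC.index_eq_card]

end Cfsg.Agent.H80
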