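import Cfsg.Agent.S0639
import Cfsg.Agent.H4.Omega
import Cfsg.Agent.H2.Basic

/-! Huppert's criterion `|G : ℧₁(G)| ≤ p²` for metacyclicity (`p` odd) and `p`-central groups. -/

set_option autoImplicit false

namespace Cfsg.Agent.H80

open Subgroup
open scoped commutatorElement

universe u

/-- The subgroup generated by the `p`-th powers has index at most `m`. -/
def PowIndexLE (p : ℕ) (R : Type*) [Group R] (m : ℕ) : Prop :=
  ∀ U : Subgroup R, (∀ x, x ^ p ∈ U) → U.index ≤ m

theorem PowIndexLE.of_surjective {p m : ℕ} {R Q : Type*} [Group R] [Group Q] (h : PowIndexLE p R m)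
    (f : R →* Q) (hf : Function.Surjective f) : PowIndexLE p Q m := by
  intro U hU
  rw [← U.index_comap_of_surjective hf]
  exact h _ fun x => by rw [mem_comap, map_pow]; exact hU _

theorem metacyclic_of_central' {R : Type*} [Group R] [Finite R] {p : ℕ} [hpp : Fact p.Prime]
    (hp : p ≠ 2) (hR : IsPGroup p R) (hs : PowIndexLE p R (p ^ 2)) (z : R) (hz : z ∈ center R)
    (hzp : z ^ p = 1) (hder : _root_.commutator R ≤ zpowers z) : IsMetacyclic R := by
  refine S0639.metacyclic_of_central hp hR (fun E hE => ?_) z hz hzp hder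
  have hodd : Odd p := hpp.out.odd_of_ne_two hp
  have hcen : _root_.commutator R ≤ center R := hder.trans ((zpowers_le).mpr hz)
  have hexp : ∀ x ∈ _root_.commutator R, x ^ p = 1 := by
    intro x hx
    obtain ⟨k, rfl⟩ := hder hx
    simp only
    rw [← zpow_natCast, ← zpow_mul, mul_comm, zpow_mul, zpow_natCast, hzp, one_zpow]
  have hhom : ∀ x y : R, (x * y) ^ p = x ^ p * y ^ p := fun x y =>
    H3.mul_pow_of_odd_of_commute_commutator (H3.commute_commutator hcen _ _ _)
      (H3.commute_commutator hcen _ _ _) hodd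
      (hexp _ (commutator_mem_commutator (mem_top _) (mem_top _)))
  let φ : R →* R := MonoidHom.mk' (fun x => x ^ p) hhom
  have h1 := φ.ker.card_mul_index
  rw [index_ker, ← φ.range.card_mul_index, mul_comm] at h1
  refine (card_le_of_le (show E ≤ φ.ker from hE)).trans ?_
  rw [Nat.eq_of_mul_eq_mul_left Nat.card_pos h1]
  exact hs _ fun x => ⟨x, rfl⟩

theorem huppert_aux {p : ℕ} [hpp : Fact p.Prime] (hp : p ≠ 2) (n : ℕ) :
    ∀ (R : Type u) [Group R] [Finite R], Nat.card R = n → IsPGroup p R → PowIndexLE p R (p ^ 2) →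
      IsMetacyclic R := by
  induction n using Nat.strong_induction_on with
  | _ n ih =>
    intro R _ _ hn hR hs
    by_cases hder : _root_.commutator R = ⊥
    · exact metacyclic_of_central' hp hR hs 1 (one_mem _) (one_pow p) (hder ▸ bot_le)
    obtain ⟨z, hzd, hz, hzo⟩ := H3.exists_mem_center_orderOf_eq hR (_root_.commutator R) hder
    have hzp : z ^ p = 1 := hzo ▸ pow_orderOf_eq_one z
    have hTn : (zpowers z).Normal := ⟨fun x hx g => by
      rw [mem_center_iff.mp ((zpowers_le).mpr hz hx) g, mul_inv_cancel_right]; exact hx⟩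
    have hT : Nat.card (zpowers z) = p := by rw [Nat.card_zpowers, hzo]
    have hlt : Nat.card (R ⧸ zpowers z) < n := by
      rw [← hn, ← (zpowers z).card_mul_index, hT]
      exact (Nat.lt_mul_iff_one_lt_left Nat.card_pos).mpr hpp.out.one_lt
    obtain ⟨N, hN, hNc, hQc⟩ := ih _ hlt (R ⧸ zpowers z) rfl (hR.to_quotient _)
      (hs.of_surjective _ (QuotientGroup.mk'_surjective _))
    set f := QuotientGroup.mk' (zpowers z) with hf
    have hfs : Function.Surjective f := QuotientGroup.mk'_surjective _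
    obtain ⟨a, ha⟩ := N.isCyclic_iff_exists_zpowers_eq_top.mp hNc
    obtain ⟨a, rfl⟩ := hfs a
    obtain ⟨b, hb⟩ := isCyclic_iff_exists_zpowers_eq_top.mp hQc
    obtain ⟨b, rfl⟩ := QuotientGroup.mk'_surjective _ b
    obtain ⟨b, rfl⟩ := hfs b
    have hS : N.comap f = zpowers a ⊔ zpowers z := by
      rw [← ha, ← MonoidHom.map_zpowers, comap_map_eq, QuotientGroup.ker_mk']
    have hSn : (zpowers a ⊔ zpowers z).Normal := hS ▸ hN.comap f
    have hgen : zpowers a ⊔ zpowers z ⊔ zpowers b = ⊤ := by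
      have h1 := congrArg (comap (QuotientGroup.mk' N)) hb
      rw [← MonoidHom.map_zpowers, comap_map_eq, QuotientGroup.ker_mk', comap_top,
        ← MonoidHom.map_zpowers] at h1
      have h2 := congrArg (comap f) h1
      rw [← comap_sup_eq f _ _ hfs, comap_top, hS, comap_map_eq, QuotientGroup.ker_mk'] at h2
      rw [eq_top_iff, ← h2]
      exact sup_le (sup_le le_sup_right (le_sup_of_le_left le_sup_right)) le_sup_left
    by_cases hza : z ∈ zpowers a
    · have h1 : zpowers a ⊔ zpowers z = zpowers a := sup_eq_left.mpr ((zpowers_le).mpr hza)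
      rw [h1] at hSn hgen
      refine ⟨zpowers a, hSn, inferInstance,
        isCyclic_iff_exists_zpowers_eq_top.mpr ⟨QuotientGroup.mk' _ b, ?_⟩⟩
      have := congrArg (map (QuotientGroup.mk' (zpowers a))) hgen
      rwa [Subgroup.map_sup, QuotientGroup.map_mk'_self, bot_sup_eq, MonoidHom.map_zpowers,
        map_top_of_surjective _ (QuotientGroup.mk'_surjective _)] at this
    have hwS : ⁅a, b⁆ ∈ zpowers a ⊔ zpowers z :=
      commutator_le_left _ ⊤ (commutator_mem_commutator (mem_sup_left (mem_zpowers a)) (mem_top b))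
    rw [← SetLike.mem_coe, mul_normal] at hwS
    obtain ⟨_, ⟨i, rfl⟩, _, ⟨j, rfl⟩, hw⟩ := hwS
    have hw' : ⁅a, b⁆ = a ^ i * z ^ j := hw.symm
    have hle := S0639.commutator_le_zpowers a b z hz hgen i j hw'
    apply metacyclic_of_central' hp hR hs z hz hzp (hle.trans ?_)
    obtain ⟨k, hk⟩ := hle hzd
    simp only at hk
    have hpk : ¬ (p : ℤ) ∣ k := by
      rintro ⟨m, rfl⟩
      apply hza
      have hc : Commute (a ^ i) (z ^ j) :=
        (Commute.zpow_zpow (mem_center_iff.mp hz a) i j)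
      rw [hw', hc.mul_zpow, ← zpow_mul z, mul_left_comm j, zpow_mul z, zpow_natCast, hzp, one_zpow,
        mul_one, ← zpow_mul] at hk
      exact ⟨_, hk⟩
    -- `k` is prime to the order of `⁅a, b⁆`
    obtain ⟨e, he⟩ := IsPGroup.iff_orderOf.mp hR ⁅a, b⁆
    rw [zpowers_le, ← hk, mem_zpowers_zpow_iff, he]
    have : IsCoprime (p : ℤ) k :=
      (Int.prime_iff_natAbs_prime.mpr (by simpa using hpp.out)).irreducible.coprime_iff_not_dvd.mpr
        hpk
    push_cast
    exact Int.isCoprime_iff_gcd_eq_one.mp (this.symm.pow_right)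

/-- Huppert: for odd `p`, a `p`-group with `|G : ℧₁(G)| ≤ p²` is metacyclic. -/
theorem huppert {R : Type*} [Group R] [Finite R] {p : ℕ} [Fact p.Prime] (hp : p ≠ 2)
    (hR : IsPGroup p R) (h : PowIndexLE p R (p ^ 2)) : IsMetacyclic R :=
  huppert_aux hp _ R rfl hR h

/-- In a `p`-central group (`p` odd), elements of order dividing `p²` are central modulo `Ω₁`. -/
theorem pcentral_comm {p : ℕ} [hpp : Fact p.Prime] (hp : p ≠ 2) (G : Type u) [Group G] [Finite G]
    (hG : IsPGroup p G) (hc : ∀ a : G, a ^ p = 1 → a ∈ center G) (x : G) (hx : (x ^ p) ^ p = 1)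
    (h : G) : ⁅x, h⁆ ^ p = 1 := by
  induction hn : Nat.card G using Nat.strong_induction_on generalizing G with | _ n ih =>
  subst hn
  rcases eq_top_or_exists_le_coatom (zpowers x) with h1 | ⟨M, hM, hxM⟩
  · obtain ⟨k, rfl⟩ : h ∈ zpowers x := h1 ▸ mem_top h
    rw [(Commute.self_zpow x k).commutator_eq, one_pow]
  have hMn := H3.normal_of_isCoatom hG hM
  have hx1 := hxM (mem_zpowers x)
  have hx2 := hMn.conj_mem _ (inv_mem hx1) h
  have h2 := ih _ (H2.card_lt_of_ne_top hM.1) M (hG.to_subgroup M)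
    (fun a ha => mem_center_iff.2 fun b => Subtype.ext
      (mem_center_iff.1 (hc a (congrArg Subtype.val ha)) b)) ⟨x, hx1⟩ (Subtype.ext hx) ⟨_, hx2⟩ rfl
  have h3 : ⁅x, h * x⁻¹ * h⁻¹⁆ ^ p = 1 := congrArg Subtype.val h2
  have h4 : ⁅h * x⁻¹ * h⁻¹, x⁆ ^ p = 1 := by rw [← commutatorElement_inv, inv_pow, h3, inv_one]
  have h5 := mem_center_iff.1 (hc _ h4)
  rw [show ⁅x, h⁆ = x * (h * x⁻¹ * h⁻¹) by rw [commutatorElement_def]; group,
    H3.mul_pow_of_odd_of_commute_commutator (h5 _) (h5 _) (hpp.out.odd_of_ne_two hp) h4, conj_pow,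
    inv_pow, mem_center_iff.1 (inv_mem (hc _ hx)) h]
  group

theorem pcentral_mul_pow {p : ℕ} [hpp : Fact p.Prime] (hp : p ≠ 2) {G : Type*} [Group G] [Finite G]
    (hG : IsPGroup p G) (hc : ∀ a : G, a ^ p = 1 → a ∈ center G) (x : G) (hx : (x ^ p) ^ p = 1)
    (h : G) : (h * x) ^ p = h ^ p * x ^ p := by
  have h1 := pcentral_comm hp G hG hc x hx h
  have h2 := mem_center_iff.1 (hc _ h1)
  exact H3.mul_pow_of_odd_of_commute_commutator (h2 _) (h2 _) (hpp.out.odd_of_ne_two hp) h1

/-- In a `p`-central group (`p` odd), `|G : ℧₁(G)| ≤ |Ω₁(G)|`. -/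
theorem pcentral_powIndexLE {p : ℕ} [hpp : Fact p.Prime] (hp : p ≠ 2) (G : Type u) [Group G]
    [Finite G] (hG : IsPGroup p G) (hc : ∀ a : G, a ^ p = 1 → a ∈ center G) (A : Subgroup G)
    (hA : ∀ a, a ∈ A ↔ a ^ p = 1) : PowIndexLE p G (Nat.card A) := by
  induction hn : Nat.card G using Nat.strong_induction_on generalizing G with | _ n ih =>
  subst hn
  intro U hU
  by_cases h1 : A = ⊥
  · have : U = ⊤ := by
      by_contra h2
      have : Nontrivial G := by
        by_contra h3
        rw [not_nontrivial_iff_subsingleton] at h3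
        exact h2 (Subsingleton.elim _ _)
      obtain ⟨z, -, -, hz⟩ := H3.exists_mem_center_orderOf_eq hG ⊤ top_ne_bot
      have h3 := (hA z).2 (hz ▸ pow_orderOf_eq_one z)
      rw [h1, mem_bot] at h3
      rw [h3, orderOf_one] at hz
      exact hpp.out.ne_one hz.symm
    rw [this, index_top]
    exact Nat.card_pos
  have hAn : A.Normal := ⟨fun a ha g => by
    rwa [mem_center_iff.1 (hc a ((hA a).1 ha)) g, mul_inv_cancel_right]⟩
  let B : Subgroup G :=
    { carrier := {x | (x ^ p) ^ p = 1}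
      one_mem' := by simp
      mul_mem' := fun {x y} hx hy => by
        rw [Set.mem_setOf_eq, pcentral_mul_pow hp hG hc y hy x, ← hA]
        exact mul_mem ((hA _).2 hx) ((hA _).2 hy)
      inv_mem' := fun {x} hx => by rw [Set.mem_setOf_eq, inv_pow, inv_pow, hx, inv_one] }
  have hAB : A ≤ B := fun a ha => show (a ^ p) ^ p = 1 by rw [(hA a).1 ha, one_pow]
  have h2 : ∀ x : G, ((x : G ⧸ A)) ^ p = 1 ↔ x ∈ B := fun x => by
    rw [← QuotientGroup.mk_pow, QuotientGroup.eq_one_iff, hA]; rfl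
  have h3 := ih _ (H2.card_quotient_lt A h1) (G ⧸ A) (hG.to_quotient A) (fun a ha => by
      obtain ⟨x, rfl⟩ := QuotientGroup.mk_surjective a
      refine mem_center_iff.2 fun b => ?_
      obtain ⟨y, rfl⟩ := QuotientGroup.mk_surjective b
      rw [eq_comm, ← commutatorElement_eq_one_iff_mul_comm]
      exact (QuotientGroup.eq_one_iff ⁅x, y⁆).2 ((hA _).2 (pcentral_comm hp G hG hc x ((h2 x).1 ha) y)))
    (B.map (QuotientGroup.mk' A)) (fun a => by
      obtain ⟨x, rfl⟩ := QuotientGroup.mk_surjective a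
      rw [h2]
      refine ⟨?_, fun h => ⟨x, h, rfl⟩⟩
      rintro ⟨y, hy, h⟩
      exact (h2 x).1 (h ▸ (h2 y).2 hy)) rfl (U.map (QuotientGroup.mk' A)) (fun a => by
      obtain ⟨x, rfl⟩ := QuotientGroup.mk_surjective a
      exact ⟨_, hU x, rfl⟩)
  rw [index_map, QuotientGroup.ker_mk', QuotientGroup.range_mk', index_top, mul_one,
    ← relIndex_ker, QuotientGroup.ker_mk'] at h3
  have h4 := H4.card_le_card_omega_mul B p (fun x _ y hy => pcentral_mul_pow hp hG hc y hy x)
    (U ⊓ A) (fun x hx => ⟨hU x, (hA _).2 hx⟩) A fun x _ hx => (hA x).2 hx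
  rw [← H2.card_mul_relIndex_of_le hAB] at h4
  have h5 := Nat.le_of_mul_le_mul_left h4 Nat.card_pos
  have h6 := H2.card_sup_mul_card_inf_of_normal U A
  have h7 := (U ⊔ A).card_mul_index
  rw [← U.card_mul_index] at h7
  have h8 : Nat.card U * U.index ≤ Nat.card U * Nat.card A := by
    rw [← h7, ← h6]
    exact Nat.mul_le_mul_left _ (h3.trans h5)
  exact Nat.le_of_mul_le_mul_left h8 Nat.card_pos

end Cfsg.Agent.H80
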